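import Groth.Agent.Neutral.Basic
import Groth.Agent.ArtGrpLib.Component
import Groth.Agent.WeilClosedLib.Transporter

/-! The identity component of a group scheme over a field, with few imports. -/

set_option autoImplicit false
set_option backward.isDefEq.respectTransparency false
set_option backward.isDefEq.respectTransparency.types false
set_option linter.style.haveILetI false

universe u

open CategoryTheory CategoryTheory.Limits MonoidalCategory CartesianMonoidalCategory MonObj GrpObj AlgebraicGeometry

noncomputable section

namespace Groth.Agent.ObsLib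

variable {k : Type u} [Field k]

theorem exists_identityComponent (G : Over (Spec (CommRingCat.of k))) [GrpObj G] [LocallyOfFiniteType G.hom] :
    ∃ (G0 : Over (Spec (CommRingCat.of k))) (_ : GrpObj G0) (i : G0 ⟶ G), IsMonHom i ∧ IsOpenImmersion i.left ∧
      Set.range i.left.base = connectedComponent (GrpSchLib.unitPt G) := by
  haveI : IsLocallyNoetherian G.left := LocallyOfFiniteType.isLocallyNoetherian G.hom
  rw [← Neutral.neutralSet_field]
  have h : IsOpen (SGA3x.neutralSet G) := by
    rw [Neutral.neutralSet_field]; exact ArtGrpLib.isOpen_connectedComponent _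
  let W : G.left.Opens := ⟨SGA3x.neutralSet G, h⟩
  let K : Over (Spec (CommRingCat.of k)) := Over.mk (W.ι ≫ G.hom)
  let i : K ⟶ G := Over.homMk W.ι rfl
  haveI : IsOpenImmersion i.left := inferInstanceAs (IsOpenImmersion W.ι)
  haveI : Mono i := (Over.forget _).mono_of_mono_map (inferInstanceAs (Mono W.ι))
  have hr : Set.range i.left = SGA3x.neutralSet G := W.range_ι
  have hfac : ∀ (T : Over (Spec (CommRingCat.of k))) (g : T ⟶ G), Set.range g.left ⊆ SGA3x.neutralSet G → ∃ z : T ⟶ K, z ≫ i = g := fun T g hg =>
    ⟨Over.homMk (IsOpenImmersion.lift i.left g.left (hr ▸ hg)) (by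
      show _ ≫ W.ι ≫ G.hom = T.hom
      rw [← Category.assoc]
      exact (congrArg (· ≫ G.hom) (IsOpenImmersion.lift_fac i.left g.left _)).trans (Over.w g)),
      Over.OverMorphism.ext (IsOpenImmersion.lift_fac i.left g.left _)⟩
  have hrange : ∀ (T : Over (Spec (CommRingCat.of k))) (a : T ⟶ K), Set.range (a ≫ i).left ⊆ SGA3x.neutralSet G := fun T a => by
    rintro _ ⟨t, rfl⟩
    exact hr.le ⟨a.left t, rfl⟩
  obtain ⟨str, hmon⟩ := WeilClosedLib.exists_grpObj_of_closed i
    (hfac _ η[G] (Neutral.range_unit_subset (G := G)))
    (fun T a b => hfac _ _ (Neutral.range_mul_subset _ _ (hrange T a) (hrange T b)))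
    (fun T a => hfac _ _ (Neutral.range_inv_subset _ (hrange T a)))
  exact ⟨K, str, i, hmon, inferInstance, hr⟩

end Groth.Agent.ObsLib
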