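import Groth.Agent.AGFObsLib.Points
import Groth.Agent.FpqcDesc.Stalk
import Groth.Prelude.Def_AGF
import Mathlib

/-! Invariant functions along a subgroup with proper connected quotient. -/

set_option autoImplicit false
set_option backward.isDefEq.respectTransparency false

universe u

open CategoryTheory MonoidalCategory CartesianMonoidalCategory MonObj AlgebraicGeometry

noncomputable section

namespace Groth.Agent.ObsLib

open AGFObs (ev algΓ taut toPt)

attribute [local instance] AGFObs.algΓ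

variable {k : Type u} [Field k]

/-- A function with the same pullbacks to the fibre square of a faithfully flat map descends. -/
theorem exists_descend {H X Z : Scheme.{u}} (p : H ⟶ X) [Flat p] [Surjective p] [QuasiCompact p]
    {a b : Z ⟶ H} (hpb : IsPullback a b p p) (φ : Γ(H, ⊤)) (hφ : a.appTop φ = b.appTop φ) :
    ∃ ψ : Γ(X, ⊤), p.appTop ψ = φ := by
  let R := CommRingCat.of (Polynomial (ULift.{u} ℤ))
  let c : ULift.{u} ℤ →+* Γ(H, ⊤) := (Int.castRingHom Γ(H, ⊤)).comp ULift.ringEquiv.toRingHom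
  let e : R ⟶ Γ(H, ⊤) := CommRingCat.ofHom (Polynomial.eval₂RingHom c φ)
  obtain ⟨m, hm⟩ : ∃ m : H ⟶ Spec R, (Scheme.ΓSpecIso R).inv ≫ m.appTop = e := ⟨H.toSpecΓ ≫ Spec.map e, by
    rw [Scheme.Hom.comp_appTop, Scheme.toSpecΓ_appTop, Scheme.ΓSpecIso_naturality, Iso.inv_hom_id_assoc]⟩
  have hX : m.appTop ((Scheme.ΓSpecIso R).inv Polynomial.X) = φ :=
    (congrArg (fun f => f.hom (Polynomial.X : Polynomial (ULift.{u} ℤ))) hm).trans (Polynomial.eval₂_X _ _)
  have hab : a ≫ m = b ≫ m := by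
    refine ext_of_isAffine ?_
    rw [← cancel_epi (Scheme.ΓSpecIso R).inv, Scheme.Hom.comp_appTop, Scheme.Hom.comp_appTop, reassoc_of% hm,
      reassoc_of% hm]
    refine CommRingCat.hom_ext (Polynomial.ringHom_ext' ?_ ?_)
    · exact RingHom.ext fun z => by
        obtain ⟨z⟩ := z
        simp [e, c]
    · show a.appTop (Polynomial.eval₂ c φ Polynomial.X) = b.appTop (Polynomial.eval₂ c φ Polynomial.X)
      rw [Polynomial.eval₂_X]
      exact hφ
  have hdesc : ∀ {W : Scheme.{u}} (g₁ g₂ : W ⟶ H), g₁ ≫ p = g₂ ≫ p → g₁ ≫ m = g₂ ≫ m := by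
    intro W g₁ g₂ h
    calc g₁ ≫ m = (hpb.lift g₁ g₂ h ≫ a) ≫ m := by rw [hpb.lift_fst]
      _ = (hpb.lift g₁ g₂ h ≫ b) ≫ m := by rw [Category.assoc, hab, Category.assoc]
      _ = g₂ ≫ m := by rw [hpb.lift_snd]
  let mX := EffectiveEpi.desc p m hdesc
  refine ⟨mX.appTop ((Scheme.ΓSpecIso R).inv Polynomial.X), ?_⟩
  rw [← CommRingCat.comp_apply, ← Scheme.Hom.comp_appTop, EffectiveEpi.fac]
  exact hX

/-- Global functions on an integral proper variety are constant. -/
theorem exists_const_of_proper [IsAlgClosed k] {X : Scheme.{u}} (f : X ⟶ Spec (CommRingCat.of k)) [IsProper f]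
    [IsIntegral X] (ψ : Γ(X, ⊤)) : ∃ c : k, f.appTop ((Scheme.ΓSpecIso (CommRingCat.of k)).inv c) = ψ := by
  let F : k →+* Γ(X, ⊤) := ((Scheme.ΓSpecIso (CommRingCat.of k)).inv ≫ f.appTop).hom
  have hF : F.Finite := by
    have h := finite_appTop_of_universallyClosed k f
    exact RingHom.Finite.comp h (RingHom.Finite.of_surjective _
      (Scheme.ΓSpecIso (CommRingCat.of k)).commRingCatIsoToRingEquiv.symm.surjective)
  letI := F.toAlgebra
  letI := (isField_of_universallyClosed k f).toField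
  haveI : Module.Finite k Γ(X, ⊤) := hF
  obtain ⟨c, hc⟩ := (IsAlgClosed.algebraMap_bijective_of_isIntegral (k := k) (K := Γ(X, ⊤))).2 ψ
  exact ⟨c, hc⟩

variable {G H₁ H₂ : Over (Spec (CommRingCat.of k))} [GrpObj G] [GrpObj H₁] [GrpObj H₂]

theorem comp_lTr_eq (g : VecGrp.pt k k ⟶ G) {T : Over (Spec (CommRingCat.of k))} (y : T ⟶ G) :
    y ≫ AGFObs.lTr g = (toPt T ≫ g) * y := by
  rw [Hom.mul_def, AGFObs.lTr, ← Category.assoc, comp_lift, Category.comp_id, ← Category.assoc]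
  congr 3
  apply Over.OverMorphism.ext
  show y.left ≫ G.hom = T.hom
  exact Over.w y

theorem rTransInv_comp_eq [IsAlgClosed k] [IsAffine G.left] [Smooth G.hom] [Smooth H₂.hom] [Smooth H₁.hom]
    (i₂ : H₂ ⟶ G) [IsMonHom i₂] [IsClosedImmersion i₂.left] (i₁ : H₁ ⟶ H₂) [IsMonHom i₁] [IsClosedImmersion i₁.left]
    (X : Over (Spec (CommRingCat.of k))) (a : AlgGrp.Action H₂ X) (o : 𝟙_ (Over (Spec (CommRingCat.of k))) ⟶ X)
    (hX : AGF.IsQuotient i₁ X a o) [IsProper X.hom] [IrreducibleSpace X.left] :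
    AGF.rTransInv (i₁ ≫ i₂) = AGF.rTransInv i₂ := by
  haveI : IsAffine H₂.left := isAffine_of_isAffineHom i₂.left
  haveI : IsAffine H₁.left := isAffine_of_isAffineHom i₁.left
  haveI := AGFObs.isAffine_tensor (G := G) (H := H₁)
  haveI := AGFObs.isAffine_tensor (G := H₂) (H := H₁)
  obtain ⟨-, hfl, hsu, hpb⟩ := hX
  haveI : Flat (a.orbitMap o).left := hfl
  haveI : Surjective (a.orbitMap o).left := hsu
  haveI : QuasiCompact ((a.orbitMap o).left ≫ X.hom) := by rw [Over.w]; infer_instance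
  haveI : QuasiCompact (a.orbitMap o).left := QuasiCompact.of_comp (a.orbitMap o).left X.hom
  haveI : AlgebraicGeometry.IsReduced H₂.left := ASp.isReduced_of_smooth H₂.hom
  haveI := FlatDescStalk.isReduced_of_flat_surjective (a.orbitMap o).left
  haveI : IsIntegral X.left := isIntegral_of_irreducibleSpace_of_isReduced X.left
  refine SetLike.ext fun f => ?_
  rw [AGF.mem_rTransInv_iff, AGF.mem_rTransInv_iff]
  constructor
  swap
  · intro hf
    refine AGFObs.isRTransInv_of_ev fun B _ _ x t => ?_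
    rw [← Category.assoc]
    exact AGFObs.ev_eq_of_isRTransInv hf x (t ≫ i₁)
  intro hf
  haveI := AGFObs.isAffine_tensor (G := G) (H := H₂)
  haveI : Smooth (G ⊗ H₂).hom := SepPtsLib.smooth_tensor
  haveI := ASp.isReduced_of_smooth (G ⊗ H₂).hom
  show AGFObs.Γmap ((G ◁ i₂) ≫ μ[G]) f = AGFObs.Γmap (fst G H₂) f
  refine AGFObs.eq_of_ev fun z => ?_
  rw [← AlgHom.comp_apply, ← AGFObs.ev_comp, ← AlgHom.comp_apply, ← AGFObs.ev_comp]
  set g := z ≫ fst G H₂
  set h := z ≫ snd G H₂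
  have hz : z ≫ (G ◁ i₂) ≫ μ[G] = g * (h ≫ i₂) := by
    rw [Hom.mul_def, ← Category.assoc]
    congr 1
    apply CartesianMonoidalCategory.hom_ext <;> simp [g, h]
  rw [hz]
  let φ : Γ(H₂.left, ⊤) := AGFObs.Γmap (i₂ ≫ AGFObs.lTr g) f
  have hev : ∀ {B : Type u} [CommRing B] [Algebra k B] (y : VecGrp.pt k B ⟶ H₂),
      ev y φ = ev ((toPt _ ≫ g) * (y ≫ i₂)) f := by
    intro B _ _ y
    rw [← AlgHom.comp_apply, ← AGFObs.ev_comp, ← Category.assoc, comp_lTr_eq]
  have hφ : AGF.IsRTransInv i₁ φ := by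
    refine AGFObs.isRTransInv_of_ev fun B _ _ y t => ?_
    rw [hev, hev, MonObj.mul_comp, ← _root_.mul_assoc, Category.assoc]
    exact AGFObs.ev_eq_of_isRTransInv hf _ t
  obtain ⟨ψ, hψ⟩ := exists_descend (a.orbitMap o).left (hpb.map (Over.forget _)) φ
    (show (fst H₂ H₁).left.appTop φ = ((H₂ ◁ i₁) ≫ μ[H₂]).left.appTop φ from hφ.symm)
  obtain ⟨c, rfl⟩ := exists_const_of_proper X.hom ψ
  have hc : φ = algebraMap k Γ(H₂.left, ⊤) c := by
    rw [← hψ, ← CommRingCat.comp_apply, ← Scheme.Hom.comp_appTop, Over.w]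
    rfl
  have h1 : ev h φ = ev (1 : VecGrp.pt k k ⟶ H₂) φ := by rw [hc, AlgHom.commutes, AlgHom.commutes]
  rw [hev, hev, AGFObs.pt_endo (toPt _), Category.id_comp, MonObj.one_comp, _root_.mul_one] at h1
  exact h1

end Groth.Agent.ObsLib
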