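import Groth.Agent.ObsLib.Chars
import Groth.Agent.ObsLib.ProperQuot
import Mathlib

/-! A subgroup is observable exactly when the quotient is quasi-affine. -/

set_option autoImplicit false
set_option backward.isDefEq.respectTransparency false
set_option linter.style.haveILetI false

universe u

open CategoryTheory MonoidalCategory CartesianMonoidalCategory MonObj AlgebraicGeometry WithConv
open scoped TensorProduct

noncomputable section

namespace Groth.Agent.ObsLib

open Comodule (ptAct StabLine exists_line_trivial_character)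
open AGFObs (ev algΓ taut)

attribute [local instance] AGFObs.algΓ

variable {k : Type u} [Field k]

/-- A compact scheme with a separated quasi-finite morphism to an affine scheme is quasi-affine. -/
theorem isQuasiAffine_of_quasiFinite {X Y : Scheme.{u}} (g : X ⟶ Y) [IsAffine Y] [CompactSpace X]
    [LocallyQuasiFinite g] [LocallyOfFiniteType g] [IsSeparated g] : X.IsQuasiAffine := by
  haveI : QuasiCompact g := (quasiCompact_iff_compactSpace g).mpr inferInstance
  haveI : IsAffine g.normalization := isAffine_of_isAffineHom g.fromNormalization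
  exact Scheme.IsQuasiAffine.of_isImmersion g.toNormalization

/-- Equality of morphisms is detected on faithfully flat covers. -/
theorem mono_of_cover {H X Y : Scheme.{u}} (p : H ⟶ X) [Flat p] [Surjective p] [QuasiCompact p] (g : X ⟶ Y)
    (h : Limits.pullback.fst (p ≫ g) (p ≫ g) ≫ p = Limits.pullback.snd (p ≫ g) (p ≫ g) ≫ p) : Mono g := by
  refine ⟨fun {T} t₁ t₂ e => ?_⟩
  let s₁ := Limits.pullback.fst t₁ p
  let y₁ := Limits.pullback.snd t₁ p
  let s₂ := Limits.pullback.fst (s₁ ≫ t₂) p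
  let y₂ := Limits.pullback.snd (s₁ ≫ t₂) p
  have e₁ : s₁ ≫ t₁ = y₁ ≫ p := Limits.pullback.condition
  have e₂ : (s₂ ≫ s₁) ≫ t₂ = y₂ ≫ p := (Category.assoc _ _ _).trans Limits.pullback.condition
  let l := Limits.pullback.lift (f := p ≫ g) (g := p ≫ g) (s₂ ≫ y₁) y₂ (by
    rw [← Category.assoc y₂, ← e₂, Category.assoc, Category.assoc, Category.assoc, ← e, ← Category.assoc y₁, ← e₁,
      Category.assoc])
  have hl := congrArg (l ≫ ·) h
  simp only [l, Limits.pullback.lift_fst_assoc, Limits.pullback.lift_snd_assoc] at hl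
  haveI : EffectiveEpi s₁ := inferInstance
  haveI : EffectiveEpi s₂ := inferInstance
  rw [← cancel_epi s₁, ← cancel_epi s₂, ← Category.assoc s₂ s₁ t₂, e₂, e₁, ← hl, Category.assoc]

variable {G H : Over (Spec (CommRingCat.of k))} [GrpObj G] [GrpObj H]

/-- A subgroup with quasi-affine quotient is observable. -/
theorem isObservableIn_of_quasiAffine [IsAffine G.left] (i : H ⟶ G)
    (X : Over (Spec (CommRingCat.of k))) (a : AlgGrp.Action G X) (o : 𝟙_ (Over (Spec (CommRingCat.of k))) ⟶ X)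
    (hX : AGF.IsQuotient i X a o) [X.left.IsQuasiAffine] : AGF.IsObservableIn k i := by
  obtain ⟨-, -, -, hpb⟩ := hX
  intro g hg
  set p := a.orbitMap o
  have hev : ∀ ψ : Γ(X.left, ⊤), ev (g ≫ p) ψ = ev ((1 : VecGrp.pt k k ⟶ G) ≫ p) ψ := fun ψ => by
    have hinv : AGF.IsRTransInv i (AGFObs.Γmap p ψ) := by
      show AGFObs.Γmap ((G ◁ i) ≫ μ[G]) (AGFObs.Γmap p ψ) = AGFObs.Γmap (fst G H) (AGFObs.Γmap p ψ)
      rw [← AlgHom.comp_apply, ← AGFObs.Γmap_comp, ← AlgHom.comp_apply, ← AGFObs.Γmap_comp, hpb.w]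
    have h := AGFObs.ev_eq_of_isRTransInv (hg _ hinv) (1 : VecGrp.pt k k ⟶ G) (𝟙 _)
    rwa [Category.id_comp, _root_.one_mul, ← AlgHom.comp_apply, ← AGFObs.ev_comp, ← AlgHom.comp_apply,
      ← AGFObs.ev_comp] at h
  have heq : g ≫ p = (1 : VecGrp.pt k k ⟶ G) ≫ p := by
    apply Over.OverMorphism.ext
    rw [← cancel_mono X.left.toSpecΓ, Scheme.toSpecΓ_naturality, Scheme.toSpecΓ_naturality]
    congr 2
    refine CommRingCat.hom_ext (RingHom.ext fun ψ => ?_)
    exact (Scheme.ΓSpecIso (CommRingCat.of k)).commRingCatIsoToRingEquiv.injective (hev ψ)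
  let l := hpb.lift (1 : VecGrp.pt k k ⟶ G) g heq.symm
  refine ⟨l ≫ snd G H, ?_⟩
  have h1 := hpb.lift_fst (1 : VecGrp.pt k k ⟶ G) g heq.symm
  have h2 := hpb.lift_snd (1 : VecGrp.pt k k ⟶ G) g heq.symm
  have hmul : (G ◁ i) ≫ μ[G] = fst G H * (snd G H ≫ i) := by
    rw [Hom.mul_def]
    congr 1
  have h3 := (congrArg (l ≫ ·) hmul).symm.trans h2
  simp only [MonObj.comp_mul] at h3
  rw [h1, _root_.one_mul, ← Category.assoc] at h3
  exact h3

variable [IsAlgClosed k] [IsAffine G.left] [Smooth G.hom] [Smooth H.hom]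

/-- An observable subgroup has quasi-affine quotient. -/
theorem isQuasiAffine_of_observable (i : H ⟶ G) [IsMonHom i] [IsClosedImmersion i.left]
    (X : Over (Spec (CommRingCat.of k))) (a : AlgGrp.Action G X) (o : 𝟙_ (Over (Spec (CommRingCat.of k))) ⟶ X)
    (hX : AGF.IsQuotient i X a o) (ho : AGF.IsObservableIn k i) : X.left.IsQuasiAffine := by
  classical
  haveI : IsAffine H.left := isAffine_of_isAffineHom i.left
  obtain ⟨C⟩ := nonempty_chart G
  obtain ⟨D⟩ := nonempty_chart H
  haveI := finiteType_chart C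
  haveI := isReduced_chart C
  haveI := finiteType_chart D
  haveI := isReduced_chart D
  haveI : IsNoetherianRing C.A := Algebra.FiniteType.isNoetherianRing k C.A
  have hobs := (isObservableIn_iff C D i).mp ho
  obtain ⟨V, _, _, c, _, v, -, hv, hstab⟩ := exists_line_trivial_character (C.hom D i) (fun χ hχ hocc => by
    obtain ⟨W, _, _, cW, _, w, hw0, hw⟩ := hocc
    obtain ⟨f, hf0, hf⟩ := exists_semi_of_vector _ cW hw0 hw
    obtain ⟨g, hg0, hg⟩ := exists_semi_inv _ hobs hχ.antipode_mul_cancel hf hf0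
    obtain ⟨W', _, _, hW', c', w', hw'0, hw'⟩ := exists_vector_of_semi _ hg hg0
    exact ⟨1, one_pos, HopfAlgebra.antipode k χ, hχ.antipode, by rw [pow_one]; exact hχ.antipode_mul_cancel,
      W', inferInstance, inferInstance, c', hW', w', hw'0, hw'⟩)
  obtain ⟨-, hfl, hsu, hpb⟩ := id hX
  haveI := hX.1
  set p := a.orbitMap o
  haveI : Flat p.left := hfl
  haveI : Surjective p.left := hsu
  haveI : CompactSpace X.left := ⟨by
    rw [← p.left.surjective.range_eq]
    exact isCompact_range p.left.continuous⟩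
  let b := Module.finBasis k V
  let m : Fin (Module.finrank k V) → C.A := fun j => mcoef c (b.coord j) v
  have hdesc : ∀ j, ∃ ψ : Γ(X.left, ⊤), C.fn (AGFObs.Γmap p ψ) = m j := fun j => by
    obtain ⟨f, hf⟩ := (fn_bijective C).2 (m j)
    have hinv : AGF.IsRTransInv i f := by
      rw [isRTransInv_iff_inv C D, hf]
      show (C.hom D i : C.A →ₐ[k] D.A).toLinearMap.lTensor C.A (Coalgebra.comul (R := k) (mcoef c (b.coord j) v)) = _
      rw [comul_mcoef, ComodTens.lTensor_rTensor_comm,
        show (C.hom D i : C.A →ₐ[k] D.A).toLinearMap.lTensor V (c.coact v) = v ⊗ₜ[k] (1 : D.A) from hv,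
        LinearMap.rTensor_tmul]
    haveI : QuasiCompact (p.left ≫ X.hom) := by rw [Over.w]; infer_instance
    haveI : QuasiSeparated X.hom := by
      haveI : IsLocallyNoetherian X.left := LocallyOfFiniteType.isLocallyNoetherian X.hom
      infer_instance
    haveI : QuasiCompact p.left := QuasiCompact.of_comp p.left X.hom
    obtain ⟨ψ, hψ⟩ := exists_descend p.left (hpb.map (Over.forget _)) f hinv.symm
    exact ⟨ψ, by rw [AGFObs.Γmap_apply, hψ, hf]⟩
  choose ψ hψ using hdesc
  let P := MvPolynomial (Fin (Module.finrank k V)) k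
  let Y : Over (Spec (CommRingCat.of k)) := VecGrp.pt k P
  let ev₀ : P →ₐ[k] Γ(X.left, ⊤) := MvPolynomial.aeval ψ
  let g₀ : X.left ⟶ Y.left := X.left.toSpecΓ ≫ Spec.map (CommRingCat.ofHom ev₀.toRingHom)
  have hg₀ : g₀ ≫ Y.hom = X.hom := by
    refine ext_of_isAffine ?_
    rw [← cancel_epi (Scheme.ΓSpecIso (CommRingCat.of k)).inv]
    show (Scheme.ΓSpecIso (CommRingCat.of k)).inv ≫ ((X.left.toSpecΓ ≫ Spec.map (CommRingCat.ofHom ev₀.toRingHom)) ≫
      Spec.map (CommRingCat.ofHom (algebraMap k P))).appTop = _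
    rw [Category.assoc, ← Spec.map_comp, Scheme.Hom.comp_appTop, Scheme.toSpecΓ_appTop, Scheme.ΓSpecIso_naturality,
      Iso.inv_hom_id_assoc]
    exact CommRingCat.hom_ext ev₀.comp_algebraMap
  let g : X ⟶ Y := Over.homMk g₀ hg₀
  haveI : IsAffine Y.left := inferInstanceAs (IsAffine (Spec (CommRingCat.of P)))
  have hgX : ∀ j, AGFObs.Γmap g ((Scheme.ΓSpecIso (CommRingCat.of P)).inv (MvPolynomial.X j)) = ψ j := fun j => by
    show ((Scheme.ΓSpecIso (CommRingCat.of P)).inv ≫
      (X.left.toSpecΓ ≫ Spec.map (CommRingCat.ofHom ev₀.toRingHom)).appTop) (MvPolynomial.X j) = ψ j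
    rw [Scheme.Hom.comp_appTop, Scheme.toSpecΓ_appTop, Scheme.ΓSpecIso_naturality, Iso.inv_hom_id_assoc]
    exact MvPolynomial.aeval_X _ _
  obtain ⟨ρ, hρ⟩ := exists_gmod C c
  have key : ∀ (R : Type u) [CommRing R] [Algebra k R] (x₁ x₂ : VecGrp.pt k R ⟶ G),
      x₁ ≫ p ≫ g = x₂ ≫ p ≫ g → x₁ ≫ p = x₂ ≫ p := by
    intro R _ _ x₁ x₂ he
    obtain ⟨φ₁, rfl⟩ := (pt_bijective C).2 x₁
    obtain ⟨φ₂, rfl⟩ := (pt_bijective C).2 x₂
    have hm : ∀ j, φ₁ (m j) = φ₂ (m j) := fun j => by
      have h := congrArg (fun z => ev z ((Scheme.ΓSpecIso (CommRingCat.of P)).inv (MvPolynomial.X j))) he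
      simp only [← Category.assoc, AGFObs.ev_comp, AlgHom.comp_apply, hgX] at h
      rwa [ev_pt, ev_pt, hψ] at h
    have hact : ρ.ρ R (C.pt φ₁) ((1 : R) ⊗ₜ[k] v) = ρ.ρ R (C.pt φ₂) ((1 : R) ⊗ₜ[k] v) := by
      rw [hρ, hρ]
      congr 1
      apply (TensorProduct.equivFinsuppOfBasisLeft b).injective
      refine Finsupp.ext fun j => ?_
      have hj : ∀ φ : C.A →ₐ[k] R,
          TensorProduct.equivFinsuppOfBasisLeft b (φ.toLinearMap.lTensor V (c.coact v)) j = φ (m j) := fun φ => by
        show _ = φ (TensorProduct.lid k C.A ((b.coord j).rTensor C.A (c.coact v)))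
        induction c.coact v with
        | zero => simp
        | add q r hq hr => simp only [map_add, Finsupp.add_apply, hq, hr]
        | tmul q r => simp [TensorProduct.equivFinsuppOfBasisLeft]
      rw [hj, hj, hm]
    obtain ⟨θ, hθ⟩ := (pt_bijective C).2 ((C.pt φ₁)⁻¹ * C.pt φ₂)
    have hfix : ρ.ρ R (C.pt θ) ((1 : R) ⊗ₜ[k] v) = (1 : R) ⊗ₜ[k] v := by
      rw [hθ, map_mul]
      show ρ.ρ R ((C.pt φ₁)⁻¹) (ρ.ρ R (C.pt φ₂) _) = _
      rw [← hact, ← LinearEquiv.mul_apply, ← map_mul, inv_mul_cancel, map_one]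
      rfl
    rw [hρ] at hfix
    have hst : StabLine c θ v := ⟨1, (TensorProduct.comm k V R).injective (hfix.trans (TensorProduct.comm_tmul _ _ _ _ _).symm)⟩
    have hle : RingHom.ker (C.hom D i : C.A →ₐ[k] D.A) ≤ RingHom.ker θ := fun z hz => hstab R θ hst z hz
    let ω := AlgHom.liftOfSurjective (C.hom D i : C.A →ₐ[k] D.A) (hom_surjective C D i) θ hle
    have hω : D.pt ω ≫ i = (C.pt φ₁)⁻¹ * C.pt φ₂ := by
      rw [pt_comp C D, ← hθ]
      exact congrArg C.pt (AlgHom.ext fun z => AlgHom.liftOfSurjective_apply (C.hom D i : C.A →ₐ[k] D.A) (hom_surjective C D i) θ hle z)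
    have hx : lift (C.pt φ₁) (D.pt ω) ≫ (G ◁ i) ≫ μ[G] = C.pt φ₂ := by
      rw [lift_whiskerLeft_assoc, ← Hom.mul_def, hω, mul_inv_cancel_left]
    have hw := congrArg (lift (C.pt φ₁) (D.pt ω) ≫ ·) hpb.w
    simp only [lift_fst_assoc] at hw
    conv_rhs => rw [← hx]
    exact hw.trans (by simp only [Category.assoc])
  haveI : Mono g.left := by
    haveI : QuasiSeparated X.hom := by
      haveI : IsLocallyNoetherian X.left := LocallyOfFiniteType.isLocallyNoetherian X.hom
      infer_instance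
    haveI : QuasiCompact (p.left ≫ X.hom) := by rw [Over.w]; infer_instance
    haveI : QuasiCompact p.left := QuasiCompact.of_comp p.left X.hom
    refine mono_of_cover p.left g.left ?_
    set Q := Limits.pullback (p.left ≫ g.left) (p.left ≫ g.left)
    let Z : Over (Spec (CommRingCat.of k)) := Over.mk (Limits.pullback.fst (p.left ≫ g.left) (p.left ≫ g.left) ≫ G.hom)
    let z₁ : Z ⟶ G := Over.homMk (Limits.pullback.fst (p.left ≫ g.left) (p.left ≫ g.left)) rfl
    let z₂ : Z ⟶ G := Over.homMk (Limits.pullback.snd (p.left ≫ g.left) (p.left ≫ g.left)) (by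
      show Limits.pullback.snd (p.left ≫ g.left) (p.left ≫ g.left) ≫ G.hom =
        Limits.pullback.fst (p.left ≫ g.left) (p.left ≫ g.left) ≫ G.hom
      rw [← Over.w (p ≫ g), Over.comp_left, ← Category.assoc _ (p.left ≫ g.left) Y.hom,
        ← Category.assoc _ (p.left ≫ g.left) Y.hom, Limits.pullback.condition])
    haveI : IsAffine Z.left := inferInstanceAs (IsAffine (Limits.pullback (p.left ≫ g.left) (p.left ≫ g.left)))
    have hz : z₁ ≫ p ≫ g = z₂ ≫ p ≫ g := Over.OverMorphism.ext Limits.pullback.condition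
    have h := key _ (taut Z ≫ z₁) (taut Z ≫ z₂) (by rw [Category.assoc, hz, Category.assoc])
    rw [Category.assoc, Category.assoc] at h
    have h2 := congrArg CommaMorphism.left h
    exact (cancel_epi Z.left.isoSpec.inv).mp h2
  haveI : LocallyOfFiniteType (g.left ≫ Y.hom) := by rw [Over.w]; infer_instance
  haveI : LocallyOfFiniteType g.left := locallyOfFiniteType_of_comp g.left Y.hom
  haveI : LocallyQuasiFinite g.left := locallyQuasiFinite_iff_isDiscrete_preimage_singleton.mpr fun y =>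
    (Set.subsingleton_singleton.preimage g.left.injective).isDiscrete
  exact isQuasiAffine_of_quasiFinite g.left

end Groth.Agent.ObsLib
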