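import Groth.Agent.ObsLib.Tfae
import Groth.Agent.AGFObsLib.Points
import Groth.Agent.TorusField.Bridge
import Groth.Agent.GModComodLib.Main

/-! From affine groups to Hopf algebras, for observable subgroups. -/

set_option autoImplicit false
set_option backward.isDefEq.respectTransparency false

universe u

open CategoryTheory MonoidalCategory CartesianMonoidalCategory MonObj AlgebraicGeometry WithConv
open scoped TensorProduct

noncomputable section

namespace Groth.Agent.ObsLib

open TorusField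
open AGFObs (ev algΓ taut)

attribute [local instance] AGFObs.algΓ

variable {k : Type u} [Field k]

/-- An affine group with its Hopf algebra. -/
structure Chart (G : Over (Spec (CommRingCat.of k))) [GrpObj G] where
  A : Type u
  [ring : CommRing A]
  [hopf : HopfAlgebra k A]
  iso : specGrp k A ≅ Grp.mk G

attribute [instance] Chart.ring Chart.hopf

theorem nonempty_chart (G : Over (Spec (CommRingCat.of k))) [GrpObj G] [IsAffine G.left] : Nonempty (Chart G) := by
  obtain ⟨A, _, _, ⟨e⟩⟩ := exists_hopf k G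
  exact ⟨⟨A, e⟩⟩

variable {G : Over (Spec (CommRingCat.of k))} [GrpObj G] (C : Chart G)

/-- The isomorphism of group schemes. -/
def Chart.e : GModComod.Gr k C.A ≅ G := (Grp.forget _).mapIso C.iso

instance : IsMonHom C.e.hom := C.iso.hom.hom.isMonHom_hom
instance : IsMonHom C.e.inv := C.iso.inv.hom.isMonHom_hom

/-- The point of a homomorphism of algebras. -/
def Chart.pt {D : Type u} [CommRing D] [Algebra k D] (φ : C.A →ₐ[k] D) : VecGrp.pt k D ⟶ G :=
  GModComod.pts (toConv φ) ≫ C.e.hom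

theorem pt_pmul {D : Type u} [CommRing D] [Algebra k D] (φ ψ : C.A →ₐ[k] D) :
    C.pt (pmul φ ψ) = C.pt φ * C.pt ψ := by
  rw [Chart.pt, pmul_eq, toConv_ofConv, map_mul]
  exact map_mul (IsMonHom.monoidHom C.e.hom (VecGrp.pt k D)) _ _

theorem pt_bijective {D : Type u} [CommRing D] [Algebra k D] :
    Function.Bijective (C.pt : (C.A →ₐ[k] D) → (VecGrp.pt k D ⟶ G)) := by
  refine ⟨fun φ ψ h => ?_, fun x => ?_⟩
  · have h1 := (cancel_mono C.e.hom).mp h
    exact toConv_injective (GModComod.pts.injective h1)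
  · obtain ⟨f, hf⟩ := (GModComod.pts (R := k) (A := C.A) (B := D)).surjective (x ≫ C.e.inv)
    refine ⟨f.ofConv, ?_⟩
    show GModComod.pts (toConv f.ofConv) ≫ _ = x
    rw [toConv_ofConv, hf, Category.assoc, Iso.inv_hom_id, Category.comp_id]

theorem ptMap_pt {D D' : Type u} [CommRing D] [Algebra k D] [CommRing D'] [Algebra k D'] (θ : D →ₐ[k] D')
    (φ : C.A →ₐ[k] D) : VecGrp.ptMap θ ≫ C.pt φ = C.pt (θ.comp φ) := by
  rw [Chart.pt, ← Category.assoc]
  congr 1
  apply Over.OverMorphism.ext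
  show Spec.map _ ≫ Spec.map _ = Spec.map _
  rw [← Spec.map_comp]
  rfl

/-- Functions on the group as elements of the Hopf algebra. -/
def Chart.fn : Γ(G.left, ⊤) →ₐ[k] C.A := ev (C.pt (AlgHom.id k C.A))

variable [IsAffine G.left]

omit [GrpObj G] in
theorem ev_ptMap {X : Over (Spec (CommRingCat.of k))} [IsAffine X.left] {D D' : Type u} [CommRing D] [Algebra k D]
    [CommRing D'] [Algebra k D'] (θ : D →ₐ[k] D') (x : VecGrp.pt k D ⟶ X) :
    ev (VecGrp.ptMap θ ≫ x) = θ.comp (ev x) := by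
  conv_lhs => rw [← AGFObs.ptMap_ev x, ← Category.assoc]
  rw [show VecGrp.ptMap θ ≫ VecGrp.ptMap (ev x) = VecGrp.ptMap (θ.comp (ev x)) from by
    apply Over.OverMorphism.ext
    show Spec.map _ ≫ Spec.map _ = Spec.map _
    rw [← Spec.map_comp]
    rfl]
  exact AGFObs.ev_ptMap _

theorem ev_pt {D : Type u} [CommRing D] [Algebra k D] (φ : C.A →ₐ[k] D) (f : Γ(G.left, ⊤)) :
    ev (C.pt φ) f = φ (C.fn f) := by
  rw [show C.pt φ = VecGrp.ptMap φ ≫ C.pt (AlgHom.id k C.A) by rw [ptMap_pt, AlgHom.comp_id], ev_ptMap]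
  rfl

theorem fn_bijective : Function.Bijective C.fn := by
  obtain ⟨φ, hφ⟩ := (pt_bijective C).2 (taut G)
  have h1 : φ.comp C.fn = AlgHom.id k _ := AlgHom.ext fun f => by
    rw [AlgHom.comp_apply, ← ev_pt, hφ, AGFObs.ev_taut]
  have h2 : C.fn.comp φ = AlgHom.id k _ := by
    refine (pt_bijective C).1 ?_
    rw [← ptMap_pt, hφ]
    exact AGFObs.ptMap_ev _
  exact Function.bijective_iff_has_inverse.mpr
    ⟨φ, fun f => AlgHom.congr_fun h1 f, fun a => AlgHom.congr_fun h2 a⟩

theorem finiteType_chart [LocallyOfFiniteType G.hom] : Algebra.FiniteType k C.A := by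
  haveI := AGFObs.finiteType_Γ G
  exact Algebra.FiniteType.of_surjective C.fn (fn_bijective C).2

theorem isReduced_chart [Smooth G.hom] : _root_.IsReduced C.A := by
  haveI := ASp.isReduced_of_smooth G.hom
  let e := AlgEquiv.ofBijective C.fn (fn_bijective C)
  exact isReduced_of_injective e.symm e.symm.injective

variable {H : Over (Spec (CommRingCat.of k))} [GrpObj H] (D : Chart H)

/-- The map of Hopf algebras of a homomorphism. -/
def Chart.hom (i : H ⟶ G) [IsMonHom i] : C.A →ₐc[k] D.A :=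
  ((hopfSpec.fullyFaithful (R := CommRingCat.of k)).preimage
    (X := Opposite.op (CommHopfAlgCat.of k D.A)) (Y := Opposite.op (CommHopfAlgCat.of k C.A))
    (D.iso.hom ≫ (Grp.homMk' (Mon.Hom.mk' i) : Grp.mk H ⟶ Grp.mk G) ≫ C.iso.inv)).unop.hom

omit [IsAffine G.left] in
theorem hom_spec (i : H ⟶ G) [IsMonHom i] : D.e.hom ≫ i ≫ C.e.inv = (specHom (C.hom D i)).hom.hom := by
  have := congrArg (fun f => f.hom.hom) ((hopfSpec.fullyFaithful (R := CommRingCat.of k)).map_preimage
    (X := Opposite.op (CommHopfAlgCat.of k D.A)) (Y := Opposite.op (CommHopfAlgCat.of k C.A))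
    (D.iso.hom ≫ (Grp.homMk' (Mon.Hom.mk' i) : Grp.mk H ⟶ Grp.mk G) ≫ C.iso.inv))
  exact this.symm

omit [IsAffine G.left] in
theorem pt_comp {E : Type u} [CommRing E] [Algebra k E] (i : H ⟶ G) [IsMonHom i] (ψ : D.A →ₐ[k] E) :
    D.pt ψ ≫ i = C.pt (ψ.comp (C.hom D i : C.A →ₐ[k] D.A)) := by
  rw [Chart.pt, Chart.pt, ← cancel_mono C.e.inv, Category.assoc, Category.assoc, hom_spec, Category.assoc,
    Iso.hom_inv_id, Category.comp_id]
  apply Over.OverMorphism.ext
  show Spec.map _ ≫ Spec.map _ = Spec.map _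
  rw [← Spec.map_comp]
  rfl

omit [IsAffine G.left] in
theorem hom_surjective (i : H ⟶ G) [IsMonHom i] [IsClosedImmersion i.left] :
    Function.Surjective (C.hom D i) := by
  haveI : IsIso C.e.inv.left := ((Over.forget _).mapIso C.e).isIso_inv
  haveI : IsIso D.e.hom.left := ((Over.forget _).mapIso D.e).isIso_hom
  haveI : IsClosedImmersion (Spec.map (CommRingCat.ofHom (C.hom D i : C.A →+* D.A))) := by
    show IsClosedImmersion (specHom (C.hom D i)).hom.hom.left
    rw [← hom_spec, Over.comp_left, Over.comp_left]; infer_instance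
  have h := (IsClosedImmersion.isAffine_surjective_of_isAffine
    (f := Spec.map (CommRingCat.ofHom (C.hom D i : C.A →+* D.A)))).2
  have hn := Scheme.ΓSpecIso_naturality (CommRingCat.ofHom (C.hom D i : C.A →+* D.A))
  intro y
  obtain ⟨z, hz⟩ := h ((Scheme.ΓSpecIso (CommRingCat.of D.A)).inv y)
  refine ⟨(Scheme.ΓSpecIso (CommRingCat.of C.A)).hom z, ?_⟩
  refine (congrArg (fun f => f.hom z) hn).symm.trans ?_
  refine (congrArg (Scheme.ΓSpecIso (CommRingCat.of D.A)).hom.hom hz).trans ?_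
  exact congrArg (fun f => f.hom y) (Scheme.ΓSpecIso (CommRingCat.of D.A)).inv_hom_id

theorem isRTransInv_iff_inv [IsAffine H.left] (i : H ⟶ G) [IsMonHom i] (f : Γ(G.left, ⊤)) :
    AGF.IsRTransInv i f ↔ Inv (C.hom D i) (C.fn f) := by
  constructor
  · intro hf
    have h := AGFObs.ev_eq_of_isRTransInv hf
      (C.pt (Algebra.TensorProduct.includeLeft : C.A →ₐ[k] C.A ⊗[k] D.A))
      (D.pt (Algebra.TensorProduct.includeRight : D.A →ₐ[k] C.A ⊗[k] D.A))
    rw [pt_comp C D, ← pt_pmul, ev_pt, ev_pt] at h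
    refine Eq.trans ?_ h
    show _ = Algebra.TensorProduct.lift (Algebra.TensorProduct.includeLeft : C.A →ₐ[k] C.A ⊗[k] D.A)
      ((Algebra.TensorProduct.includeRight : D.A →ₐ[k] C.A ⊗[k] D.A).comp (C.hom D i : C.A →ₐ[k] D.A))
      (fun _ _ => mul_comm _ _) (Coalgebra.comul (R := k) (C.fn f))
    induction Coalgebra.comul (R := k) (C.fn f) with
    | zero => simp
    | add p q hp hq => simp only [map_add, hp, hq]
    | tmul p q => simp
  · intro hf
    haveI := AGFObs.isAffine_tensor (G := G) (H := H)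
    refine AGFObs.isRTransInv_of_ev fun E _ _ x t => ?_
    obtain ⟨φ, rfl⟩ := (pt_bijective C).2 x
    obtain ⟨ψ, rfl⟩ := (pt_bijective D).2 t
    rw [pt_comp C D, ← pt_pmul, ev_pt, ev_pt, isSemi_apply hf, map_one, _root_.mul_one]

variable [IsAlgClosed k]

omit [GrpObj H] in
theorem isRTransInv_pt_iff [Smooth G.hom] (y : C.A →ₐ[k] k) (f : Γ(G.left, ⊤)) :
    AGF.IsRTransInv (C.pt y) f ↔ ∀ x : C.A →ₐ[k] k, pmul x y (C.fn f) = x (C.fn f) := by
  constructor
  · intro hf x
    have h := AGFObs.ev_eq_of_isRTransInv hf (C.pt x) (𝟙 _)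
    rwa [Category.id_comp, ← pt_pmul, ev_pt, ev_pt] at h
  · intro hy
    haveI := finiteType_chart C
    haveI := isReduced_chart C
    haveI : IsAffine (VecGrp.pt k k).left := inferInstanceAs (IsAffine (Spec (CommRingCat.of k)))
    haveI := AGFObs.isAffine_tensor (G := G) (H := VecGrp.pt k k)
    have hsemi : IsSemi y (1 : k) (C.fn f) := by
      apply (TensorProduct.rid k C.A).injective
      rw [TensorProduct.rid_tmul, one_smul, ← sub_eq_zero]
      refine eq_zero_of_pts (k := k) fun x => ?_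
      rw [map_sub, sub_eq_zero, ← hy x]
      show _ = Algebra.TensorProduct.lift x y (fun _ _ => mul_comm _ _) (Coalgebra.comul (R := k) (C.fn f))
      induction Coalgebra.comul (R := k) (C.fn f) with
      | zero => simp
      | add p q hp hq => simp only [map_add, hp, hq]
      | tmul p q => simp [mul_comm]
    refine AGFObs.isRTransInv_of_ev fun E _ _ x t => ?_
    obtain ⟨φ, rfl⟩ := (pt_bijective C).2 x
    have ht : t = VecGrp.ptMap (Algebra.ofId k E) := by
      apply Over.OverMorphism.ext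
      have h : t.left ≫ Spec.map (𝟙 (CommRingCat.of k)) = Spec.map (CommRingCat.ofHom (algebraMap k E)) := Over.w t
      rw [Spec.map_id] at h
      exact (Category.comp_id _).symm.trans h
    rw [ht, ptMap_pt, ← pt_pmul, ev_pt, ev_pt, isSemi_apply hsemi, map_one, _root_.mul_one]

variable [Smooth G.hom] [Smooth H.hom] [IsAffine H.left]

theorem isObservableIn_iff (i : H ⟶ G) [IsMonHom i] : AGF.IsObservableIn k i ↔ Obs (C.hom D i) := by
  constructor
  · intro ho y hy
    obtain ⟨h, hh⟩ := ho (C.pt y) fun f hf =>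
      (isRTransInv_pt_iff C y f).mpr (hy _ ((isRTransInv_iff_inv C D i f).mp hf))
    obtain ⟨z, rfl⟩ := (pt_bijective D).2 h
    rw [pt_comp C D] at hh
    exact ⟨z, (pt_bijective C).1 hh⟩
  · intro ho g hg
    obtain ⟨y, rfl⟩ := (pt_bijective C).2 g
    obtain ⟨z, hz⟩ := ho y fun a ha => by
      obtain ⟨f, rfl⟩ := (fn_bijective C).2 a
      exact (isRTransInv_pt_iff C y f).mp (hg f ((isRTransInv_iff_inv C D i f).mpr ha))
    exact ⟨D.pt z, by rw [pt_comp C D, hz]⟩

omit [IsAlgClosed k] [IsAffine G.left] [Smooth G.hom] in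
theorem exists_gmod {V : Type u} [AddCommGroup V] [Module k V] (c : HopfRep.Comod k C.A V) :
    ∃ ρ : VecGrp.GMod G V, ∀ (E : Type u) [CommRing E] [Algebra k E] (φ : C.A →ₐ[k] E) (v : V),
      ρ.ρ E (C.pt φ) ((1 : E) ⊗ₜ[k] v) = TensorProduct.comm k V E (φ.toLinearMap.lTensor V (c.coact v)) := by
  letI := c
  let m := GModComod.gmod (R := k) (A := C.A) (E := V)
  refine ⟨{ ρ := fun E _ _ => (m.ρ E).comp (IsMonHom.monoidHom C.e.inv (VecGrp.pt k E))
            naturality := fun {E E'} _ _ _ _ φ g x => by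
              show VecGrp.Wmap φ (m.ρ E (g ≫ C.e.inv) x) = m.ρ E' ((VecGrp.ptMap φ ≫ g) ≫ C.e.inv) _
              rw [m.naturality, Category.assoc] }, fun E _ _ φ v => ?_⟩
  show m.ρ E ((GModComod.pts (toConv φ) ≫ C.e.hom) ≫ C.e.inv) _ = _
  rw [Category.assoc, Iso.hom_inv_id, Category.comp_id]
  refine (GModComod.rho_apply _ _).trans ?_
  rw [MulEquiv.symm_apply_apply]
  exact GModComod.act_one_tmul _ _ _

omit [IsAlgClosed k] [IsAffine G.left] [Smooth G.hom] in
theorem exists_comod {V : Type u} [AddCommGroup V] [Module k V] (ρ : VecGrp.GMod G V) :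
    ∃ c : HopfRep.Comod k C.A V, ∀ (E : Type u) [CommRing E] [Algebra k E] (φ : C.A →ₐ[k] E) (v : V),
      ρ.ρ E (C.pt φ) ((1 : E) ⊗ₜ[k] v) = TensorProduct.comm k V E (φ.toLinearMap.lTensor V (c.coact v)) := by
  let m : VecGrp.GMod (GModComod.Gr k C.A) V :=
    { ρ := fun E _ _ => (ρ.ρ E).comp (IsMonHom.monoidHom C.e.hom (VecGrp.pt k E))
      naturality := fun {E E'} _ _ _ _ φ g x => by
        show VecGrp.Wmap φ (ρ.ρ E (g ≫ C.e.hom) x) = ρ.ρ E' ((VecGrp.ptMap φ ≫ g) ≫ C.e.hom) _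
        rw [ρ.naturality, Category.assoc] }
  obtain ⟨δ, ⟨⟨h1, h2⟩, hδ⟩, -⟩ := GModComod.existsUnique_coact m
  refine ⟨⟨δ, h1, h2⟩, fun E _ _ φ v => ?_⟩
  have := hδ E (GModComod.pts (toConv φ)) v
  change ρ.ρ E (C.pt φ) _ = TensorProduct.comm k V E
    (LinearMap.lTensor V ((GModComod.pts (R := k) (A := C.A) (B := E)).symm
      (GModComod.pts (toConv φ))).ofConv.toLinearMap (δ v)) at this
  rwa [MulEquiv.symm_apply_apply] at this

omit [IsAlgClosed k] [Smooth G.hom] [Smooth H.hom] [IsAffine G.left] [IsAffine H.left] in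
theorem forall_extendsAlong_iff (i : H ⟶ G) [IsMonHom i] :
    (∀ (V : Type u) [AddCommGroup V] [Module k V] [Module.Finite k V] (σ : VecGrp.GMod H V), σ.ExtendsAlong i) ↔
      Extends (C.hom D i) := by
  constructor
  · intro he V _ _ _ d
    obtain ⟨σ, hσ⟩ := exists_gmod D d
    obtain ⟨W, _, _, hW, ρ, φ, hφ, hh⟩ := he V σ
    obtain ⟨c, hc⟩ := exists_comod C ρ
    refine ⟨W, inferInstance, inferInstance, c, hW, φ, hφ, fun v => ?_⟩
    have h := hh D.A (D.pt (AlgHom.id k D.A)) ((1 : D.A) ⊗ₜ[k] v)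
    rw [LinearMap.baseChange_tmul, hσ, pt_comp C D, hc, AlgHom.id_comp, AlgHom.toLinearMap_id,
      LinearMap.lTensor_id] at h
    apply (TensorProduct.comm k W D.A).injective
    refine Eq.trans h.symm ?_
    show φ.baseChange D.A (TensorProduct.comm k V D.A (d.coact v)) = _
    induction d.coact v with
    | zero => simp
    | add p q hp hq => simp only [map_add, hp, hq]
    | tmul p q => simp
  · intro he V _ _ _ σ
    obtain ⟨d, hd⟩ := exists_comod D σ
    obtain ⟨W, _, _, c, hW, φ, hφ, hh⟩ := he V d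
    obtain ⟨ρ, hρ⟩ := exists_gmod C c
    refine ⟨W, inferInstance, inferInstance, hW, ρ, φ, hφ, fun E _ _ h x => ?_⟩
    obtain ⟨ψ, rfl⟩ := (pt_bijective D).2 h
    rw [pt_comp C D]
    induction x with
    | zero => simp
    | add p q hp hq => simp only [map_add, hp, hq]
    | tmul b v =>
      rw [show b ⊗ₜ[k] v = b • ((1 : E) ⊗ₜ[k] v) by rw [TensorProduct.smul_tmul', smul_eq_mul, _root_.mul_one]]
      simp only [map_smul]
      congr 1
      rw [LinearMap.baseChange_tmul, hd, hρ, AlgHom.comp_toLinearMap, LinearMap.lTensor_comp_apply]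
      erw [hh v]
      induction d.coact v with
      | zero => simp
      | add p q hp hq => simp only [map_add, hp, hq]
      | tmul p q => simp

theorem isObservableIn_iff_forall_extendsAlong (i : H ⟶ G) [IsMonHom i] [IsClosedImmersion i.left] :
    AGF.IsObservableIn k i ↔
      ∀ (V : Type u) [AddCommGroup V] [Module k V] [Module.Finite k V] (σ : VecGrp.GMod H V), σ.ExtendsAlong i := by
  obtain ⟨C⟩ := nonempty_chart G
  obtain ⟨D⟩ := nonempty_chart H
  haveI := finiteType_chart C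
  haveI := isReduced_chart C
  haveI := finiteType_chart D
  haveI := isReduced_chart D
  rw [isObservableIn_iff C D, forall_extendsAlong_iff C D]
  refine ⟨fun ho V _ _ _ d => ?_, obs_of_extends _ (hom_surjective C D i)⟩
  exact exists_extension _ (hom_surjective C D i) (fun χ ψ h f hf hf0 => exists_semi_inv _ ho h hf hf0) d

theorem fixes_iff {V : Type u} [AddCommGroup V] [Module k V] {c : HopfRep.Comod k C.A V} {ρ : VecGrp.GMod G V}
    (h : ∀ (E : Type u) [CommRing E] [Algebra k E] (φ : C.A →ₐ[k] E) (v : V),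
      ρ.ρ E (C.pt φ) ((1 : E) ⊗ₜ[k] v) = TensorProduct.comm k V E (φ.toLinearMap.lTensor V (c.coact v)))
    (x : C.A →ₐ[k] k) (v : V) :
    ρ.ρ k (C.pt x) ((1 : k) ⊗ₜ[k] v) = (1 : k) ⊗ₜ[k] v ↔ Fixes c v x := by
  rw [h]
  exact ⟨fun e => (TensorProduct.comm k V k).injective (e.trans (TensorProduct.comm_tmul _ _ _ _ _).symm),
    fun e => (congrArg (TensorProduct.comm k V k) e).trans (TensorProduct.comm_tmul _ _ _ _ _)⟩

omit [IsAlgClosed k] [Smooth G.hom] [Smooth H.hom] [IsAffine G.left] [IsAffine H.left] in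
theorem mem_image_iff (i : H ⟶ G) [IsMonHom i] (x : C.A →ₐ[k] k) :
    (∃ h : VecGrp.pt k k ⟶ H, h ≫ i = C.pt x) ↔ ∃ z : D.A →ₐ[k] k, z.comp (C.hom D i : C.A →ₐ[k] D.A) = x := by
  constructor
  · rintro ⟨h, hh⟩
    obtain ⟨z, rfl⟩ := (pt_bijective D).2 h
    rw [pt_comp C D] at hh
    exact ⟨z, (pt_bijective C).1 hh⟩
  · rintro ⟨z, rfl⟩
    exact ⟨D.pt z, pt_comp C D i z⟩

omit [GrpObj G] [Smooth G.hom] [IsAlgClosed k] in
theorem appTop_eq_iff (g g' : VecGrp.pt k k ⟶ G) (f : Γ(G.left, ⊤)) :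
    g.left.appTop f = g'.left.appTop f ↔ ev g f = ev g' f := by
  refine ⟨fun h => congrArg (Scheme.ΓSpecIso (CommRingCat.of k)).hom.hom h, fun h => ?_⟩
  exact (Scheme.ΓSpecIso (CommRingCat.of k)).commRingCatIsoToRingEquiv.injective h

theorem observable_tfae (i : H ⟶ G) [IsMonHom i] [IsClosedImmersion i.left] :
    List.TFAE [
      AGF.IsObservableIn k i,
      ∃ (V : Type u) (_ : AddCommGroup V) (_ : Module k V) (_ : Module.Finite k V) (ρ : VecGrp.GMod G V) (v : V),
        AGF.IsStabOnPts k i ρ v,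
      ∃ s : Finset Γ(G.left, ⊤), (∀ f ∈ s, AGF.IsRTransInv i f) ∧
        ∀ g g' : VecGrp.pt k k ⟶ G, (∀ f ∈ s, g.left.appTop f = g'.left.appTop f) →
          ∃ h : VecGrp.pt k k ⟶ H, g' = g * (h ≫ i)] := by
  classical
  obtain ⟨C⟩ := nonempty_chart G
  obtain ⟨D⟩ := nonempty_chart H
  haveI := finiteType_chart C
  haveI := isReduced_chart C
  haveI := finiteType_chart D
  haveI := isReduced_chart D
  tfae_have 1 → 3 := fun ho => by
    obtain ⟨t, ht, hsep⟩ := exists_separates _ ((isObservableIn_iff C D i).mp ho)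
    let e := Equiv.ofBijective _ (fn_bijective C)
    refine ⟨t.image e.symm, fun f hf => ?_, fun g g' hgg => ?_⟩
    · obtain ⟨a, ha, rfl⟩ := Finset.mem_image.mp hf
      rw [isRTransInv_iff_inv C D, show C.fn (e.symm a) = a from e.apply_symm_apply a]
      exact ht a ha
    · obtain ⟨x, rfl⟩ := (pt_bijective C).2 g
      obtain ⟨y, rfl⟩ := (pt_bijective C).2 g'
      obtain ⟨z, hz⟩ := hsep x y fun a ha => by
        have h := (appTop_eq_iff _ _ _).mp (hgg _ (Finset.mem_image_of_mem _ ha))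
        rwa [ev_pt, ev_pt, show C.fn (e.symm a) = a from e.apply_symm_apply a] at h
      exact ⟨D.pt z, by rw [pt_comp C D, ← pt_pmul, hz]⟩
  tfae_have 3 → 2 := fun ⟨s, hs, hsep⟩ => by
    have hS : Separates (C.hom D i) (s.image C.fn) := by
      refine ⟨fun a ha => ?_, fun x y hxy => ?_⟩
      · obtain ⟨f, hf, rfl⟩ := Finset.mem_image.mp ha
        exact (isRTransInv_iff_inv C D i f).mp (hs f hf)
      · obtain ⟨h, hh⟩ := hsep (C.pt x) (C.pt y) fun f hf => by
          rw [appTop_eq_iff, ev_pt, ev_pt]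
          exact hxy _ (Finset.mem_image_of_mem _ hf)
        obtain ⟨z, rfl⟩ := (pt_bijective D).2 h
        rw [pt_comp C D, ← pt_pmul] at hh
        exact ⟨z, (pt_bijective C).1 hh⟩
    obtain ⟨V, _, _, hV, c, v, hst⟩ := exists_stab_of_separates _ hS
    obtain ⟨ρ, hρ⟩ := exists_gmod C c
    refine ⟨V, inferInstance, inferInstance, hV, ρ, v, fun g => ?_⟩
    obtain ⟨x, rfl⟩ := (pt_bijective C).2 g
    rw [fixes_iff C hρ, mem_image_iff C D]
    exact hst x
  tfae_have 2 → 1 := fun ⟨V, _, _, _, ρ, v, hst⟩ => by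
    obtain ⟨c, hc⟩ := exists_comod C ρ
    refine (isObservableIn_iff C D i).mpr (obs_of_stab_pts _ c v fun x => ?_)
    rw [← fixes_iff C hc, ← mem_image_iff C D]
    exact hst (C.pt x)
  tfae_finish

end Groth.Agent.ObsLib
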