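import Groth.Agent.ObsLib.Bridge
import Groth.Agent.GaGmHom
import Groth.Agent.GmTorsor.Points

/-! Characters of the subgroup and observability. -/

set_option autoImplicit false
set_option backward.isDefEq.respectTransparency false
set_option backward.defeqAttrib.useBackward true
set_option backward.isDefEq.respectTransparency.types false

universe u

open CategoryTheory MonoidalCategory CartesianMonoidalCategory MonObj AlgebraicGeometry WithConv
open scoped TensorProduct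

noncomputable section

namespace Groth.Agent.ObsLib

open Comodule (ptAct subComod)
open AGFObs (ev algΓ taut)

attribute [local instance] AGFObs.algΓ

variable {k : Type u} [Field k]

theorem hom_eq_one_of_mul_self {C : Type*} [Category C] [CartesianMonoidalCategory C] {T X : C} [GrpObj X]
    {x : T ⟶ X} (h : x * x = x) : x = 1 :=
  _root_.mul_eq_left.mp h

section Hopf

variable {A B : Type u} [CommRing A] [HopfAlgebra k A] [CommRing B] [HopfAlgebra k B] (π : A →ₐc[k] B)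

theorem pmul_comp (x y : B →ₐ[k] k) :
    pmul (x.comp (π : A →ₐ[k] B)) (y.comp (π : A →ₐ[k] B)) = (pmul x y).comp (π : A →ₐ[k] B) := by
  refine AlgHom.ext fun a => ?_
  show _ = Algebra.TensorProduct.lift x y (fun _ _ => mul_comm _ _) (Coalgebra.comul (R := k) ((π : A →ₐc[k] B) a))
  rw [← CoalgHomClass.map_comp_comul_apply (R := k) π a]
  show Algebra.TensorProduct.lift (x.comp (π : A →ₐ[k] B)) (y.comp (π : A →ₐ[k] B)) (fun _ _ => mul_comm _ _)
    (Coalgebra.comul (R := k) a) = _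
  induction Coalgebra.comul (R := k) a with
  | zero => simp
  | add p q hp hq => simp only [map_add, hp, hq]
  | tmul p q => simp

variable [IsAlgClosed k] [Algebra.FiniteType k A] [IsReduced A] [Algebra.FiniteType k B] [IsReduced B]

/-- The weight of a semi-invariant function is group-like. -/
theorem groupLike_of_isSemi {χ : B} {f : A} (hf : IsSemi (π : A →ₐ[k] B) χ f) (hf0 : f ≠ 0) :
    IsGroupLikeElem k χ := by
  obtain ⟨x, hx⟩ : ∃ x : A →ₐ[k] k, x f ≠ 0 := by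
    by_contra h
    push Not at h
    exact hf0 (eq_zero_of_pts (k := k) h)
  refine IsGroupLikeElem.mk ?_ ?_
  · refine mul_left_cancel₀ hx ?_
    have h1 := isSemi_apply hf x (pone : B →ₐ[k] k)
    rw [show (pone : B →ₐ[k] k).comp (π : A →ₐ[k] B) = pone from
      AlgHom.ext fun a => CoalgHomClass.counit_comp_apply π a, pmul_pone] at h1
    rw [_root_.mul_one]
    exact h1.symm
  · refine eq_of_pts_tensor (k := k) fun h₁ h₂ => mul_left_cancel₀ hx ?_
    rw [Algebra.TensorProduct.lift_tmul]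
    show x f * pmul h₁ h₂ χ = _
    rw [← isSemi_apply hf, ← pmul_comp π, ← pmul_assoc, isSemi_apply hf, isSemi_apply hf, _root_.mul_assoc]

/-- A semi-invariant function gives a semi-invariant vector. -/
theorem exists_vector_of_semi {χ : B} {f : A} (hf : IsSemi (π : A →ₐ[k] B) χ f) (hf0 : f ≠ 0) :
    ∃ (V : Type u) (_ : AddCommGroup V) (_ : Module k V) (_ : Module.Finite k V) (c : HopfRep.Comod k A V) (v : V),
      v ≠ 0 ∧ ptAct c (π : A →ₐ[k] B) v = v ⊗ₜ[k] χ := by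
  let V₀ : Submodule k A := (Submodule.span (WithConv (A →ₗ[k] k)) ({f} : Set A)).restrictScalars k
  haveI : Module.Finite k V₀ := Comodule.finite_span_of_finite (Set.finite_singleton f)
  have hV₀ : HopfRep.IsSubcomod (k := k) (A := A) V₀ := Comodule.isSubcomod_restrictScalars _
  let v : V₀ := ⟨f, Submodule.subset_span rfl⟩
  refine ⟨V₀, inferInstance, inferInstance, inferInstance, subComod V₀ hV₀, v,
    fun h => hf0 (congrArg Subtype.val h), ?_⟩
  refine (Module.Flat.rTensor_preserves_injective_linearMap (M := B) _ V₀.injective_subtype) ?_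
  rw [LinearMap.rTensor_tmul, ptAct, ← ComodTens.lTensor_rTensor_comm]
  refine Eq.trans ?_ hf
  congr 1
  exact Comodule.rTensor_subCoact V₀ hV₀ v

omit [IsAlgClosed k] [Algebra.FiniteType k A] [IsReduced A] [Algebra.FiniteType k B] [IsReduced B] in
/-- A semi-invariant vector gives a semi-invariant function. -/
theorem exists_semi_of_vector {V : Type u} [AddCommGroup V] [Module k V] (c : HopfRep.Comod k A V) {v : V} {χ : B}
    (hv0 : v ≠ 0) (hv : ptAct c (π : A →ₐ[k] B) v = v ⊗ₜ[k] χ) :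
    ∃ f : A, f ≠ 0 ∧ IsSemi (π : A →ₐ[k] B) χ f := by
  obtain ⟨l, hl⟩ : ∃ l : V →ₗ[k] k, l v ≠ 0 := by
    by_contra h
    push Not at h
    exact hv0 ((Module.forall_dual_apply_eq_zero_iff k v).mp h)
  refine ⟨mcoef c l v, fun h => hl ?_, ?_⟩
  · rw [← counit_mcoef c l v, h, map_zero]
  · show (π : A →ₐ[k] B).toLinearMap.lTensor A (Coalgebra.comul (R := k) (mcoef c l v)) = _
    rw [comul_mcoef, ComodTens.lTensor_rTensor_comm,
      show (π : A →ₐ[k] B).toLinearMap.lTensor V (c.coact v) = v ⊗ₜ[k] χ from hv, LinearMap.rTensor_tmul]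

end Hopf

variable {G H : Over (Spec (CommRingCat.of k))} [GrpObj G] [GrpObj H] (C : Chart G) (D : Chart H)
  [IsAffine H.left]

theorem chiVal_eq_ev (χ : H ⟶ Red.Gm (Spec (CommRingCat.of k))) {E : Type u} [CommRing E] [Algebra k E]
    (h : VecGrp.pt k E ⟶ H) : VecGrp.chiVal χ h = ev h (Red.gmFn χ) := by
  show (Scheme.ΓSpecIso (CommRingCat.of E)).hom (Red.gmFn (h ≫ χ)) = _
  rw [GaGmHom.gmFn_comp]
  rfl

/-- The element of the Hopf algebra of a character. -/
def Chart.chr (χ : H ⟶ Red.Gm (Spec (CommRingCat.of k))) : D.A := D.fn (Red.gmFn χ)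

theorem chiVal_pt (χ : H ⟶ Red.Gm (Spec (CommRingCat.of k))) {E : Type u} [CommRing E] [Algebra k E]
    (φ : D.A →ₐ[k] E) : VecGrp.chiVal χ (D.pt φ) = φ (D.chr χ) := by
  rw [chiVal_eq_ev, ev_pt]
  rfl

theorem chr_mul (χ χ' : H ⟶ Red.Gm (Spec (CommRingCat.of k))) : D.chr (χ * χ') = D.chr χ * D.chr χ' := by
  have hm := GmTorsor.gmFn_mul χ χ'
  show D.fn (Red.gmFn (χ * χ')) = _
  rw [hm, map_mul]
  rfl

theorem chr_inv_mul (χ : H ⟶ Red.Gm (Spec (CommRingCat.of k))) : D.chr χ⁻¹ * D.chr χ = 1 := by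
  have hi : χ⁻¹ * χ = 1 := inv_mul_cancel χ
  rw [← chr_mul, hi]
  have hu : IsUnit (Red.gmFn (1 : H ⟶ Red.Gm (Spec (CommRingCat.of k)))) := GaGmHom.isUnit_gmFn _
  have h1 : Red.gmFn (1 : H ⟶ Red.Gm (Spec (CommRingCat.of k))) = 1 := by
    refine hu.mul_right_cancel ?_
    have hm := GmTorsor.gmFn_mul (1 : H ⟶ Red.Gm (Spec (CommRingCat.of k))) 1
    have h11 : (1 : H ⟶ Red.Gm (Spec (CommRingCat.of k))) * 1 = 1 := _root_.one_mul 1
    rw [← hm, h11, _root_.one_mul]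
  rw [Chart.chr, h1, map_one]

/-- The character of a group-like element. -/
theorem exists_character {g : D.A} (hg : IsGroupLikeElem k g) :
    ∃ χ : H ⟶ Red.Gm (Spec (CommRingCat.of k)), IsMonHom χ ∧ D.chr χ = g := by
  let e := AlgEquiv.ofBijective D.fn (fn_bijective D)
  obtain ⟨χ, hχ⟩ := GmTorsor.gmFn_surjective (S := Spec (CommRingCat.of k)) (X := H) (e.symm g) (hg.isUnit.map e.symm)
  have hc : D.chr χ = g := by
    rw [Chart.chr, hχ]
    exact e.apply_symm_apply g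
  refine ⟨χ, ?_, hc⟩
  haveI := AGFObs.isAffine_tensor (G := H) (H := H)
  have hmul : μ[H] ≫ χ = (χ ⊗ₘ χ) ≫ μ[Red.Gm (Spec (CommRingCat.of k))] := by
    have h2 : (χ ⊗ₘ χ) ≫ μ[Red.Gm (Spec (CommRingCat.of k))] = (fst H H ≫ χ) * (snd H H ≫ χ) := by
      rw [Hom.mul_def]
      congr 1
    refine GaGmHom.gmFn_injective ?_
    have hm := GmTorsor.gmFn_mul (fst H H ≫ χ) (snd H H ≫ χ)
    rw [h2, hm, GaGmHom.gmFn_comp, GaGmHom.gmFn_comp, GaGmHom.gmFn_comp]
    show AGFObs.Γmap μ[H] (Red.gmFn χ) = AGFObs.Γmap (fst H H) (Red.gmFn χ) * AGFObs.Γmap (snd H H) (Red.gmFn χ)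
    let w := taut (H ⊗ H)
    obtain ⟨φ₁, h₁⟩ := (pt_bijective D).2 (w ≫ fst H H)
    obtain ⟨φ₂, h₂'⟩ := (pt_bijective D).2 (w ≫ snd H H)
    have hw : w ≫ μ[H] = D.pt (pmul φ₁ φ₂) := by
      rw [pt_pmul, h₁, h₂', Hom.mul_def, ← comp_lift, lift_fst_snd, Category.comp_id]
    have key : ∀ {Y : Over (Spec (CommRingCat.of k))} (p : H ⊗ H ⟶ Y) (a : Γ(Y.left, ⊤)),
        AGFObs.Γmap p a = ev (w ≫ p) a := fun p a => by
      rw [AGFObs.ev_comp, AGFObs.ev_taut]; rfl
    rw [key, key, key, hw, ← h₁, ← h₂', ev_pt, ev_pt, ev_pt, ← Chart.chr, hc]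
    show Algebra.TensorProduct.lift φ₁ φ₂ (fun _ _ => mul_comm _ _) (Coalgebra.comul (R := k) g) = _
    rw [hg.comul_eq_tmul_self, Algebra.TensorProduct.lift_tmul]
  refine ⟨?_, hmul⟩
  have h3 : (η[H] ≫ χ) * (η[H] ≫ χ) = η[H] ≫ χ := by
    calc (η[H] ≫ χ) * (η[H] ≫ χ) = lift η[H] η[H] ≫ (χ ⊗ₘ χ) ≫ μ[Red.Gm (Spec (CommRingCat.of k))] := by
          rw [Hom.mul_def, lift_map_assoc]
      _ = (η[H] * η[H]) ≫ χ := by rw [← hmul, Hom.mul_def, Category.assoc]
      _ = η[H] ≫ χ := by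
          congr 1
          rw [show η[H] = (1 : 𝟙_ _ ⟶ H) by rw [Hom.one_def, toUnit_unique (toUnit _) (𝟙 _), Category.id_comp],
            _root_.one_mul]
  have h4 : η[H] ≫ χ = 1 := hom_eq_one_of_mul_self h3
  rw [h4, Hom.one_def, toUnit_unique (toUnit _) (𝟙 _), Category.id_comp]

variable [IsAffine G.left] [IsAlgClosed k] [Smooth G.hom] [Smooth H.hom]

omit [IsAffine G.left] [IsAlgClosed k] [Smooth G.hom] [Smooth H.hom] in
theorem weight_iff (i : H ⟶ G) [IsMonHom i] {V : Type u} [AddCommGroup V] [Module k V] {c : HopfRep.Comod k C.A V}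
    {ρ : VecGrp.GMod G V}
    (hc : ∀ (E : Type u) [CommRing E] [Algebra k E] (φ : C.A →ₐ[k] E) (v : V),
      ρ.ρ E (C.pt φ) ((1 : E) ⊗ₜ[k] v) = TensorProduct.comm k V E (φ.toLinearMap.lTensor V (c.coact v)))
    (χ : H ⟶ Red.Gm (Spec (CommRingCat.of k))) (v : V) :
    (∀ (B : Type u) [CommRing B] [Algebra k B] (h : VecGrp.pt k B ⟶ H),
      ρ.ρ B (h ≫ i) ((1 : B) ⊗ₜ[k] v) = VecGrp.chiVal χ h • ((1 : B) ⊗ₜ[k] v)) ↔
      ptAct c (C.hom D i : C.A →ₐ[k] D.A) v = v ⊗ₜ[k] D.chr χ := by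
  constructor
  · intro hh
    have h := hh D.A (D.pt (AlgHom.id k D.A))
    rw [pt_comp C D, hc, chiVal_pt, AlgHom.id_comp, TensorProduct.smul_tmul', smul_eq_mul, _root_.mul_one] at h
    exact (TensorProduct.comm k V D.A).injective (h.trans (TensorProduct.comm_tmul _ _ _ _ _).symm)
  · intro hh B _ _ h
    obtain ⟨ψ, rfl⟩ := (pt_bijective D).2 h
    rw [pt_comp C D, hc, chiVal_pt, AlgHom.comp_toLinearMap, LinearMap.lTensor_comp_apply,
      show (C.hom D i : C.A →ₐ[k] D.A).toLinearMap.lTensor V (c.coact v) = v ⊗ₜ[k] D.chr χ from hh,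
      LinearMap.lTensor_tmul, TensorProduct.comm_tmul, TensorProduct.smul_tmul', smul_eq_mul, _root_.mul_one]
    rfl

omit [Smooth G.hom] [Smooth H.hom] [IsAlgClosed k] [IsAffine G.left] in
theorem occurs_iff (i : H ⟶ G) [IsMonHom i] (χ : H ⟶ Red.Gm (Spec (CommRingCat.of k))) :
    (∃ (V : Type u) (_ : AddCommGroup V) (_ : Module k V) (_ : Module.Finite k V) (ρ : VecGrp.GMod G V) (v : V), v ≠ 0 ∧
      ∀ (B : Type u) [CommRing B] [Algebra k B] (h : VecGrp.pt k B ⟶ H),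
        ρ.ρ B (h ≫ i) ((1 : B) ⊗ₜ[k] v) = VecGrp.chiVal χ h • ((1 : B) ⊗ₜ[k] v)) ↔
    ∃ (V : Type u) (_ : AddCommGroup V) (_ : Module k V) (_ : Module.Finite k V) (c : HopfRep.Comod k C.A V) (v : V),
      v ≠ 0 ∧ ptAct c (C.hom D i : C.A →ₐ[k] D.A) v = v ⊗ₜ[k] D.chr χ := by
  constructor
  · rintro ⟨V, _, _, hV, ρ, v, hv0, hv⟩
    obtain ⟨c, hc⟩ := exists_comod C ρ
    exact ⟨V, inferInstance, inferInstance, hV, c, v, hv0, (weight_iff C D i hc χ v).mp hv⟩
  · rintro ⟨V, _, _, hV, c, v, hv0, hv⟩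
    obtain ⟨ρ, hρ⟩ := exists_gmod C c
    exact ⟨V, inferInstance, inferInstance, hV, ρ, v, hv0, (weight_iff C D i hρ χ v).mpr hv⟩

theorem isObservableIn_iff_inverse_weight (i : H ⟶ G) [IsMonHom i] [IsClosedImmersion i.left] :
    AGF.IsObservableIn k i ↔
      ∀ (χ : H ⟶ Red.Gm (Spec (CommRingCat.of k))), IsMonHom χ →
        (∃ (V : Type u) (_ : AddCommGroup V) (_ : Module k V) (_ : Module.Finite k V) (ρ : VecGrp.GMod G V) (v : V), v ≠ 0 ∧
          ∀ (B : Type u) [CommRing B] [Algebra k B] (h : VecGrp.pt k B ⟶ H),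
            ρ.ρ B (h ≫ i) ((1 : B) ⊗ₜ[k] v) = VecGrp.chiVal χ h • ((1 : B) ⊗ₜ[k] v)) →
        (∃ (V : Type u) (_ : AddCommGroup V) (_ : Module k V) (_ : Module.Finite k V) (ρ : VecGrp.GMod G V) (v : V), v ≠ 0 ∧
          ∀ (B : Type u) [CommRing B] [Algebra k B] (h : VecGrp.pt k B ⟶ H),
            ρ.ρ B (h ≫ i) ((1 : B) ⊗ₜ[k] v) = VecGrp.chiVal χ⁻¹ h • ((1 : B) ⊗ₜ[k] v)) := by
  obtain ⟨C⟩ := nonempty_chart G
  obtain ⟨D⟩ := nonempty_chart H
  haveI := finiteType_chart C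
  haveI := isReduced_chart C
  haveI := finiteType_chart D
  haveI := isReduced_chart D
  rw [isObservableIn_iff C D]
  constructor
  · intro ho χ _ h
    obtain ⟨V, _, _, _, c, v, hv0, hv⟩ := (occurs_iff C D i χ).mp h
    obtain ⟨f, hf0, hf⟩ := exists_semi_of_vector _ c hv0 hv
    obtain ⟨g, hg0, hg⟩ := exists_semi_inv _ ho (chr_inv_mul D χ) hf hf0
    exact (occurs_iff C D i χ⁻¹).mpr (exists_vector_of_semi _ hg hg0)
  · intro hw
    refine obs_of_extends _ (hom_surjective C D i) fun V _ _ _ d => ?_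
    refine exists_extension _ (hom_surjective C D i) (fun g g' hgg f hf hf0 => ?_) d
    obtain ⟨χ, hχ, rfl⟩ := exists_character D (groupLike_of_isSemi _ hf hf0)
    obtain ⟨W, _, _, _, c, v, hv0, hv⟩ := (occurs_iff C D i χ⁻¹).mp
      (hw χ hχ ((occurs_iff C D i χ).mpr (exists_vector_of_semi _ hf hf0)))
    obtain ⟨f', hf'0, hf'⟩ := exists_semi_of_vector _ c hv0 hv
    refine ⟨f', hf'0, ?_⟩
    rwa [left_inv_eq_right_inv hgg (by rw [_root_.mul_comm]; exact chr_inv_mul D χ)]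

end Groth.Agent.ObsLib
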