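import Groth.Agent.ObsLib.Bridge
import Groth.Agent.HopfFF.Linear
import Mathlib

/-! Epimorphic subgroups. -/

set_option autoImplicit false
set_option backward.isDefEq.respectTransparency false
set_option linter.style.haveILetI false

universe u

open CategoryTheory MonoidalCategory CartesianMonoidalCategory MonObj AlgebraicGeometry WithConv
open scoped TensorProduct

noncomputable section

namespace Groth.Agent.ObsLib

open Comodule (ptAct subComod)
open AGFObs (ev algΓ taut)
open TorusField (specHom specGrp)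

attribute [local instance] AGFObs.algΓ

variable {k : Type u} [Field k]

theorem isReduced_and_smooth_GLn (n : ℕ) :
    _root_.IsReduced (CoordGrp.GLn n k) ∧ Algebra.Smooth k (CoordGrp.GLn n k) := by
  let P := MvPolynomial (Fin n × Fin n) k
  let M : Matrix (Fin n) (Fin n) P := fun a b => MvPolynomial.X (a, b)
  let L := Localization.Away M.det
  let ι₀ : P →ₐ[k] L := IsScalarTower.toAlgHom k P L
  have hinv : (ι₀.mapMatrix M).det * IsLocalization.Away.invSelf (S := L) M.det = 1 := by
    rw [← AlgHom.map_det]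
    exact IsLocalization.Away.mul_invSelf M.det
  let f : CoordGrp.GLn n k →ₐ[k] L := CoordGrp.GLn.pt n k (ι₀.mapMatrix M) _ hinv
  let p : P →ₐ[k] CoordGrp.GLn n k := MvPolynomial.aeval fun q => CoordGrp.GLn.X q.1 q.2
  have hp : p M.det = (CoordGrp.GLn.det : CoordGrp.GLn n k) := by
    rw [AlgHom.map_det, CoordGrp.GLn.det_eq]
    congr 1
    ext a b
    exact MvPolynomial.aeval_X _ _
  have hu : IsUnit (p M.det) := by
    rw [hp]; exact IsUnit.of_mul_eq_one _ CoordGrp.GLn.det_mul_Dinv
  let g : L →ₐ[k] CoordGrp.GLn n k := IsLocalization.liftAlgHom (M := Submonoid.powers M.det) (f := p) fun y => by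
    obtain ⟨m, hm⟩ := y.2
    rw [← hm, map_pow]; exact hu.pow m
  have hg : ∀ q, g (ι₀ q) = p q := fun q => IsLocalization.lift_eq _ q
  have h1 : g.comp f = AlgHom.id k _ := by
    refine CoordGrp.GLn.algHom_ext (fun a b => ?_) ?_
    · simp only [AlgHom.comp_apply, f, CoordGrp.GLn.pt_X, AlgHom.mapMatrix_apply, Matrix.map_apply, hg]
      exact MvPolynomial.aeval_X _ _
    · simp only [AlgHom.comp_apply, f, CoordGrp.GLn.pt_Dinv, AlgHom.id_apply]
      have e1 : g (ι₀ M.det) * g (IsLocalization.Away.invSelf (S := L) M.det) = 1 := by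
        rw [← map_mul, show ι₀ M.det * IsLocalization.Away.invSelf (S := L) M.det = 1 from
          IsLocalization.Away.mul_invSelf M.det, map_one]
      rw [hg, hp] at e1
      exact (left_inv_eq_right_inv CoordGrp.GLn.Dinv_mul_det e1).symm
  have h2 : f.comp g = AlgHom.id k _ := by
    refine IsLocalization.algHom_ext (Submonoid.powers M.det) (MvPolynomial.algHom_ext fun q => ?_)
    show f (g (ι₀ (MvPolynomial.X q))) = ι₀ (MvPolynomial.X q)
    rw [hg, show p (MvPolynomial.X q) = CoordGrp.GLn.X q.1 q.2 from MvPolynomial.aeval_X _ _]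
    exact CoordGrp.GLn.pt_X _ _ _ q.1 q.2
  let e : CoordGrp.GLn n k ≃ₐ[k] L := AlgEquiv.ofAlgHom f g h2 h1
  haveI : _root_.IsReduced L := inferInstance
  haveI : Algebra.FormallySmooth k P := Algebra.instFormallySmoothMvPolynomial _
  haveI : Algebra.Smooth k P := ⟨inferInstance, inferInstance⟩
  haveI : Algebra.Smooth P L := Algebra.Smooth.of_isLocalization_Away M.det
  haveI : Algebra.Smooth k L := Algebra.Smooth.comp k P L
  exact ⟨isReduced_of_injective e e.injective, Algebra.Smooth.of_equiv e.symm⟩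

section Hopf

variable {A B : Type u} [CommRing A] [HopfAlgebra k A] [CommRing B] [HopfAlgebra k B] (π : A →ₐc[k] B)

theorem eq_of_coef {V : Type u} [AddCommGroup V] [Module k V] {R : Type u} [CommRing R] [Algebra k R]
    {z z' : V ⊗[k] R}
    (h : ∀ l : V →ₗ[k] k, TensorProduct.lid k R (l.rTensor R z) = TensorProduct.lid k R (l.rTensor R z')) : z = z' := by
  let b := Module.Free.chooseBasis k V
  apply (TensorProduct.equivFinsuppOfBasisLeft b).injective
  refine Finsupp.ext fun j => ?_
  have key : ∀ w : V ⊗[k] R, TensorProduct.equivFinsuppOfBasisLeft b w j =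
      TensorProduct.lid k R ((b.coord j).rTensor R w) := fun w => by
    induction w with
    | zero => simp
    | add p q hp hq => simp only [map_add, Finsupp.add_apply, hp, hq]
    | tmul p q => simp [TensorProduct.equivFinsuppOfBasisLeft]
  rw [key, key, h]

theorem fixed_of_const (hb : ∀ a : A, Inv π a → ∃ r : k, a = algebraMap k A r) {V : Type u} [AddCommGroup V]
    [Module k V] (c : HopfRep.Comod k A V) {v : V} (hv : ptAct c (π : A →ₐ[k] B) v = v ⊗ₜ[k] (1 : B)) :
    c.coact v = v ⊗ₜ[k] (1 : A) := by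
  refine eq_of_coef fun l => ?_
  have hf : Inv π (mcoef c l v) := by
    show (π : A →ₐ[k] B).toLinearMap.lTensor A (Coalgebra.comul (R := k) (mcoef c l v)) = _
    rw [comul_mcoef, ComodTens.lTensor_rTensor_comm,
      show (π : A →ₐ[k] B).toLinearMap.lTensor V (c.coact v) = v ⊗ₜ[k] (1 : B) from hv, LinearMap.rTensor_tmul]
  obtain ⟨r, hr⟩ := hb _ hf
  have h1 := counit_mcoef c l v
  rw [hr, Bialgebra.counit_algebraMap] at h1
  show mcoef c l v = _
  rw [hr, h1, LinearMap.rTensor_tmul, TensorProduct.lid_tmul, Algebra.algebraMap_eq_smul_one]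

theorem const_of_fixed
    (hc : ∀ (V : Type u) [AddCommGroup V] [Module k V] (c : HopfRep.Comod k A V) (v : V),
      ptAct c (π : A →ₐ[k] B) v = v ⊗ₜ[k] (1 : B) → c.coact v = v ⊗ₜ[k] (1 : A))
    (a : A) (ha : Inv π a) : ∃ r : k, a = algebraMap k A r := by
  have h : Coalgebra.comul (R := k) a = a ⊗ₜ[k] (1 : A) := hc A (HopfRep.Comod.regular k A) a ha
  have h1 := Coalgebra.rTensor_counit_comul (R := k) a
  rw [h, LinearMap.rTensor_tmul] at h1
  have h2 := congrArg (TensorProduct.lid k A) h1
  rw [TensorProduct.lid_tmul, TensorProduct.lid_tmul, one_smul] at h2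
  exact ⟨Coalgebra.counit (R := k) a, by rw [Algebra.algebraMap_eq_smul_one]; exact h2.symm⟩

/-- A conjugate of a multiplicative matrix by constants is multiplicative. -/
theorem exists_bialgHom_conj {n : ℕ} (M : Matrix (Fin n) (Fin n) A)
    (h0 : ∀ a b, Coalgebra.comul (R := k) (M a b) = ∑ l, M a l ⊗ₜ[k] M l b)
    (h2 : ∀ a b, Coalgebra.counit (R := k) (M a b) = if a = b then 1 else 0)
    (C D : Matrix (Fin n) (Fin n) k) (hCD : C * D = 1) :
    ∃ r : CoordGrp.GLn n k →ₐc[k] A,
      ∀ a b, r (CoordGrp.GLn.X a b) = (C.map (algebraMap k A) * M * D.map (algebraMap k A)) a b := by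
  let iL : A →ₐ[k] A ⊗[k] A := Algebra.TensorProduct.includeLeft
  let iR : A →ₐ[k] A ⊗[k] A := Algebra.TensorProduct.includeRight
  have hM : (Bialgebra.comulAlgHom k A).mapMatrix M = iL.mapMatrix M * iR.mapMatrix M := by
    ext a b
    simp only [AlgHom.mapMatrix_apply, Matrix.map_apply, Matrix.mul_apply]
    change Coalgebra.comul (R := k) (M a b) = _
    rw [h0]
    simp [iL, iR]
  set C' := C.map (algebraMap k A) with hC'
  set D' := D.map (algebraMap k A) with hD'
  set M' := C' * M * D' with hM'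
  have hconst : ∀ {R : Type u} [CommRing R] [Algebra k R] (φ : A →ₐ[k] R) (E : Matrix (Fin n) (Fin n) k),
      φ.mapMatrix (E.map (algebraMap k A)) = E.map (algebraMap k R) := fun φ E => by
    ext a b; simp
  have hDC : ∀ {R : Type u} [CommRing R] [Algebra k R], D.map (algebraMap k R) * C.map (algebraMap k R) = 1 := by
    intro R _ _
    rw [← Matrix.map_mul, mul_eq_one_comm.mp hCD, Matrix.map_one _ (map_zero _) (map_one _)]
  have hcomul : (Bialgebra.comulAlgHom k A).mapMatrix M' = iL.mapMatrix M' * iR.mapMatrix M' := by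
    simp only [hM', hC', hD', map_mul, hconst, hM]
    set Ck := C.map (algebraMap k (A ⊗[k] A))
    set Dk := D.map (algebraMap k (A ⊗[k] A))
    calc Ck * (iL.mapMatrix M * iR.mapMatrix M) * Dk = Ck * iL.mapMatrix M * (Dk * Ck) * iR.mapMatrix M * Dk := by
          rw [hDC, _root_.mul_one]; simp only [_root_.mul_assoc]
      _ = _ := by simp only [_root_.mul_assoc]
  have h0' : ∀ a b, CoalgebraStruct.comul (R := k) (M' a b) = ∑ l, M' a l ⊗ₜ[k] M' l b := by
    intro a b
    have h := congrFun (congrFun hcomul a) b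
    simp only [AlgHom.mapMatrix_apply, Matrix.map_apply, Matrix.mul_apply] at h
    refine Eq.trans h ?_
    simp [iL, iR]
  have hε : (Bialgebra.counitAlgHom k A).mapMatrix M' = 1 := by
    have hMε : (Bialgebra.counitAlgHom k A).mapMatrix M = 1 := by
      ext a b
      simp only [AlgHom.mapMatrix_apply, Matrix.map_apply, Matrix.one_apply]
      exact h2 a b
    simp only [hM', hC', hD', map_mul, hconst, hMε, _root_.mul_one]
    rw [← Matrix.map_mul, hCD, Matrix.map_one _ (map_zero _) (map_one _)]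
  have h2' : ∀ a b, CoalgebraStruct.counit (R := k) (M' a b) = if a = b then 1 else 0 := by
    intro a b
    have h := congrFun (congrFun hε a) b
    simp only [AlgHom.mapMatrix_apply, Matrix.map_apply, Matrix.one_apply] at h
    exact h
  have h1 : M' * M'.map (HopfAlgebra.antipode k) = 1 := by
    ext a b
    have h := HopfAlgebra.mul_antipode_lTensor_comul_apply (R := k) (M' a b)
    rw [show Coalgebra.comul (R := k) (M' a b) = _ from h0' a b, map_sum, map_sum,
      show Coalgebra.counit (R := k) (M' a b) = _ from h2' a b, apply_ite (algebraMap k A), map_one, map_zero] at h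
    simp only [LinearMap.lTensor_tmul, LinearMap.mul'_apply] at h
    simp only [Matrix.mul_apply, Matrix.map_apply, Matrix.one_apply]
    exact h
  exact HopfFF.exists_bialgHom_GLn M' (M'.map (HopfAlgebra.antipode k)).det
    (by rw [← Matrix.det_mul, h1, Matrix.det_one]) h0' h2'

theorem bialgHom_GLn_ext {n : ℕ} {R : Type u} [CommRing R] [Algebra k R] {f g : CoordGrp.GLn n k →ₐ[k] R}
    (h : ∀ a b, f (CoordGrp.GLn.X a b) = g (CoordGrp.GLn.X a b)) : f = g := by
  refine CoordGrp.GLn.algHom_ext h ?_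
  have hdet : f CoordGrp.GLn.det = g CoordGrp.GLn.det := by
    rw [CoordGrp.GLn.det_eq, AlgHom.map_det, AlgHom.map_det]
    congr 1
    ext a b
    exact h a b
  have e1 : f CoordGrp.GLn.Dinv * f CoordGrp.GLn.det = 1 := by rw [← map_mul, CoordGrp.GLn.Dinv_mul_det, map_one]
  have e2 : f CoordGrp.GLn.det * g CoordGrp.GLn.Dinv = 1 := by
    rw [hdet, ← map_mul, CoordGrp.GLn.det_mul_Dinv, map_one]
  exact left_inv_eq_right_inv e1 e2

/-- If maps out of general linear groups are determined on the subgroup, fixed vectors are fixed by the group. -/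
theorem fixed_of_gl
    (he : ∀ (n : ℕ) (r s : CoordGrp.GLn n k →ₐc[k] A),
      (∀ a b, π (r (CoordGrp.GLn.X a b)) = π (s (CoordGrp.GLn.X a b))) → r = s)
    {E : Type u} [AddCommGroup E] [Module k E] (c : HopfRep.Comod k A E) {v : E}
    (hv : ptAct c (π : A →ₐ[k] B) v = v ⊗ₜ[k] (1 : B)) : c.coact v = v ⊗ₜ[k] (1 : A) := by
  classical
  letI := c
  let V₀ : Submodule k E := (Submodule.span (WithConv (A →ₗ[k] k)) ({v} : Set E)).restrictScalars k
  haveI : Module.Finite k V₀ := Comodule.finite_span_of_finite (Set.finite_singleton v)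
  have hV₀ : HopfRep.IsSubcomod (k := k) (A := A) V₀ := Comodule.isSubcomod_restrictScalars _
  let v₀ : V₀ := ⟨v, Submodule.subset_span rfl⟩
  let c₀ := subComod V₀ hV₀
  have hv₀ : ptAct c₀ (π : A →ₐ[k] B) v₀ = v₀ ⊗ₜ[k] (1 : B) := by
    refine (Module.Flat.rTensor_preserves_injective_linearMap (M := B) _ V₀.injective_subtype) ?_
    rw [LinearMap.rTensor_tmul, ptAct, ← ComodTens.lTensor_rTensor_comm]
    refine Eq.trans ?_ hv
    show _ = (π : A →ₐ[k] B).toLinearMap.lTensor E (c.coact v)
    congr 1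
    exact Comodule.rTensor_subCoact V₀ hV₀ v₀
  suffices h : c₀.coact v₀ = v₀ ⊗ₜ[k] (1 : A) by
    refine (Comodule.rTensor_subCoact V₀ hV₀ v₀).symm.trans ?_
    rw [show Comodule.subCoact V₀ hV₀ v₀ = c₀.coact v₀ from rfl, h, LinearMap.rTensor_tmul]
    rfl
  let b := Module.finBasis k V₀
  set m := Module.finrank k V₀
  let M : Matrix (Fin m) (Fin m) A := Matrix.of fun p q => mcoef c₀ (b.coord p) (b q)
  let w : Fin m → k := fun p => b.repr v₀ p
  have hrep : ∀ z : V₀ ⊗[k] A, z = ∑ l, b l ⊗ₜ[k] TensorProduct.lid k A ((b.coord l).rTensor A z) := by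
    intro z
    induction z with
    | zero => simp
    | add p q hp hq =>
      simp only [map_add, TensorProduct.tmul_add, Finset.sum_add_distrib]
      rw [← hp, ← hq]
    | tmul p a =>
      conv_lhs => rw [← b.sum_repr p, TensorProduct.sum_tmul]
      simp [TensorProduct.smul_tmul]
  have h0 : ∀ p q, Coalgebra.comul (R := k) (M p q) = ∑ l, M p l ⊗ₜ[k] M l q := fun p q => by
    show Coalgebra.comul (R := k) (mcoef c₀ (b.coord p) (b q)) = _
    rw [comul_mcoef, hrep (c₀.coact (b q)), map_sum]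
    exact Finset.sum_congr rfl fun l _ => LinearMap.rTensor_tmul _ _ _ _
  have h2 : ∀ p q, Coalgebra.counit (R := k) (M p q) = if p = q then 1 else 0 := fun p q => by
    show Coalgebra.counit (R := k) (mcoef c₀ (b.coord p) (b q)) = _
    rw [counit_mcoef, b.coord_apply, b.repr_self, Finsupp.single_apply]
    simp [eq_comm]
  let M₁ : Matrix (Fin (m + 1)) (Fin (m + 1)) A := Matrix.of fun p q =>
    Fin.lastCases (Fin.lastCases (1 : A) (fun _ => 0) q) (fun p' => Fin.lastCases (0 : A) (fun q' => M p' q') q) p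
  have h0₁ : ∀ p q, Coalgebra.comul (R := k) (M₁ p q) = ∑ l, M₁ p l ⊗ₜ[k] M₁ l q := fun p q => by
    induction p using Fin.lastCases <;> induction q using Fin.lastCases <;>
      simp [M₁, Fin.sum_univ_castSucc, h0, Algebra.TensorProduct.one_def, Bialgebra.comul_one]
  have h2₁ : ∀ p q, Coalgebra.counit (R := k) (M₁ p q) = if p = q then 1 else 0 := fun p q => by
    induction p using Fin.lastCases <;> induction q using Fin.lastCases <;>
      simp [M₁, h2, Bialgebra.counit_one, (Fin.castSucc_ne_last _).symm]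
  let N : Matrix (Fin (m + 1)) (Fin (m + 1)) k := Matrix.of fun p q =>
    if q = Fin.last m then Fin.lastCases (0 : k) w p else 0
  have hNN : N * N = 0 := by
    ext p q
    simp [N, Matrix.mul_apply, Fin.sum_univ_castSucc]
  have hCD : (1 + N) * (1 - N) = 1 := by
    rw [add_mul, mul_sub, mul_sub, hNN, _root_.one_mul, _root_.mul_one, _root_.one_mul, sub_zero]
    abel
  have hMw : ∀ p, mcoef c₀ (b.coord p) v₀ = ∑ q, M p q * algebraMap k A (w q) := fun p => by
    conv_lhs => rw [← b.sum_repr v₀, map_sum]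
    refine Finset.sum_congr rfl fun q _ => ?_
    rw [map_smul, Algebra.smul_def, _root_.mul_comm]
    rfl
  obtain ⟨r, hr⟩ := exists_bialgHom_conj M₁ h0₁ h2₁ 1 1 (_root_.mul_one _)
  obtain ⟨s, hs⟩ := exists_bialgHom_conj M₁ h0₁ h2₁ (1 + N) (1 - N) hCD
  simp only [Matrix.map_one _ (map_zero (algebraMap k A)) (map_one _), _root_.one_mul, _root_.mul_one] at hr
  let N' := N.map (algebraMap k A)
  have hNM : ∀ {R : Type u} [CommRing R] [Algebra k R] (φ : A →ₐ[k] R),
      (∀ p, ∑ q, φ (M p q) * algebraMap k R (w q) = algebraMap k R (w p)) →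
      φ.mapMatrix M₁ * N.map (algebraMap k R) = N.map (algebraMap k R) * φ.mapMatrix M₁ := by
    intro R _ _ φ hφ
    ext p q
    induction p using Fin.lastCases <;> induction q using Fin.lastCases <;>
      simp [N, M₁, Matrix.mul_apply, Fin.sum_univ_castSucc, hφ]
  have hπw : ∀ p, ∑ q, (π : A →ₐ[k] B) (M p q) * algebraMap k B (w q) = algebraMap k B (w p) := fun p => by
    have h := congrArg (fun z => TensorProduct.lid k B ((b.coord p).rTensor B z)) hv₀
    simp only [LinearMap.rTensor_tmul, TensorProduct.lid_tmul] at h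
    rw [b.coord_apply, ← Algebra.algebraMap_eq_smul_one] at h
    refine Eq.trans ?_ h
    rw [show ∑ q, (π : A →ₐ[k] B) (M p q) * algebraMap k B (w q) = (π : A →ₐ[k] B) (mcoef c₀ (b.coord p) v₀) by
      rw [hMw, map_sum]; exact Finset.sum_congr rfl fun q _ => by rw [map_mul, AlgHom.commutes]]
    show (π : A →ₐ[k] B) (TensorProduct.lid k A ((b.coord p).rTensor A (c₀.coact v₀))) =
      TensorProduct.lid k B ((b.coord p).rTensor B ((π : A →ₐ[k] B).toLinearMap.lTensor V₀ (c₀.coact v₀)))
    induction c₀.coact v₀ with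
    | zero => simp
    | add x y hx hy => simp only [map_add, hx, hy]
    | tmul x y => simp
  have hcomm := hNM (π : A →ₐ[k] B) hπw
  have hrs : r = s := he _ r s fun p q => by
    rw [hr, hs]
    have hconst : ∀ E : Matrix (Fin (m + 1)) (Fin (m + 1)) k,
        (π : A →ₐ[k] B).mapMatrix (E.map (algebraMap k A)) = E.map (algebraMap k B) := fun E => by
      ext a b; exact (π : A →ₐ[k] B).commutes _
    have h : (π : A →ₐ[k] B).mapMatrix ((1 + N).map (algebraMap k A) * M₁ * (1 - N).map (algebraMap k A)) =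
        (π : A →ₐ[k] B).mapMatrix M₁ := by
      rw [map_mul, map_mul, hconst, hconst]
      set X := (π : A →ₐ[k] B).mapMatrix M₁
      have e1 : (1 + N).map (algebraMap k B) * X = X * (1 + N).map (algebraMap k B) := by
        rw [Matrix.map_add _ (map_add _), Matrix.map_one _ (map_zero _) (map_one _), add_mul, mul_add, hcomm,
          _root_.one_mul, _root_.mul_one]
      rw [e1, _root_.mul_assoc, ← Matrix.map_mul, hCD, Matrix.map_one _ (map_zero _) (map_one _), _root_.mul_one]
    exact (congrFun (congrFun h p) q).symm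
  have hM : (1 + N).map (algebraMap k A) * M₁ * (1 - N).map (algebraMap k A) = M₁ := by
    ext p q
    rw [← hs, ← hrs, hr]
  have hA : M₁ * N' = N' * M₁ := by
    have e := congrArg (· * (1 + N).map (algebraMap k A)) hM
    simp only [_root_.mul_assoc] at e
    rw [← Matrix.map_mul, mul_eq_one_comm.mp hCD, Matrix.map_one _ (map_zero _) (map_one _), _root_.mul_one,
      Matrix.map_add _ (map_add _), Matrix.map_one _ (map_zero _) (map_one _), add_mul, mul_add, _root_.one_mul,
      _root_.mul_one] at e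
    exact (add_left_cancel e).symm
  refine eq_of_coef fun l => ?_
  have hp : ∀ p, mcoef c₀ (b.coord p) v₀ = algebraMap k A (w p) := fun p => by
    have e := congrFun (congrFun hA (Fin.castSucc p)) (Fin.last m)
    simp [N', N, M₁, Matrix.mul_apply, Fin.sum_univ_castSucc] at e
    rw [hMw, e]
  show mcoef c₀ l v₀ = TensorProduct.lid k A (l.rTensor A (v₀ ⊗ₜ[k] (1 : A)))
  rw [LinearMap.rTensor_tmul, TensorProduct.lid_tmul]
  have hl : l = ∑ p, l (b p) • b.coord p := by
    refine b.ext fun q => ?_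
    simp [Finsupp.single_apply]
  rw [show mcoef c₀ l v₀ = TensorProduct.lid k A (l.rTensor A (c₀.coact v₀)) from rfl]
  conv_lhs => rw [hrep (c₀.coact v₀)]
  simp only [map_sum, LinearMap.rTensor_tmul, TensorProduct.lid_tmul]
  rw [show (∑ x, l (b x) • TensorProduct.lid k A ((b.coord x).rTensor A (c₀.coact v₀))) =
    ∑ x, l (b x) • algebraMap k A (w x) from Finset.sum_congr rfl fun x _ => by rw [← hp x]; rfl]
  conv_rhs => rw [← b.sum_repr v₀, map_sum, Finset.sum_smul]
  refine Finset.sum_congr rfl fun x _ => ?_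
  rw [Algebra.algebraMap_eq_smul_one, map_smul, smul_smul, smul_eq_mul, _root_.mul_comm]

end Hopf

variable {G H : Over (Spec (CommRingCat.of k))} [GrpObj G] [GrpObj H]

theorem eq_of_taut {X Y : Over (Spec (CommRingCat.of k))} [IsAffine X.left] {f g : X ⟶ Y}
    (h : taut X ≫ f = taut X ≫ g) : f = g := by
  apply Over.OverMorphism.ext
  exact (cancel_epi X.left.isoSpec.inv).mp (congrArg CommaMorphism.left h)

variable [IsAlgClosed k] [IsAffine G.left] [IsAffine H.left] [Smooth G.hom] [Smooth H.hom]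

theorem epimorphic_tfae (i : H ⟶ G) [IsMonHom i] :
    List.TFAE [
      ∀ f : Γ(G.left, ⊤), ((G ◁ i) ≫ μ[G]).left.appTop f = (fst G H).left.appTop f →
        ∃ c : k, f = G.hom.appTop ((Scheme.ΓSpecIso (CommRingCat.of k)).inv c),
      ∀ (E : Type u) [AddCommGroup E] [Module k E] (ρ : VecGrp.GMod G E),
        ρ.fixedUnder i = ρ.fixedUnder (𝟙 G),
      ∀ (G' : Over (Spec (CommRingCat.of k))) [GrpObj G'] [IsAffine G'.left] [Smooth G'.hom]
        (r s : G ⟶ G') [IsMonHom r] [IsMonHom s], i ≫ r = i ≫ s → r = s] := by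
  obtain ⟨C⟩ := nonempty_chart G
  obtain ⟨D⟩ := nonempty_chart H
  have hmem : ∀ {E : Type u} [AddCommGroup E] [Module k E] {ρ : VecGrp.GMod G E} {c : HopfRep.Comod k C.A E},
      (∀ (R : Type u) [CommRing R] [Algebra k R] (φ : C.A →ₐ[k] R) (v : E),
        ρ.ρ R (C.pt φ) ((1 : R) ⊗ₜ[k] v) = TensorProduct.comm k E R (φ.toLinearMap.lTensor E (c.coact v))) →
      ∀ v, (v ∈ ρ.fixedUnder i ↔ ptAct c (C.hom D i : C.A →ₐ[k] D.A) v = v ⊗ₜ[k] (1 : D.A)) ∧
        (v ∈ ρ.fixedUnder (𝟙 G) ↔ c.coact v = v ⊗ₜ[k] (1 : C.A)) := by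
    intro E _ _ ρ c hc v
    constructor
    · constructor
      · intro h
        have h1 := h D.A (D.pt (AlgHom.id k D.A))
        rw [pt_comp C D, hc, AlgHom.id_comp] at h1
        exact (TensorProduct.comm k E D.A).injective (h1.trans (TensorProduct.comm_tmul _ _ _ _ _).symm)
      · intro h R _ _ g
        obtain ⟨ψ, rfl⟩ := (pt_bijective D).2 g
        rw [pt_comp C D, hc, AlgHom.comp_toLinearMap, LinearMap.lTensor_comp_apply,
          show (C.hom D i : C.A →ₐ[k] D.A).toLinearMap.lTensor E (c.coact v) = v ⊗ₜ[k] (1 : D.A) from h,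
          LinearMap.lTensor_tmul, TensorProduct.comm_tmul, AlgHom.toLinearMap_apply, map_one]
    · constructor
      · intro h
        have h1 := h C.A (C.pt (AlgHom.id k C.A))
        rw [Category.comp_id, hc, AlgHom.toLinearMap_id, LinearMap.lTensor_id] at h1
        exact (TensorProduct.comm k E C.A).injective (h1.trans (TensorProduct.comm_tmul _ _ _ _ _).symm)
      · intro h R _ _ g
        obtain ⟨ψ, rfl⟩ := (pt_bijective C).2 g
        rw [Category.comp_id, hc, h, LinearMap.lTensor_tmul, TensorProduct.comm_tmul, AlgHom.toLinearMap_apply, map_one]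
  tfae_have 1 → 2 := fun hb E _ _ ρ => by
    obtain ⟨c, hc⟩ := exists_comod C ρ
    refine SetLike.ext fun v => ?_
    refine ⟨fun h => ?_, fun h R _ _ g => by have := h R (g ≫ i); rwa [Category.comp_id] at this⟩
    refine ((hmem hc v).2).mpr (fixed_of_const (C.hom D i) (fun a ha => ?_) c (((hmem hc v).1).mp h))
    obtain ⟨f, rfl⟩ := (fn_bijective C).2 a
    obtain ⟨r, hr⟩ := hb f ((isRTransInv_iff_inv C D i f).mpr ha)
    refine ⟨r, ?_⟩
    rw [hr]
    exact AlgHom.commutes C.fn r
  tfae_have 2 → 1 := fun hc f hf => by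
    obtain ⟨r, hr⟩ := const_of_fixed (C.hom D i) (fun V _ _ c v hv => by
      obtain ⟨ρ, hρ⟩ := exists_gmod C c
      refine ((hmem hρ v).2).mp ?_
      rw [← hc V ρ]
      exact ((hmem hρ v).1).mpr hv) (C.fn f) ((isRTransInv_iff_inv C D i f).mp hf)
    exact ⟨r, (fn_bijective C).1 (hr.trans (AlgHom.commutes C.fn r).symm)⟩
  tfae_have 1 → 3 := fun hb G' _ _ _ r s _ _ hrs => by
    let φ : G ⟶ G' := r * s⁻¹
    haveI := AGFObs.isAffine_tensor (G := G) (H := H)
    have hφ : ∀ f : Γ(G'.left, ⊤), AGF.IsRTransInv i (AGFObs.Γmap φ f) := fun f =>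
      AGFObs.isRTransInv_of_ev fun R _ _ x t => by
        rw [← AlgHom.comp_apply, ← AGFObs.ev_comp, ← AlgHom.comp_apply, ← AGFObs.ev_comp]
        congr 2
        have e : (t ≫ i) ≫ r = (t ≫ i) ≫ s := by rw [Category.assoc, hrs, Category.assoc]
        simp only [φ, MonObj.comp_mul, GrpObj.comp_inv, MonObj.mul_comp, e, mul_inv_rev]
        group
    have h1 : φ = 1 := by
      refine eq_of_taut ?_
      rw [MonObj.comp_one]
      refine AGFObs.ev_ext (AlgHom.ext fun f => ?_)
      obtain ⟨r₀, hr₀⟩ := hb _ (hφ f)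
      have hev : ∀ {R : Type u} [CommRing R] [Algebra k R] (x : VecGrp.pt k R ⟶ G),
          ev (x ≫ φ) f = algebraMap k R r₀ := fun x => by
        rw [AGFObs.ev_comp, AlgHom.comp_apply, hr₀]
        exact AlgHom.commutes _ r₀
      rw [hev, ← hev (1 : VecGrp.pt k Γ(G.left, ⊤) ⟶ G)]
      congr 2
      simp [φ, MonObj.comp_mul, GrpObj.comp_inv, MonObj.one_comp]
    exact mul_inv_eq_one.mp h1
  tfae_have 3 → 2 := fun he E _ _ ρ => by
    obtain ⟨c, hc⟩ := exists_comod C ρ
    refine SetLike.ext fun v => ?_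
    refine ⟨fun h => ?_, fun h R _ _ g => by have := h R (g ≫ i); rwa [Category.comp_id] at this⟩
    refine ((hmem hc v).2).mpr (fixed_of_gl (C.hom D i) (fun n r s hrs => ?_) c (((hmem hc v).1).mp h))
    obtain ⟨hred, hsm⟩ := isReduced_and_smooth_GLn (k := k) n
    let G' := GModComod.Gr k (CoordGrp.GLn n k)
    haveI : IsAffine G'.left := inferInstanceAs (IsAffine (Spec _))
    haveI : Smooth G'.hom := by
      show Smooth (Spec.map (CommRingCat.ofHom (algebraMap k (CoordGrp.GLn n k))))
      rw [HasRingHomProperty.Spec_iff (P := @Smooth)]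
      exact RingHom.smooth_algebraMap.mpr hsm
    haveI : IsMonHom (specHom r).hom.hom := (specHom r).hom.isMonHom_hom
    haveI : IsMonHom (specHom s).hom.hom := (specHom s).hom.isMonHom_hom
    have hpre : (C.hom D i : C.A →ₐ[k] D.A).comp (r : CoordGrp.GLn n k →ₐ[k] C.A) =
        (C.hom D i : C.A →ₐ[k] D.A).comp (s : CoordGrp.GLn n k →ₐ[k] C.A) := bialgHom_GLn_ext hrs
    have h1 := he G' (C.e.inv ≫ (specHom r).hom.hom) (C.e.inv ≫ (specHom s).hom.hom) (by
      rw [← cancel_epi D.e.hom]
      simp only [← Category.assoc]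
      rw [Category.assoc D.e.hom, hom_spec]
      apply Over.OverMorphism.ext
      show Spec.map _ ≫ Spec.map _ = Spec.map _ ≫ Spec.map _
      rw [← Spec.map_comp, ← Spec.map_comp]
      exact congrArg (fun f : CoordGrp.GLn n k →ₐ[k] D.A => Spec.map (CommRingCat.ofHom f.toRingHom)) hpre)
    have h2 := congrArg CommaMorphism.left ((cancel_epi C.e.inv).mp h1)
    exact BialgHom.ext fun x => RingHom.congr_fun (congrArg CommRingCat.Hom.hom (Spec.map_injective h2)) x
  tfae_finish

end Groth.Agent.ObsLib
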