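import Groth.Agent.ObsLib.Points
import Groth.Agent.Comodule.LineStab

/-! Extending comodules of a subgroup whose semi-invariant weights are invertible. -/

set_option autoImplicit false
set_option maxHeartbeats 800000

universe u

open scoped TensorProduct

noncomputable section

namespace Groth.Agent.ObsLib

open Comodule

variable {k : Type u} [Field k] {A B : Type u} [CommRing A] [HopfAlgebra k A] [CommRing B] [HopfAlgebra k B]
  (π : A →ₐc[k] B)

/-- Coefficients of a comodule. -/
def mcoef {V : Type u} [AddCommGroup V] [Module k V] (d : HopfRep.Comod k B V) (l : V →ₗ[k] k) : V →ₗ[k] B :=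
  (TensorProduct.lid k B).toLinearMap ∘ₗ l.rTensor B ∘ₗ d.coact

theorem comul_mcoef {V : Type u} [AddCommGroup V] [Module k V] (d : HopfRep.Comod k B V) (l : V →ₗ[k] k) (v : V) :
    Coalgebra.comul (R := k) (mcoef d l v) = (mcoef d l).rTensor B (d.coact v) := by
  have hc := congrArg (fun z => TensorProduct.lid k (B ⊗[k] B) (l.rTensor (B ⊗[k] B) z))
    (LinearMap.congr_fun d.coassoc v)
  simp only [LinearMap.comp_apply, LinearEquiv.coe_coe] at hc
  refine Eq.trans ?_ (Eq.trans hc.symm ?_)
  · show Coalgebra.comul (R := k) (TensorProduct.lid k B (l.rTensor B (d.coact v))) = _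
    induction d.coact v with
    | zero => simp
    | add p q hp hq => simp only [map_add, hp, hq]
    | tmul p q => simp
  · induction d.coact v with
    | zero => simp
    | add p q hp hq => simp only [map_add, hp, hq]
    | tmul p q =>
      show _ = (TensorProduct.lid k B (l.rTensor B (d.coact p))) ⊗ₜ[k] q
      simp only [LinearMap.rTensor_tmul]
      induction d.coact p with
      | zero => simp
      | add r t hr ht => simp only [map_add, TensorProduct.add_tmul, hr, ht]
      | tmul r t => simp [TensorProduct.smul_tmul']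

theorem counit_mcoef {V : Type u} [AddCommGroup V] [Module k V] (d : HopfRep.Comod k B V) (l : V →ₗ[k] k) (v : V) :
    Coalgebra.counit (R := k) (mcoef d l v) = l v := by
  have hc := congrArg (fun z => TensorProduct.lid k k (l.rTensor k z)) (LinearMap.congr_fun d.counit_comp v)
  simp only [LinearMap.comp_apply, LinearMap.flip_apply, TensorProduct.mk_apply, LinearMap.rTensor_tmul,
    TensorProduct.lid_tmul, smul_eq_mul, mul_one] at hc
  rw [← hc]
  show Coalgebra.counit (R := k) (TensorProduct.lid k B (l.rTensor B (d.coact v))) = _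
  induction d.coact v with
  | zero => simp
  | add p q hp hq => simp only [map_add, hp, hq]
  | tmul p q => simp

/-- Equivariant maps to the regular comodule, jointly injective, give an embedding in a finite comodule. -/
theorem exists_extension_of_maps {V : Type u} [AddCommGroup V] [Module k V] [Module.Finite k V]
    (d : HopfRep.Comod k B V) {ι : Type u} [Fintype ι] (L : ι → V →ₗ[k] A)
    (hL : ∀ j v, (π : A →ₗ[k] B).lTensor A (Coalgebra.comul (R := k) (L j v)) = (L j).rTensor B (d.coact v))
    (hinj : ∀ v, (∀ j, L j v = 0) → v = 0) :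
    ∃ (W : Type u) (_ : AddCommGroup W) (_ : Module k W) (c : HopfRep.Comod k A W) (_ : Module.Finite k W)
      (φ : V →ₗ[k] W), Function.Injective φ ∧
        ∀ v, (π : A →ₗ[k] B).lTensor W (c.coact (φ v)) = φ.rTensor B (d.coact v) := by
  classical
  let bV := Module.finBasis k V
  let gen : Set A := Set.range fun q : ι × Fin (Module.finrank k V) => L q.1 (bV q.2)
  let V₀ : Submodule k A := (Submodule.span (WithConv (A →ₗ[k] k)) gen).restrictScalars k
  haveI : Module.Finite k V₀ := finite_span_of_finite (Set.finite_range _)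
  have hV₀ : HopfRep.IsSubcomod (k := k) (A := A) V₀ := isSubcomod_restrictScalars _
  have hmem : ∀ j v, L j v ∈ V₀ := by
    intro j v
    rw [← bV.sum_repr v, map_sum]
    refine Submodule.sum_mem _ fun l _ => ?_
    rw [map_smul]
    exact Submodule.smul_mem _ _ (Submodule.subset_span ⟨(j, l), rfl⟩)
  let c := ComodTens.Comod.pi (k := k) (A := A) (X := fun _ : ι => V₀) fun _ => subComod V₀ hV₀
  let φ : V →ₗ[k] (ι → V₀) := LinearMap.pi fun j => (L j).codRestrict V₀ (hmem _)
  refine ⟨_, inferInstance, inferInstance, c, inferInstance, φ, ?_, fun v => ?_⟩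
  · refine (injective_iff_map_eq_zero φ).mpr fun v h => hinj v fun j => ?_
    exact congrArg Subtype.val (congrFun h j)
  · refine sub_eq_zero.mp (AGFObs.eq_zero_of_proj _ fun j => ?_)
    refine (Module.Flat.rTensor_preserves_injective_linearMap (M := B) _ V₀.injective_subtype) ?_
    rw [map_zero, ← LinearMap.rTensor_comp_apply, map_sub, sub_eq_zero, ← ComodTens.lTensor_rTensor_comm,
      ← LinearMap.rTensor_comp_apply]
    have hc : ∀ w, (V₀.subtype ∘ₗ LinearMap.proj j).rTensor A (c.coact w) =
        Coalgebra.comul (R := k) ((w j : V₀) : A) := by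
      intro w
      rw [ComodTens.pi_coact, map_sum, Finset.sum_eq_single j]
      · rw [← LinearMap.rTensor_comp_apply, LinearMap.comp_assoc, LinearMap.proj_comp_single_same, LinearMap.comp_id]
        exact rTensor_subCoact V₀ hV₀ _
      · intro l _ hl
        rw [← LinearMap.rTensor_comp_apply, LinearMap.comp_assoc, LinearMap.proj_comp_single_ne _ _ _ _ hl.symm,
          LinearMap.comp_zero, LinearMap.rTensor_zero, LinearMap.zero_apply]
      · exact fun h => absurd (Finset.mem_univ j) h
    rw [hc]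
    exact (hL j v).trans rfl

variable [IsAlgClosed k] [Algebra.FiniteType k A] [IsReduced A] [Algebra.FiniteType k B] [IsReduced B]

/-- Minors of a matrix of coefficients, corrected by a semi-invariant. -/
theorem exists_minor_family
    (hsemi : ∀ χ ψ : B, ψ * χ = 1 → ∀ f : A, IsSemi (π : A →ₐ[k] B) χ f → f ≠ 0 →
      ∃ g : A, g ≠ 0 ∧ IsSemi (π : A →ₐ[k] B) ψ g)
    {d d' : ℕ} (C : (Fin d ⊕ Fin d') → (Fin d ⊕ Fin d') → A)
    (hΔC : ∀ j l, Coalgebra.comul (R := k) (C j l) = ∑ m, C m l ⊗ₜ[k] C j m)
    (hεC : ∀ j l, Coalgebra.counit (R := k) (C j l) = if j = l then 1 else 0)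
    (hπC : ∀ t l, π (C (Sum.inl t) (Sum.inr l)) = 0) :
    ∃ (ι : Type u) (_ : Fintype ι) (y : ι → Fin d' → A) (e : k), e ≠ 0 ∧
      (∀ i j, (π : A →ₐ[k] B).toLinearMap.lTensor A (Coalgebra.comul (R := k) (y i j)) =
        ∑ m, y i m ⊗ₜ[k] π (C (Sum.inr j) (Sum.inr m))) ∧
      ∀ m, ∃ i, ∀ j, Coalgebra.counit (R := k) (y i j) = if j = m then e else 0 := by
  classical
  -- minors
  let T : A →ₐ[k] A ⊗[k] B := rightTr (π : A →ₐ[k] B)
  have hT : ∀ j q, T (C j q) = ∑ m, C m q ⊗ₜ[k] π (C j m) := fun j q => by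
    show (π : A →ₐ[k] B).toLinearMap.lTensor A (Coalgebra.comul (R := k) (C j q)) = _
    rw [hΔC, map_sum]
    exact Finset.sum_congr rfl fun m _ => LinearMap.lTensor_tmul _ _ _ _
  let i₂ : B →ₐ[k] A ⊗[k] B := Algebra.TensorProduct.includeRight
  let i₁ : A →ₐ[k] A ⊗[k] B := Algebra.TensorProduct.includeLeft
  let G : Matrix (Fin d) (Fin d) B := Matrix.of fun t m => π (C (Sum.inl t) (Sum.inl m))
  let M₀ : Matrix (Fin d) (Fin d) A := Matrix.of fun t q => C (Sum.inl t) (Sum.inl q)
  have hε₀ : Coalgebra.counit (R := k) M₀.det = 1 := by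
    show Bialgebra.counitAlgHom k A M₀.det = 1
    rw [AlgHom.map_det]
    have : (Bialgebra.counitAlgHom k A).mapMatrix M₀ = 1 := by
      ext t q
      show Coalgebra.counit (R := k) (C (Sum.inl t) (Sum.inl q)) = _
      rw [hεC]
      simp [Matrix.one_apply]
    rw [this, Matrix.det_one]
  have hsemi₀ : IsSemi (π : A →ₐ[k] B) G.det M₀.det := by
    show T M₀.det = _
    have hm : T.mapMatrix M₀ = i₂.mapMatrix G * i₁.mapMatrix M₀ := by
      ext t q
      rw [AlgHom.mapMatrix_apply, Matrix.map_apply, Matrix.mul_apply]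
      simp only [M₀, Matrix.of_apply, hT, Fintype.sum_sum_type, hπC, TensorProduct.tmul_zero, Finset.sum_const_zero,
        add_zero, G, AlgHom.mapMatrix_apply, Matrix.map_apply]
      refine Finset.sum_congr rfl fun m _ => ?_
      simp [i₁, i₂, Algebra.TensorProduct.tmul_mul_tmul]
    rw [AlgHom.map_det, hm, Matrix.det_mul, ← AlgHom.map_det, ← AlgHom.map_det]
    simp [i₁, i₂, Algebra.TensorProduct.tmul_mul_tmul]
  obtain ⟨ψ, hψ⟩ : ∃ ψ : B, ψ * G.det = 1 := by
    let S : A →ₐ[k] B := (HopfAlgebra.antipodeAlgHom k B).comp (π : A →ₐ[k] B)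
    have h1 := congrArg (Algebra.TensorProduct.lift S (AlgHom.id k B) fun _ _ => mul_comm _ _) hsemi₀
    rw [Algebra.TensorProduct.lift_tmul, AlgHom.id_apply] at h1
    refine ⟨S M₀.det, h1.symm.trans ?_⟩
    have key : Algebra.TensorProduct.lift S (AlgHom.id k B) (fun _ _ => mul_comm _ _)
        ((π : A →ₐ[k] B).toLinearMap.lTensor A (Coalgebra.comul (R := k) M₀.det)) =
        algebraMap k B (Coalgebra.counit (R := k) (π M₀.det)) := by
      rw [← HopfAlgebra.mul_antipode_rTensor_comul_apply (R := k) (π M₀.det), ← CoalgHomClass.map_comp_comul_apply]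
      induction Coalgebra.comul (R := k) M₀.det with
      | zero => simp
      | add p q hp hq => simp only [map_add, hp, hq]
      | tmul p q => simp [S]
    rw [key, CoalgHomClass.counit_comp_apply, hε₀, map_one]
  obtain ⟨g₀, hg₀, hg₀s⟩ := hsemi G.det ψ hψ M₀.det hsemi₀ (fun h => by simp [h] at hε₀)
  obtain ⟨x₀, hx₀⟩ : ∃ x : A →ₐ[k] k, x g₀ ≠ 0 := by
    by_contra h
    push Not at h
    exact hg₀ (eq_zero_of_pts (k := k) h)
  let g := lTr x₀ g₀
  have hgs : IsSemi (π : A →ₐ[k] B) ψ g := isSemi_lTr π hg₀s x₀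
  have hεg : Coalgebra.counit (R := k) g ≠ 0 := by
    show (pone : A →ₐ[k] k) (lTr x₀ g₀) ≠ 0
    rwa [apply_lTr, pmul_pone]
  let Mat : (Fin d ⊕ Fin d') → (Option (Fin d) → Fin d ⊕ Fin d') → Matrix (Option (Fin d)) (Option (Fin d)) A :=
    fun j σ => Matrix.of fun r q => C (r.elim j Sum.inl) (σ q)
  let y : (Option (Fin d) → Fin d ⊕ Fin d') → Fin d' → A := fun σ j => (Mat (Sum.inr j) σ).det * g
  let K : Matrix (Option (Fin d)) (Option (Fin d)) (A ⊗[k] B) := Matrix.of fun r q =>
    match r, q with
    | none, none => 1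
    | none, some _ => 0
    | some _, none => 0
    | some t, some m => i₂ (G t m)
  have hK : K.det = i₂ G.det := by
    rw [← Matrix.det_reindex_self (Equiv.optionEquivSumPUnit.{0} (Fin d))]
    rw [show Matrix.reindex (Equiv.optionEquivSumPUnit.{0} (Fin d)) (Equiv.optionEquivSumPUnit.{0} (Fin d)) K =
        Matrix.fromBlocks (i₂.mapMatrix G) 0 0 1 by
      ext (r | r) (q | q) <;> simp [K, Matrix.one_apply]]
    rw [Matrix.det_fromBlocks_zero₂₁, Matrix.det_one, mul_one, ← AlgHom.map_det]
  have hrow : ∀ j σ, T.mapMatrix (Mat j σ) = Matrix.updateRow (K * i₁.mapMatrix (Mat j σ)) none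
      (∑ m, i₂ (π (C j m)) • fun q => i₁ (C m (σ q))) := by
    intro j σ
    ext r q
    cases r with
    | none =>
      rw [Matrix.updateRow_self, AlgHom.mapMatrix_apply, Matrix.map_apply]
      simp only [Mat, Matrix.of_apply, Option.elim_none, hT, Finset.sum_apply, Pi.smul_apply, smul_eq_mul]
      refine Finset.sum_congr rfl fun m _ => ?_
      show _ = ((1 : A) ⊗ₜ[k] π (C j m)) * (C m (σ q) ⊗ₜ[k] (1 : B))
      rw [Algebra.TensorProduct.tmul_mul_tmul, one_mul, mul_one]
    | some t =>
      rw [Matrix.updateRow_ne (by simp), AlgHom.mapMatrix_apply, Matrix.map_apply, Matrix.mul_apply, Fintype.sum_option]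
      simp only [Mat, Matrix.of_apply, Option.elim_some, hT, Fintype.sum_sum_type, hπC, TensorProduct.tmul_zero,
        Finset.sum_const_zero, add_zero, K, zero_mul, zero_add, AlgHom.mapMatrix_apply, Matrix.map_apply, G]
      refine Finset.sum_congr rfl fun m _ => ?_
      show _ = ((1 : A) ⊗ₜ[k] _) * (C (Sum.inl m) (σ q) ⊗ₜ[k] (1 : B))
      rw [Algebra.TensorProduct.tmul_mul_tmul, one_mul, mul_one]
  have hupd : ∀ j m σ, Matrix.updateRow (K * i₁.mapMatrix (Mat j σ)) none (fun q => i₁ (C m (σ q))) =
      K * i₁.mapMatrix (Mat m σ) := by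
    intro j m σ
    ext r q
    cases r with
    | none =>
      rw [Matrix.updateRow_self, Matrix.mul_apply, Fintype.sum_option]
      simp only [Mat, K, Matrix.of_apply, Option.elim_none, one_mul, zero_mul, Finset.sum_const_zero, add_zero,
        AlgHom.mapMatrix_apply, Matrix.map_apply]
    | some t =>
      rw [Matrix.updateRow_ne (by simp), Matrix.mul_apply, Matrix.mul_apply, Fintype.sum_option, Fintype.sum_option]
      simp only [Mat, K, Matrix.of_apply, Option.elim_some, zero_mul, zero_add, AlgHom.mapMatrix_apply, Matrix.map_apply]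
  have hy : ∀ σ j, T (y σ j) = ∑ m, y σ m ⊗ₜ[k] π (C (Sum.inr j) (Sum.inr m)) := by
    intro σ j
    have hD : T (Mat (Sum.inr j) σ).det =
        ∑ m, (Mat (Sum.inr m) σ).det ⊗ₜ[k] (π (C (Sum.inr j) (Sum.inr m)) * G.det) := by
      rw [AlgHom.map_det, hrow]
      show (Matrix.detRowAlternating : _ [⋀^Option (Fin d)]→ₗ[A ⊗[k] B] _)
        (Function.update (K * i₁.mapMatrix (Mat (Sum.inr j) σ)) none _) = _
      rw [AlternatingMap.map_update_sum]
      simp only [AlternatingMap.map_update_smul]
      show ∑ m, i₂ (π (C (Sum.inr j) m)) •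
        (Matrix.updateRow (K * i₁.mapMatrix (Mat (Sum.inr j) σ)) none (fun q => i₁ (C m (σ q)))).det = _
      simp only [hupd, Matrix.det_mul, hK, ← AlgHom.map_det, Fintype.sum_sum_type]
      rw [Finset.sum_eq_zero (s := (Finset.univ : Finset (Fin d))) fun m _ => ?_, zero_add]
      · refine Finset.sum_congr rfl fun m _ => ?_
        simp [i₁, i₂, Algebra.TensorProduct.tmul_mul_tmul, mul_comm]
      · rw [Matrix.det_zero_of_row_eq (M := Mat (Sum.inl m) σ) (i := none) (j := some m) (by simp) (by
          ext q; simp [Mat])]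
        simp
    rw [map_mul, hD, show T g = g ⊗ₜ[k] ψ from hgs, Finset.sum_mul]
    refine Finset.sum_congr rfl fun m _ => ?_
    rw [Algebra.TensorProduct.tmul_mul_tmul, mul_assoc, mul_comm G.det, hψ, mul_one]
  refine ⟨ULift.{u} (Option (Fin d) → Fin d ⊕ Fin d'), inferInstance, fun σ => y σ.down,
    Coalgebra.counit (R := k) g, hεg, fun σ j => hy σ.down j,
    fun m => ⟨⟨fun r => r.elim (Sum.inr m) Sum.inl⟩, fun j => ?_⟩⟩
  let σ : Option (Fin d) → Fin d ⊕ Fin d' := fun r => r.elim (Sum.inr m) Sum.inl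
  show Bialgebra.counitAlgHom k A ((Mat (Sum.inr j) σ).det * g) = _
  rw [map_mul, AlgHom.map_det]
  by_cases h : j = m
  · subst h
    have : (Bialgebra.counitAlgHom k A).mapMatrix (Mat (Sum.inr j) σ) = 1 := by
      ext r q
      show Coalgebra.counit (R := k) (C (r.elim (Sum.inr j) Sum.inl) (σ q)) = _
      rw [hεC]
      cases r <;> cases q <;> simp [σ, Matrix.one_apply]
    rw [this, Matrix.det_one, one_mul, if_pos rfl]
    rfl
  · rw [if_neg h, Matrix.det_eq_zero_of_row_eq_zero none fun q => ?_, zero_mul]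
    show Coalgebra.counit (R := k) (C (Sum.inr j) (σ q)) = 0
    rw [hεC]
    cases q <;> simp [σ, h]

/-- If inverses of semi-invariant weights are weights, comodules of the subgroup extend. -/
theorem exists_extension (hπ : Function.Surjective π)
    (hsemi : ∀ χ ψ : B, ψ * χ = 1 → ∀ f : A, IsSemi (π : A →ₐ[k] B) χ f → f ≠ 0 →
      ∃ g : A, g ≠ 0 ∧ IsSemi (π : A →ₐ[k] B) ψ g)
    {V : Type u} [AddCommGroup V] [Module k V] [Module.Finite k V] (d₀ : HopfRep.Comod k B V) :
    ∃ (W : Type u) (_ : AddCommGroup W) (_ : Module k W) (c : HopfRep.Comod k A W) (_ : Module.Finite k W)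
      (φ : V →ₗ[k] W), Function.Injective φ ∧
        ∀ v, (π : A →ₗ[k] B).lTensor W (c.coact (φ v)) = φ.rTensor B (d₀.coact v) := by
  classical
  choose pre hpre using hπ
  let bV := Module.finBasis k V
  let s : Finset A := Finset.univ.image fun q : Fin (Module.finrank k V) × Fin (Module.finrank k V) =>
    pre (mcoef d₀ (bV.coord q.1) (bV q.2))
  set I : Ideal A := RingHom.ker (π : A →+* B) with hI
  let V₀ : Submodule k A := (Submodule.span (WithConv (A →ₗ[k] k)) (s : Set A)).restrictScalars k
  haveI : Module.Finite k V₀ := finite_span_of_finite s.finite_toSet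
  have hV₀ : HopfRep.IsSubcomod (k := k) (A := A) V₀ := isSubcomod_restrictScalars _
  let W : Submodule k V₀ := (I.restrictScalars k).comap V₀.subtype
  obtain ⟨W', hW'⟩ := W.exists_isCompl
  haveI : Module.Free k W := Module.Free.of_divisionRing k W
  haveI : Module.Free k W' := Module.Free.of_divisionRing k W'
  set d := Module.finrank k W with hd
  set d' := Module.finrank k W' with hd'
  let b : Module.Basis (Fin d ⊕ Fin d') k V₀ :=
    ((Module.finBasis k W).prod (Module.finBasis k W')).map (Submodule.prodEquivOfIsCompl W W' hW')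
  have hbl : ∀ t, π (b (Sum.inl t) : A) = 0 := fun t => by
    have : b (Sum.inl t) = (Module.finBasis k W t : V₀) := by
      simp [b, Submodule.coe_prodEquivOfIsCompl']
    rw [this]
    exact (Module.finBasis k W t).2
  have hI' : ∀ x : V₀, (x : A) ∈ I → ∀ l, b.coord (Sum.inr l) x = 0 := by
    intro x hx l
    have hx' : x ∈ W := hx
    have : (Submodule.prodEquivOfIsCompl W W' hW').symm x = (⟨x, hx'⟩, 0) := by
      rw [LinearEquiv.symm_apply_eq]
      simp [Submodule.coe_prodEquivOfIsCompl']
    simp [b, Module.Basis.coord_apply, this]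
  choose φ hφ using fun i => LinearMap.exists_extend (b.coord i)
  have hφb : ∀ i j, φ i (b j : A) = if j = i then 1 else 0 := fun i j => by
    have h4 := LinearMap.congr_fun (hφ i) (b j)
    simp only [LinearMap.comp_apply, Submodule.subtype_apply] at h4
    rw [h4, b.coord_apply, b.repr_self, Finsupp.single_apply]
  let C : (Fin d ⊕ Fin d') → (Fin d ⊕ Fin d') → A := fun j l => lcon (φ l) (Coalgebra.comul (R := k) (b j : A))
  have hΔb : ∀ j, Coalgebra.comul (R := k) (b j : A) = ∑ l, (b l : A) ⊗ₜ[k] C j l := by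
    intro j
    obtain ⟨z, hz⟩ := hV₀ (b j : A) (b j).2
    have hrep : ∀ z : V₀ ⊗[k] A, z = ∑ l, b l ⊗ₜ[k] lcon (b.coord l) z := by
      intro z
      induction z with
      | zero => simp
      | add p q hp hq =>
        simp only [map_add, TensorProduct.tmul_add, Finset.sum_add_distrib]
        rw [← hp, ← hq]
      | tmul p a =>
        conv_lhs => rw [← b.sum_repr p, TensorProduct.sum_tmul]
        simp [TensorProduct.smul_tmul]
    change HopfRep.Comod.coact (k := k) (A := A) (b j : A) = _
    rw [← hz]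
    conv_lhs => rw [hrep z]
    rw [map_sum]
    refine Finset.sum_congr rfl fun l _ => ?_
    rw [LinearMap.rTensor_tmul]
    congr 1
    change _ = lcon (φ l) (HopfRep.Comod.coact (k := k) (A := A) (b j : A))
    rw [← hz, lcon_rTensor, hφ]
  have hΔC : ∀ j l, Coalgebra.comul (R := k) (C j l) = ∑ m, C m l ⊗ₜ[k] C j m := by
    intro j l
    have h3 := LinearMap.congr_fun (isComodHom_restrictScalars (coefMap (C := A) (φ l))) (b j : A)
    simp only [LinearMap.comp_apply, LinearMap.coe_restrictScalars, coact_regular, hΔb, map_sum,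
      LinearMap.rTensor_tmul] at h3
    exact h3
  have hεC : ∀ j l, Coalgebra.counit (R := k) (C j l) = if j = l then 1 else 0 := fun j l => by
    rw [show C j l = coefMap (C := A) (φ l) (b j : A) from rfl, counit_coefMap, hφb]
  -- the left inverse on the image
  have hli : LinearIndependent k fun m : Fin d' => π (b (Sum.inr m) : A) := by
    refine Fintype.linearIndependent_iff.mpr fun g hg m => ?_
    have hmem : ((∑ i, g i • b (Sum.inr i) : V₀) : A) ∈ I := by
      show π ((∑ i, g i • b (Sum.inr i) : V₀) : A) = 0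
      rw [Submodule.coe_sum, map_sum, ← hg]
      exact Finset.sum_congr rfl fun i _ => by rw [SetLike.val_smul, map_smul]
    have h1 := hI' _ hmem m
    simp only [map_sum, map_smul, Module.Basis.coord_apply, Module.Basis.repr_self, smul_eq_mul] at h1
    simpa [Finsupp.single_apply] using h1
  obtain ⟨θ, hθ⟩ := LinearMap.exists_leftInverse_of_injective
    (Fintype.linearCombination k fun m : Fin d' => π (b (Sum.inr m) : A))
    (LinearMap.ker_eq_bot'.mpr fun g hg => funext (Fintype.linearIndependent_iff.mp hli g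
      (by simpa [Fintype.linearCombination_apply] using hg)))
  have hθm : ∀ m, θ (π (b (Sum.inr m) : A)) = Pi.single m 1 := fun m => by
    have := LinearMap.congr_fun hθ (Pi.single m 1)
    simpa [Fintype.linearCombination_apply, Pi.single_apply] using this
  have hπC : ∀ t l, π (C (Sum.inl t) (Sum.inr l)) = 0 := by
    intro t l
    have h0 : TensorProduct.map (π.toLinearMap : A →ₗ[k] B) (π.toLinearMap : A →ₗ[k] B)
        (Coalgebra.comul (R := k) (b (Sum.inl t) : A)) = 0 := by
      rw [show TensorProduct.map (π.toLinearMap : A →ₗ[k] B) (π.toLinearMap : A →ₗ[k] B)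
        (Coalgebra.comul (R := k) (b (Sum.inl t) : A)) = Coalgebra.comul (R := k) (π (b (Sum.inl t) : A)) from
          CoalgHomClass.map_comp_comul_apply π _, hbl t, map_zero]
    rw [hΔb, map_sum, Fintype.sum_sum_type] at h0
    have h0' : ∑ m : Fin d', π (b (Sum.inr m) : A) ⊗ₜ[k] π (C (Sum.inl t) (Sum.inr m)) = 0 := by
      refine Eq.trans ?_ h0
      conv_rhs => rw [Finset.sum_eq_zero fun m _ => show _ = (0 : B ⊗[k] B) by
        rw [TensorProduct.map_tmul]
        change π (b (Sum.inl m) : A) ⊗ₜ[k] π _ = 0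
        rw [hbl m, TensorProduct.zero_tmul], zero_add]
      rfl
    have h2 := congrArg ((TensorProduct.lid k B).toLinearMap ∘ₗ (LinearMap.proj l ∘ₗ θ).rTensor B) h0'
    simpa [map_sum, hθm, Pi.single_apply] using h2
  obtain ⟨J, _, y, e, he, hy, hεy⟩ := exists_minor_family π hsemi C hΔC hεC hπC
  let Θ : J → B →ₗ[k] A := fun σ => Fintype.linearCombination k (y σ) ∘ₗ θ
  have hΘm : ∀ σ m, Θ σ (π (b (Sum.inr m) : A)) = y σ m := fun σ m => by
    simp [Θ, hθm, Fintype.linearCombination_apply, Pi.single_apply]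
  have hΘ : ∀ σ (x : V₀), (π : A →ₗ[k] B).lTensor A (Coalgebra.comul (R := k) (Θ σ (π (x : A)))) =
      (Θ σ).rTensor B (Coalgebra.comul (R := k) (π (x : A))) := by
    intro σ x
    rw [← b.sum_repr x, Submodule.coe_sum]
    simp only [map_sum, SetLike.val_smul, map_smul]
    refine Finset.sum_congr rfl fun j _ => congrArg _ ?_
    cases j with
    | inl t => rw [hbl]; simp
    | inr m =>
      rw [hΘm, ← CoalgHomClass.map_comp_comul_apply, hΔb, map_sum, map_sum, Fintype.sum_sum_type]
      show (π : A →ₐ[k] B).toLinearMap.lTensor A (Coalgebra.comul (R := k) (y σ m)) = _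
      rw [hy, Finset.sum_eq_zero (s := (Finset.univ : Finset (Fin d))) fun l _ => ?_, zero_add]
      · refine Finset.sum_congr rfl fun l _ => ?_
        rw [TensorProduct.map_tmul, LinearMap.rTensor_tmul]
        exact congrArg (· ⊗ₜ[k] _) (hΘm σ l).symm
      · rw [TensorProduct.map_tmul, LinearMap.rTensor_tmul]
        show Θ σ (π (b (Sum.inl l) : A)) ⊗ₜ[k] _ = 0
        rw [hbl, map_zero, TensorProduct.zero_tmul]
  have hmem : ∀ l v, ∃ x : V₀, π (x : A) = mcoef d₀ (bV.coord l) v := by
    intro l v
    have hq : ∀ q, pre (mcoef d₀ (bV.coord l) (bV q)) ∈ V₀ := fun q => by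
      refine Submodule.restrictScalars_mem k _ _ |>.mpr (Submodule.subset_span ?_)
      rw [Finset.mem_coe, Finset.mem_image]
      exact ⟨(l, q), Finset.mem_univ _, rfl⟩
    refine ⟨∑ q, bV.repr v q • (⟨pre (mcoef d₀ (bV.coord l) (bV q)), hq q⟩ : V₀), ?_⟩
    rw [Submodule.coe_sum]
    simp only [map_sum, SetLike.val_smul, map_smul, hpre]
    conv_rhs => rw [← bV.sum_repr v]
    simp only [map_sum, map_smul]
  let L : ULift.{u} (Fin (Module.finrank k V)) × J → V →ₗ[k] A := fun q =>
    Θ q.2 ∘ₗ mcoef d₀ (bV.coord q.1.down)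
  refine exists_extension_of_maps π d₀ L (fun q v => ?_) (fun v hv => ?_)
  · obtain ⟨x, hx⟩ := hmem q.1.down v
    show (π : A →ₗ[k] B).lTensor A (Coalgebra.comul (R := k) (Θ q.2 (mcoef d₀ _ v))) = _
    rw [← hx, hΘ, hx, comul_mcoef, ← LinearMap.rTensor_comp_apply]
  · apply bV.ext_elem
    intro l
    rw [map_zero, Finsupp.zero_apply]
    obtain ⟨x, hx⟩ := hmem l v
    have hexp : π (x : A) = ∑ m : Fin d', b.repr x (Sum.inr m) • π (b (Sum.inr m) : A) := by
      have h := congrArg (fun z : V₀ => π (z : A)) (b.sum_repr x)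
      simp only [Fintype.sum_sum_type, Submodule.coe_add, Submodule.coe_sum, SetLike.val_smul, map_add, map_sum,
        map_smul, hbl, smul_zero, Finset.sum_const_zero, zero_add] at h
      exact h.symm
    have hcoord : ∀ m : Fin d', b.repr x (Sum.inr m) = 0 := by
      intro m
      obtain ⟨σ, hσ⟩ := hεy m
      have h1 := congrArg (fun a => Coalgebra.counit (R := k) a) (hv (⟨l⟩, σ))
      change Coalgebra.counit (R := k) (Θ σ (mcoef d₀ (bV.coord l) v)) = Coalgebra.counit (R := k) (0 : A) at h1
      rw [← hx, hexp] at h1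
      simp only [map_sum, map_smul, map_zero, hΘm] at h1
      simp only [hσ, smul_eq_mul, mul_ite, mul_zero, Finset.sum_ite_eq', Finset.mem_univ, if_true] at h1
      exact (mul_eq_zero.mp h1).resolve_right he
    have h2 : π (x : A) = 0 := by
      rw [hexp]
      simp [hcoord]
    rw [hx] at h2
    have h3 := congrArg (fun a => Coalgebra.counit (R := k) a) h2
    simpa [counit_mcoef, Module.Basis.coord_apply] using h3

end Groth.Agent.ObsLib
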