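import Groth.Agent.ObsLib.Chars
import Groth.Agent.GrpSchLib.Component

/-! Invariant rational functions and observability. -/

set_option autoImplicit false
set_option backward.isDefEq.respectTransparency false

universe u

open CategoryTheory MonoidalCategory CartesianMonoidalCategory MonObj AlgebraicGeometry WithConv
open scoped TensorProduct

noncomputable section

namespace Groth.Agent.ObsLib

open Comodule (ptAct StabLine exists_line_stabilizer)
open AGFObs (ev algΓ taut)

attribute [local instance] AGFObs.algΓ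

variable {k : Type u} [Field k]

section Hopf

variable {A B : Type u} [CommRing A] [HopfAlgebra k A] [CommRing B] [HopfAlgebra k B] (π : A →ₐc[k] B)

/-- Right translation by a rational point. -/
def rTr (y : A →ₐ[k] k) : A →ₐ[k] A :=
  (Algebra.TensorProduct.lift (AlgHom.id k A) ((Algebra.ofId k A).comp y) fun _ _ => mul_comm _ _).comp
    (Bialgebra.comulAlgHom k A)

theorem apply_rTr (x y : A →ₐ[k] k) (f : A) : x (rTr y f) = pmul x y f := by
  show x (Algebra.TensorProduct.lift (AlgHom.id k A) ((Algebra.ofId k A).comp y) (fun _ _ => mul_comm _ _) (Coalgebra.comul (R := k) f)) =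
    Algebra.TensorProduct.lift x y (fun _ _ => mul_comm _ _) (Coalgebra.comul (R := k) f)
  induction Coalgebra.comul (R := k) f with
  | zero => simp
  | add p q hp hq => simp only [map_add, hp, hq]
  | tmul p q => simp [Algebra.ofId_apply]

/-- The fraction `a / b` is invariant under the subgroup, on points. -/
def RatInv (a b : A) : Prop :=
  ∀ (x : A →ₐ[k] k) (h : B →ₐ[k] k), pmul x (h.comp (π : A →ₐ[k] B)) a * x b = x a * pmul x (h.comp (π : A →ₐ[k] B)) b

variable [IsAlgClosed k] [Algebra.FiniteType k A] [IsReduced A]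

theorem rTr_ne_zero (y : A →ₐ[k] k) {b : A} (hb : b ≠ 0) : rTr y b ≠ 0 := fun h => hb (eq_zero_of_pts (k := k) fun x => by
  have h1 := congrArg (pmul x (pinv y)) h
  rwa [map_zero, apply_rTr, pmul_assoc, pinv_pmul, pmul_pone] at h1)

variable [Algebra.FiniteType k B] [IsReduced B]

/-- A nonzero ideal stable under an observable subgroup has a nonzero invariant. -/
theorem exists_inv_mem [IsDomain A] (hobs : Obs π) (D : Ideal A) (hD : D ≠ ⊥)
    (hst : ∀ (z : A →ₐ[k] k) (h : B →ₐ[k] k), D ≤ RingHom.ker z → D ≤ RingHom.ker (pmul z (h.comp (π : A →ₐ[k] B)))) :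
    ∃ F : A, F ∈ D ∧ F ≠ 0 ∧ Inv π F := by
  classical
  obtain ⟨s, hsInv, hsep⟩ := exists_separates π hobs
  let C : Subalgebra k A := Algebra.adjoin k (s : Set A)
  have hC : ∀ F ∈ C, Inv π F := fun F hF => (Algebra.adjoin_le (S := invAlg π) hsInv) hF
  suffices h : ∃ F ∈ C, F ≠ 0 ∧ F ∈ D.radical by
    obtain ⟨F, hFC, hF0, m, hm⟩ := h
    exact ⟨F ^ m, hm, pow_ne_zero _ hF0, hC _ (pow_mem hFC m)⟩
  by_contra hno
  push Not at hno
  obtain ⟨f, hf, hf0⟩ := Submodule.exists_mem_ne_zero_of_ne_bot hD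
  let E := A ⧸ D.radical
  let ν : C →ₐ[k] E := (Ideal.Quotient.mkₐ k _).comp C.val
  have hinj : Function.Injective ν := (injective_iff_map_eq_zero ν).mpr fun F hF => by
    by_contra hne
    exact hno F.1 F.2 (fun h => hne (Subtype.ext h)) (Ideal.Quotient.eq_zero_iff_mem.mp hF)
  obtain ⟨Q, hQ, -, hQq⟩ := Ideal.exists_comap_eq_of_mem_minimalPrimes (I := (⊥ : Ideal E)) ν.toRingHom (⊥ : Ideal C) (by
    rw [← RingHom.ker_eq_comap_bot, (RingHom.injective_iff_ker_eq_bot ν.toRingHom).mp hinj, Ideal.minimalPrimes_eq_subsingleton_self]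
    exact Set.mem_singleton _)
  haveI := hQ
  let θ : C →+* E ⧸ Q := (Ideal.Quotient.mk Q).comp ν.toRingHom
  letI := θ.toAlgebra
  haveI : IsScalarTower k C (E ⧸ Q) := IsScalarTower.of_algebraMap_eq (S := C) fun r =>
    show Ideal.Quotient.mk Q (algebraMap k E r) = Ideal.Quotient.mk Q (ν.toRingHom (algebraMap k C r)) from
      (congrArg (Ideal.Quotient.mk Q) (ν.commutes r)).symm
  haveI : Algebra.FiniteType C (E ⧸ Q) := Algebra.FiniteType.of_restrictScalars_finiteType k _ _
  have hθ : Function.Injective θ := (injective_iff_map_eq_zero θ).mpr fun c hc => by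
    have h1 : c ∈ Ideal.comap ν.toRingHom Q := Ideal.mem_comap.mpr (Ideal.Quotient.eq_zero_iff_mem.mp (hc : Ideal.Quotient.mk Q (ν.toRingHom c) = 0))
    rwa [hQq, Ideal.mem_bot] at h1
  obtain ⟨c, hc, hrange⟩ := S4585.exists_basicOpen_subset_range_of_domain (R := C) (S := E ⧸ Q) hθ
  have hcA : (c : A) ≠ 0 := fun h => hc (Subtype.ext h)
  obtain ⟨x, hx⟩ : ∃ x : A →ₐ[k] k, x ((c : A) * f) ≠ 0 := by
    by_contra h
    push Not at h
    exact mul_ne_zero hcA hf0 (eq_zero_of_pts (k := k) h)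
  let xC : C →ₐ[k] k := x.comp C.val
  haveI : (RingHom.ker xC).IsMaximal :=
    RingHom.ker_isMaximal_of_surjective _ fun r => ⟨algebraMap k C r, xC.commutes r⟩
  obtain ⟨R, hR⟩ := hrange ⟨RingHom.ker xC, inferInstance⟩ (fun h => hx (by
    have : x (c : A) = 0 := h
    rw [map_mul, this, zero_mul]))
  obtain ⟨m, hm, hRm⟩ := Ideal.exists_le_maximal R.asIdeal R.isPrime.ne_top
  haveI := hm
  let qA : A →ₐ[k] E ⧸ Q := (Ideal.Quotient.mkₐ k Q).comp (Ideal.Quotient.mkₐ k _)
  haveI : (Ideal.comap qA m).IsMaximal := Ideal.comap_isMaximal_of_surjective qA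
    (Ideal.Quotient.mk_surjective.comp Ideal.Quotient.mk_surjective)
  obtain ⟨z, hz⟩ := exists_pt (k := k) (Ideal.comap qA m)
  have hzD : D ≤ RingHom.ker z := fun a ha => by
    rw [hz, Ideal.mem_comap]
    have : qA a = 0 := by
      show Ideal.Quotient.mk Q (Ideal.Quotient.mk _ a) = 0
      rw [Ideal.Quotient.eq_zero_iff_mem.mpr (Ideal.le_radical ha), map_zero]
    rw [this]; exact zero_mem _
  have hzC : ∀ a ∈ C, x a = z a := by
    intro a ha
    let a' : C := ⟨a, ha⟩ - algebraMap k C (x a)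
    have h1 : a' ∈ RingHom.ker xC := by
      show x (a' : A) = 0
      simp [a']
    have hR' : Ideal.comap θ R.asIdeal = RingHom.ker xC := congrArg PrimeSpectrum.asIdeal hR
    rw [← hR'] at h1
    have h2 : qA (a' : A) ∈ m := hRm h1
    have h3 : z (a' : A) = 0 := by rw [← RingHom.mem_ker, hz]; exact h2
    simp only [a', Subalgebra.coe_sub, map_sub, sub_eq_zero] at h3
    rw [h3]
    exact (z.commutes _).symm
  obtain ⟨h, hh⟩ := hsep z x fun F hF => (hzC F (Algebra.subset_adjoin hF)).symm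
  have hxf : x f = 0 := by
    rw [hh]
    exact hst z h hzD hf
  exact hx (by rw [map_mul, hxf, mul_zero])

theorem exists_fraction [IsDomain A] (hobs : Obs π) {a b : A} (hb : b ≠ 0) (hab : RatInv π a b) :
    ∃ a' b' : A, Inv π a' ∧ Inv π b' ∧ b' ≠ 0 ∧ a * b' = a' * b := by
  let D : Ideal A := Submodule.comap (LinearMap.toSpanSingleton A A a) (Ideal.span {b})
  have hmem : ∀ c : A, c ∈ D ↔ ∃ e, e * b = c * a := fun c => Ideal.mem_span_singleton'
  have hDb : b ∈ D := (hmem b).mpr ⟨a, mul_comm _ _⟩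
  obtain ⟨F, hF, hF0, hFi⟩ := exists_inv_mem π hobs D (fun h => hb (by rwa [h, Ideal.mem_bot] at hDb))
    fun z h hz c hc => by
      set y := h.comp (π : A →ₐ[k] B)
      obtain ⟨e, he⟩ := (hmem c).mp hc
      have hy : rTr y a * b = a * rTr y b := sub_eq_zero.mp (eq_zero_of_pts (k := k) fun x => by
        rw [map_sub, map_mul, map_mul, apply_rTr, apply_rTr, hab x h, sub_self])
      have hc' : rTr y c ∈ D := (hmem _).mpr ⟨rTr y e, by
        have h1 := congrArg (rTr y) he
        rw [map_mul, map_mul] at h1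
        refine mul_left_cancel₀ (rTr_ne_zero y hb) ?_
        calc rTr y b * (rTr y e * b) = rTr y c * (rTr y a * b) := by rw [← mul_assoc (rTr y c), ← h1]; ring
          _ = rTr y b * (rTr y c * a) := by rw [hy]; ring⟩
      show pmul z y c = 0
      rw [← apply_rTr]
      exact hz hc'
  obtain ⟨e, he⟩ := (hmem F).mp hF
  refine ⟨e, F, ?_, hFi, hF0, by rw [mul_comm, he]⟩
  refine isSemi_of_pts π fun x h => ?_
  rw [map_one, _root_.mul_one]
  set y := h.comp (π : A →ₐ[k] B)
  have hy : rTr y a * b = a * rTr y b := sub_eq_zero.mp (eq_zero_of_pts (k := k) fun x => by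
    rw [map_sub, map_mul, map_mul, apply_rTr, apply_rTr, hab x h, sub_self])
  have hyF : rTr y F = F := sub_eq_zero.mp (eq_zero_of_pts (k := k) fun x => by
    rw [map_sub, apply_rTr, inv_apply π hFi, sub_self])
  have hye : rTr y e = e := by
    have h1 := congrArg (rTr y) he
    rw [map_mul, map_mul, hyF] at h1
    refine mul_left_cancel₀ (rTr_ne_zero y hb) (mul_right_cancel₀ hb ?_)
    calc rTr y b * rTr y e * b = rTr y e * rTr y b * b := by ring
      _ = F * (rTr y a * b) := by rw [h1]; ring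
      _ = rTr y b * (F * a) := by rw [hy]; ring
      _ = rTr y b * e * b := by rw [← he]; ring
  rw [← apply_rTr, hye]

theorem obs_of_fractions (hπ : Function.Surjective π)
    (hfr : ∀ a b : A, b ≠ 0 → RatInv π a b → ∃ a' b' : A, Inv π a' ∧ Inv π b' ∧ b' ≠ 0 ∧ a * b' = a' * b)
    [IsDomain A] : Obs π := by
  haveI : IsNoetherianRing A := Algebra.FiniteType.isNoetherianRing k A
  intro g hg
  obtain ⟨V, _, _, c, _, v, χ, hv0, -, hv, hstab⟩ := exists_line_stabilizer π
  obtain ⟨l₁, hl₁⟩ : ∃ l : V →ₗ[k] k, l v ≠ 0 := by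
    by_contra h
    push Not at h
    exact hv0 ((Module.forall_dual_apply_eq_zero_iff k v).mp h)
  let l₀ : V →ₗ[k] k := (l₁ v)⁻¹ • l₁
  have hl₀ : l₀ v = 1 := inv_mul_cancel₀ hl₁
  have hsemi : ∀ l : V →ₗ[k] k, IsSemi (π : A →ₐ[k] B) χ (mcoef c l v) := fun l => by
    show (π : A →ₐ[k] B).toLinearMap.lTensor A (Coalgebra.comul (R := k) (mcoef c l v)) = _
    rw [comul_mcoef, ComodTens.lTensor_rTensor_comm,
      show (π : A →ₐ[k] B).toLinearMap.lTensor V (c.coact v) = v ⊗ₜ[k] χ from hv, LinearMap.rTensor_tmul]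
  have hb : mcoef c l₀ v ≠ 0 := fun h => by
    have h1 := counit_mcoef c l₀ v
    rw [h, map_zero, hl₀] at h1
    exact zero_ne_one h1
  let w := TensorProduct.rid k V (ptAct c g v)
  have hgl : ∀ l : V →ₗ[k] k, g (mcoef c l v) = l w := fun l => by
    show g (TensorProduct.lid k A (l.rTensor A (c.coact v))) = l (TensorProduct.rid k V (g.toLinearMap.lTensor V (c.coact v)))
    induction c.coact v with
    | zero => simp
    | add p q hp hq => simp only [map_add, hp, hq]
    | tmul p q => simp [mul_comm]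
  have key : ∀ l : V →ₗ[k] k, l w = l v * l₀ w := fun l => by
    obtain ⟨a', b', ha', hb', hb'0, hab⟩ := hfr (mcoef c l v) (mcoef c l₀ v) hb fun x h => by
      rw [isSemi_apply (hsemi l), isSemi_apply (hsemi l₀)]; ring
    have hfix : ∀ {F : A}, Inv π F → rTr g F = F := fun {F} hF => sub_eq_zero.mp (eq_zero_of_pts (k := k) fun x => by
      rw [map_sub, apply_rTr, hg F hF, sub_self])
    have h1 := congrArg (rTr g) hab
    rw [map_mul, map_mul, hfix ha', hfix hb'] at h1
    have h2 : rTr g (mcoef c l v) * mcoef c l₀ v = mcoef c l v * rTr g (mcoef c l₀ v) := by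
      refine mul_right_cancel₀ hb'0 ?_
      calc rTr g (mcoef c l v) * mcoef c l₀ v * b' = (rTr g (mcoef c l v) * b') * mcoef c l₀ v := by ring
        _ = a' * rTr g (mcoef c l₀ v) * mcoef c l₀ v := by rw [h1]
        _ = (mcoef c l v * b') * rTr g (mcoef c l₀ v) := by rw [hab]; ring
        _ = mcoef c l v * rTr g (mcoef c l₀ v) * b' := by ring
    have h3 := congrArg (pone : A →ₐ[k] k) h2
    rw [map_mul, map_mul, apply_rTr, apply_rTr, pone_pmul, hgl, hgl] at h3
    have hp : ∀ l' : V →ₗ[k] k, (pone : A →ₐ[k] k) (mcoef c l' v) = l' v := fun l' => counit_mcoef c l' v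
    rwa [hp, hp, hl₀, _root_.mul_one] at h3
  have hst : StabLine c g v := ⟨l₀ w, by
    apply (TensorProduct.rid k V).injective
    rw [TensorProduct.rid_tmul]
    refine sub_eq_zero.mp ((Module.forall_dual_apply_eq_zero_iff k _).mp fun l => ?_)
    rw [map_sub, map_smul, sub_eq_zero, smul_eq_mul, mul_comm]
    exact key l⟩
  have hle : RingHom.ker (π : A →ₐ[k] B) ≤ RingHom.ker g := fun a ha => hstab k g hst a ha
  exact ⟨AlgHom.liftOfSurjective (π : A →ₐ[k] B) hπ g hle,
    AlgHom.ext fun a => AlgHom.liftOfSurjective_apply (π : A →ₐ[k] B) hπ g hle a⟩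

end Hopf

variable {G H : Over (Spec (CommRingCat.of k))} [GrpObj G] [GrpObj H] (C : Chart G) (D : Chart H)
  [IsAffine G.left] [IsAffine H.left] [IsAlgClosed k] [Smooth G.hom] [Smooth H.hom]

theorem ratInv_iff (i : H ⟶ G) [IsMonHom i] (a b : Γ(G.left, ⊤)) :
    ((G ◁ i) ≫ μ[G]).left.appTop a * (fst G H).left.appTop b = (fst G H).left.appTop a * ((G ◁ i) ≫ μ[G]).left.appTop b ↔
      RatInv (C.hom D i) (C.fn a) (C.fn b) := by
  haveI := AGFObs.isAffine_tensor (G := G) (H := H)
  haveI : Smooth (G ⊗ H).hom := SepPtsLib.smooth_tensor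
  haveI := ASp.isReduced_of_smooth (G ⊗ H).hom
  have hev : ∀ (z : VecGrp.pt k k ⟶ G ⊗ H) (x : C.A →ₐ[k] k) (h : D.A →ₐ[k] k), C.pt x = z ≫ fst G H →
      D.pt h = z ≫ snd G H → ∀ f : Γ(G.left, ⊤),
        ev z (AGFObs.Γmap ((G ◁ i) ≫ μ[G]) f) = pmul x (h.comp (C.hom D i : C.A →ₐ[k] D.A)) (C.fn f) ∧
        ev z (AGFObs.Γmap (fst G H) f) = x (C.fn f) := by
    intro z x h hx hh f
    have hz : z ≫ (G ◁ i) ≫ μ[G] = C.pt x * (D.pt h ≫ i) := by
      rw [hx, hh, Hom.mul_def, ← Category.assoc]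
      congr 1
      apply CartesianMonoidalCategory.hom_ext <;> simp
    refine ⟨?_, ?_⟩
    · rw [show ev z (AGFObs.Γmap ((G ◁ i) ≫ μ[G]) f) = ev (z ≫ (G ◁ i) ≫ μ[G]) f from
        (AlgHom.congr_fun (AGFObs.ev_comp z ((G ◁ i) ≫ μ[G])) f).symm]
      rw [hz, pt_comp C D, ← pt_pmul, ev_pt]
    · rw [show ev z (AGFObs.Γmap (fst G H) f) = ev (z ≫ fst G H) f from
        (AlgHom.congr_fun (AGFObs.ev_comp z (fst G H)) f).symm, ← hx, ev_pt]
  constructor
  · intro he x h
    let z := lift (C.pt x) (D.pt h)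
    have hx : C.pt x = z ≫ fst G H := (lift_fst _ _).symm
    have hh : D.pt h = z ≫ snd G H := (lift_snd _ _).symm
    have h1 := congrArg (ev z) (show AGFObs.Γmap ((G ◁ i) ≫ μ[G]) a * AGFObs.Γmap (fst G H) b =
      AGFObs.Γmap (fst G H) a * AGFObs.Γmap ((G ◁ i) ≫ μ[G]) b from he)
    rwa [map_mul, map_mul, (hev z x h hx hh a).1, (hev z x h hx hh b).1, (hev z x h hx hh a).2,
      (hev z x h hx hh b).2] at h1
  · intro hr
    show AGFObs.Γmap ((G ◁ i) ≫ μ[G]) a * AGFObs.Γmap (fst G H) b =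
      AGFObs.Γmap (fst G H) a * AGFObs.Γmap ((G ◁ i) ≫ μ[G]) b
    refine AGFObs.eq_of_ev fun z => ?_
    obtain ⟨x, hx⟩ := (pt_bijective C).2 (z ≫ fst G H)
    obtain ⟨h, hh⟩ := (pt_bijective D).2 (z ≫ snd G H)
    rw [map_mul, map_mul, (hev z x h hx hh a).1, (hev z x h hx hh b).1, (hev z x h hx hh a).2,
      (hev z x h hx hh b).2]
    exact hr x h

theorem isObservableIn_iff_fractions [ConnectedSpace G.left] (i : H ⟶ G) [IsMonHom i] [IsClosedImmersion i.left] :
    AGF.IsObservableIn k i ↔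
      ∀ a b : Γ(G.left, ⊤), b ≠ 0 →
        ((G ◁ i) ≫ μ[G]).left.appTop a * (fst G H).left.appTop b = (fst G H).left.appTop a * ((G ◁ i) ≫ μ[G]).left.appTop b →
        ∃ a' b' : Γ(G.left, ⊤), AGF.IsRTransInv i a' ∧ AGF.IsRTransInv i b' ∧ b' ≠ 0 ∧ a * b' = a' * b := by
  obtain ⟨C⟩ := nonempty_chart G
  obtain ⟨D⟩ := nonempty_chart H
  haveI := finiteType_chart C
  haveI := isReduced_chart C
  haveI := finiteType_chart D
  haveI := isReduced_chart D
  haveI : IrreducibleSpace G.left := GrpSchLib.irreducibleSpace_of_connectedSpace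
  haveI := ASp.isReduced_of_smooth G.hom
  haveI : IsIntegral G.left := isIntegral_of_irreducibleSpace_of_isReduced G.left
  haveI : Nonempty (⊤ : G.left.Opens) := ⟨⟨Classical.arbitrary _, trivial⟩⟩
  haveI : IsDomain Γ(G.left, ⊤) := inferInstance
  let e := AlgEquiv.ofBijective C.fn (fn_bijective C)
  haveI : IsDomain C.A := e.toMulEquiv.isDomain_iff.mp inferInstance
  rw [isObservableIn_iff C D]
  constructor
  · intro ho a b hb hab
    obtain ⟨a', b', ha', hb', hb'0, h⟩ := exists_fraction _ ho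
      (fun h => hb ((fn_bijective C).1 (h.trans (map_zero C.fn).symm))) ((ratInv_iff C D i a b).mp hab)
    obtain ⟨a₁, rfl⟩ := (fn_bijective C).2 a'
    obtain ⟨b₁, rfl⟩ := (fn_bijective C).2 b'
    refine ⟨a₁, b₁, (isRTransInv_iff_inv C D i a₁).mpr ha', (isRTransInv_iff_inv C D i b₁).mpr hb',
      fun h0 => hb'0 (by rw [h0, map_zero]), (fn_bijective C).1 (by rw [map_mul, map_mul, h])⟩
  · intro hh
    refine obs_of_fractions _ (hom_surjective C D i) fun a b hb hab => ?_
    obtain ⟨a₁, rfl⟩ := (fn_bijective C).2 a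
    obtain ⟨b₁, rfl⟩ := (fn_bijective C).2 b
    obtain ⟨a', b', ha', hb', hb'0, h⟩ := hh a₁ b₁ (fun h0 => hb (by rw [h0, map_zero]))
      ((ratInv_iff C D i a₁ b₁).mpr hab)
    exact ⟨C.fn a', C.fn b', (isRTransInv_iff_inv C D i a').mp ha', (isRTransInv_iff_inv C D i b').mp hb',
      fun h0 => hb'0 ((fn_bijective C).1 (h0.trans (map_zero C.fn).symm)), by rw [← map_mul, h, map_mul]⟩

end Groth.Agent.ObsLib
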