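import Groth.Agent.ObsLib.Transfer
import Groth.Agent.ObsLib.Extend

/-! Restriction of invariant functions to an observable subgroup is surjective. -/

set_option autoImplicit false
set_option backward.isDefEq.respectTransparency false
set_option linter.style.haveILetI false

universe u

open CategoryTheory MonoidalCategory CartesianMonoidalCategory MonObj AlgebraicGeometry WithConv
open scoped TensorProduct

noncomputable section

namespace Groth.Agent.ObsLib

open Comodule

variable {k : Type u} [Field k] [IsAlgClosed k]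

theorem exists_invariant_lift {A B B₀ : Type u} [CommRing A] [HopfAlgebra k A] [CommRing B] [HopfAlgebra k B]
    [CommRing B₀] [HopfAlgebra k B₀] [Algebra.FiniteType k A] [IsReduced A] [Algebra.FiniteType k B] [IsReduced B]
    (π : A →ₐc[k] B) (hπ : Function.Surjective π) (hobs : Obs π) (ρ : B →ₐc[k] B₀) (π₁ : A →ₐc[k] B₀)
    (hc : (ρ : B →ₐ[k] B₀).comp (π : A →ₐ[k] B) = (π₁ : A →ₐ[k] B₀)) {f : B} (hf : f ∈ invAlg ρ) :
    ∃ F ∈ invAlg π₁, π F = f := by
  let V : Submodule k B := (Submodule.span (WithConv (B →ₗ[k] k)) ({f} : Set B)).restrictScalars k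
  haveI : Module.Finite k V := finite_span_of_finite (Set.finite_singleton f)
  have hV : HopfRep.IsSubcomod (k := k) (A := B) V := isSubcomod_restrictScalars _
  obtain ⟨W, _, _, c, hW, φ, hφ, hh⟩ := exists_extension π hπ
    (fun χ ψ h g hg hg0 => exists_semi_inv _ hobs h hg hg0) (subComod V hV)
  obtain ⟨r, hr⟩ := LinearMap.exists_leftInverse_of_injective φ (LinearMap.ker_eq_bot.mpr hφ)
  let ev1 : V →ₗ[k] k := (Coalgebra.counit (R := k) (A := B)) ∘ₗ V.subtype
  let l : W →ₗ[k] k := ev1 ∘ₗ r
  have hl : l ∘ₗ φ = ev1 := by rw [LinearMap.comp_assoc, hr, LinearMap.comp_id]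
  let f' : V := ⟨f, Submodule.subset_span rfl⟩
  refine ⟨mcoef c l (φ f'), ?_, ?_⟩
  · show (π₁ : A →ₐ[k] B₀).toLinearMap.lTensor A (Coalgebra.comul (R := k) (mcoef c l (φ f'))) = _
    rw [← hc, AlgHom.comp_toLinearMap, LinearMap.lTensor_comp_apply, comul_mcoef]
    have h1 : (π : A →ₐ[k] B).toLinearMap.lTensor A ((mcoef c l).rTensor A (c.coact (φ f'))) =
        (mcoef c l).rTensor B (φ.rTensor B ((subComod V hV).coact f')) := by
      rw [← hh, ← LinearMap.comp_apply, LinearMap.lTensor_comp_rTensor, ← LinearMap.rTensor_comp_lTensor,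
        LinearMap.comp_apply]
      rfl
    rw [h1, ← LinearMap.rTensor_comp_apply, ← LinearMap.comp_apply, LinearMap.lTensor_comp_rTensor,
      ← LinearMap.rTensor_comp_lTensor, LinearMap.comp_apply]
    have h2 : (ρ : B →ₐ[k] B₀).toLinearMap.lTensor V ((subComod V hV).coact f') = f' ⊗ₜ[k] 1 := by
      refine Module.Flat.rTensor_preserves_injective_linearMap V.subtype V.injective_subtype ?_
      rw [← LinearMap.comp_apply (f := V.subtype.rTensor B₀), LinearMap.rTensor_comp_lTensor,
        ← LinearMap.lTensor_comp_rTensor, LinearMap.comp_apply, LinearMap.rTensor_tmul,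
        show V.subtype.rTensor B ((subComod V hV).coact f') = Coalgebra.comul (R := k) f from rTensor_subCoact V hV f']
      exact hf
    rw [h2, LinearMap.rTensor_tmul]
    rfl
  · show π (TensorProduct.lid k A (l.rTensor A (c.coact (φ f')))) = f
    have e : ∀ z : W ⊗[k] A, π (TensorProduct.lid k A (l.rTensor A z)) =
        TensorProduct.lid k B (l.rTensor B ((π : A →ₗ[k] B).lTensor W z)) := fun z => by
      induction z with
      | zero => simp
      | add p q hp hq => simp only [map_add, hp, hq]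
      | tmul p q => simp
    rw [e, hh, ← LinearMap.rTensor_comp_apply, hl, LinearMap.rTensor_comp_apply,
      show V.subtype.rTensor B ((subComod V hV).coact f') = Coalgebra.comul (R := k) f from rTensor_subCoact V hV f']
    rw [Coalgebra.rTensor_counit_comul, TensorProduct.lid_tmul, one_smul]

variable {G H K : Over (Spec (CommRingCat.of k))} [GrpObj G] [GrpObj H] [GrpObj K]

theorem fg_of_intermediate [IsAffine G.left] [Smooth G.hom] [Smooth H.hom] [Smooth K.hom] (i : H ⟶ G) [IsMonHom i]
    [IsClosedImmersion i.left] (κ : K ⟶ H) [IsMonHom κ] [IsClosedImmersion κ.left]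
    (hH : AGF.IsObservableIn k i) (hfg : AGF.SubringFGOver k G (AGF.rTransInv (κ ≫ i))) :
    AGF.SubringFGOver k H (AGF.rTransInv κ) := by
  haveI : IsAffine H.left := isAffine_of_isAffineHom i.left
  haveI : IsAffine K.left := isAffine_of_isAffineHom κ.left
  obtain ⟨C⟩ := nonempty_chart G
  obtain ⟨D⟩ := nonempty_chart H
  obtain ⟨E⟩ := nonempty_chart K
  haveI := finiteType_chart C
  haveI := isReduced_chart C
  haveI := finiteType_chart D
  haveI := isReduced_chart D
  haveI := finiteType_chart E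
  haveI := isReduced_chart E
  rw [subringFGOver_iff_fg D E]
  rw [subringFGOver_iff_fg C E] at hfg
  have hc := (hom_comp C D E i κ).symm
  have e : (invAlg (C.hom E (κ ≫ i))).map (C.hom D i : C.A →ₐ[k] D.A) = invAlg (D.hom E κ) := by
    refine le_antisymm ?_ fun f hf => ?_
    · rintro _ ⟨F, hF, rfl⟩
      refine isSemi_of_pts _ fun x y => ?_
      rw [map_one, _root_.mul_one]
      show (pmul x (y.comp (D.hom E κ : D.A →ₐ[k] E.A))).comp (C.hom D i : C.A →ₐ[k] D.A) F = _
      rw [← pmul_comp, AlgHom.comp_assoc, hc]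
      exact inv_apply _ hF _ y
    · obtain ⟨F, hF, hFf⟩ := exists_invariant_lift (C.hom D i) (hom_surjective C D i) ((isObservableIn_iff C D i).mp hH)
        (D.hom E κ) (C.hom E (κ ≫ i)) hc hf
      exact ⟨F, hF, hFf⟩
  rw [← e]
  exact hfg.map _

end Groth.Agent.ObsLib

namespace Groth.Agent.ObsLib

variable {k : Type u} [Field k] [IsAlgClosed k] {G H L : Over (Spec (CommRingCat.of k))} [GrpObj G] [GrpObj H] [GrpObj L]

theorem fg_in_overgroup [IsAffine L.left] [Smooth L.hom] [Smooth G.hom] [Smooth H.hom] (jG : G ⟶ L) [IsMonHom jG]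
    [IsClosedImmersion jG.left] (hG : VecGrp.IsReductiveGrp k G) (i : H ⟶ G) [IsMonHom i] [IsClosedImmersion i.left]
    (hfg : AGF.SubringFGOver k G (AGF.rTransInv i)) (thmA : VecGrp.ReductiveInvariantsFG k) :
    AGF.SubringFGOver k L (AGF.rTransInv (i ≫ jG)) := by
  haveI : IsAffine G.left := isAffine_of_isAffineHom jG.left
  haveI : IsAffine H.left := isAffine_of_isAffineHom i.left
  obtain ⟨C⟩ := nonempty_chart L
  obtain ⟨D⟩ := nonempty_chart G
  obtain ⟨E⟩ := nonempty_chart H
  haveI := finiteType_chart C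
  haveI := isReduced_chart C
  haveI := finiteType_chart D
  haveI := isReduced_chart D
  haveI := finiteType_chart E
  haveI := isReduced_chart E
  obtain ⟨ρ, hρ, h1, -⟩ := exists_rightAction C D jG
  let c : C.A →ₗ[k] C.A ⊗[k] D.A :=
    (C.hom D jG : C.A →ₐ[k] D.A).toLinearMap.lTensor C.A ∘ₗ Coalgebra.comul (R := k)
  have hcc : ∀ (F : Type u) [CommRing F] [Algebra k F] (φ : D.A →ₐ[k] F) (v : C.A),
      ρ.ρ F (D.pt φ) ((1 : F) ⊗ₜ[k] v) = TensorProduct.comm k C.A F (φ.toLinearMap.lTensor C.A (c v)) := by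
    intro F _ _ φ v
    rw [h1]
    show Algebra.TensorProduct.comm k C.A F (Algebra.TensorProduct.map (AlgHom.id k C.A)
        (φ.comp (C.hom D jG : C.A →ₐ[k] D.A)) (Coalgebra.comul (R := k) v)) =
      TensorProduct.comm k C.A F (φ.toLinearMap.lTensor C.A
        ((C.hom D jG : C.A →ₐ[k] D.A).toLinearMap.lTensor C.A (Coalgebra.comul (R := k) v)))
    induction Coalgebra.comul (R := k) v with
    | zero => simp
    | add p q hp hq => simp only [map_add, hp, hq]
    | tmul p q => simp
  rw [subringFGOver_iff_fg C E]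
  have hval : ∀ (y : E.A →ₐ[k] k) f, pev (y.comp (D.hom E i : D.A →ₐ[k] E.A)) (c f) =
      rTr (y.comp (C.hom E (i ≫ jG) : C.A →ₐ[k] E.A)) f := fun y f => eq_of_pts (k := k) fun z => by
    rw [apply_rTr, hom_comp C D E jG i, ← AlgHom.comp_assoc]
    show _ = Algebra.TensorProduct.lift z ((y.comp (D.hom E i : D.A →ₐ[k] E.A)).comp (C.hom D jG : C.A →ₐ[k] D.A))
      (fun _ _ => mul_comm _ _) (Coalgebra.comul (R := k) f)
    simp only [c, LinearMap.comp_apply]
    induction Coalgebra.comul (R := k) f with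
    | zero => simp
    | add p q hp hq => simp only [map_add, hp, hq]
    | tmul p q => simp [pev_tmul, mul_comm]
  have e : ρ.fixedSubalgebra hρ i = invAlg (C.hom E (i ≫ jG)) := SetLike.ext fun f => by
    show f ∈ ρ.fixedUnder i ↔ Inv (C.hom E (i ≫ jG)) f
    rw [mem_fixed_iff D E i ρ c hcc]
    refine ⟨fun hf => isSemi_of_pts _ fun x y => ?_, fun hf y => ?_⟩
    · rw [map_one, _root_.mul_one, ← apply_rTr, ← hval, hf y]
    · rw [hval]
      exact eq_of_pts (k := k) fun z => by rw [apply_rTr, inv_apply _ hf]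
  rw [← e]
  exact (Subalgebra.fg_top _).mp ((transfer_principle i hG thmA).mp hfg C.A ρ hρ).out

theorem grosshans_in_overgroup [IsAffine L.left] [Smooth L.hom] [Smooth G.hom] [Smooth H.hom] (jG : G ⟶ L)
    [IsMonHom jG] [IsClosedImmersion jG.left] (hG : VecGrp.IsReductiveGrp k G) (i : H ⟶ G) [IsMonHom i]
    [IsClosedImmersion i.left] (hH : AGF.IsObservableIn k i) (hfg : AGF.SubringFGOver k G (AGF.rTransInv i))
    {G₁ : Over (Spec (CommRingCat.of k))} [GrpObj G₁] [Smooth G₁.hom] (j₁ : G₁ ⟶ L) [IsMonHom j₁]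
    [IsClosedImmersion j₁.left] (hG₁ : AGF.IsObservableIn k j₁) (i₁ : H ⟶ G₁) [IsMonHom i₁]
    (hc : i₁ ≫ j₁ = i ≫ jG) (thmA : VecGrp.ReductiveInvariantsFG k) (thmAbiv : AGF.ReductiveQuotSeparates k) :
    AGF.IsObservableIn k i₁ ∧ AGF.SubringFGOver k G₁ (AGF.rTransInv i₁) := by
  haveI : IsAffine G.left := isAffine_of_isAffineHom jG.left
  haveI : IsClosedImmersion i₁.left := by
    have : IsClosedImmersion (i₁.left ≫ j₁.left) := by rw [← Over.comp_left, hc, Over.comp_left]; infer_instance
    exact IsClosedImmersion.of_comp i₁.left j₁.left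
  have hfg' := fg_in_overgroup jG hG i hfg thmA
  have hobs := isObservableIn_comp jG i hH (isObservableIn_of_reductive jG hG thmAbiv)
  rw [← hc] at hobs hfg'
  exact ⟨isObservableIn_intermediate j₁ i₁ hobs, fg_of_intermediate j₁ i₁ hG₁ hfg'⟩

end Groth.Agent.ObsLib
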