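import Groth.Agent.ObsLib.Transfer
import Mathlib

/-! Finite generation of invariant modules. -/

set_option autoImplicit false
set_option backward.isDefEq.respectTransparency false
set_option linter.style.haveILetI false

universe u

open CategoryTheory MonoidalCategory CartesianMonoidalCategory MonObj AlgebraicGeometry WithConv
open scoped TensorProduct

noncomputable section

namespace Groth.Agent.ObsLib

open TrivSqZeroExt (inl inr fst snd)

variable {k : Type u} [Field k]

theorem comod_pev_one {C : Type u} [CommRing C] [HopfAlgebra k C] {M : Type u} [AddCommGroup M] [Module k M]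
    (c : HopfRep.Comod k C M) (a : M) : pev pone (c.coact a) = a :=
  (congrArg (TensorProduct.rid k M) (LinearMap.congr_fun c.counit_comp a)).trans (by simp)

theorem comod_pev_mul {C : Type u} [CommRing C] [HopfAlgebra k C] {M : Type u} [AddCommGroup M] [Module k M]
    (c : HopfRep.Comod k C M) (x y : C →ₐ[k] k) (a : M) :
    pev x (c.coact (pev y (c.coact a))) = pev (pmul x y) (c.coact a) := by
  have h := congrArg (fun z => pev x (pev y ((TensorProduct.assoc k M C C).symm z))) (LinearMap.congr_fun c.coassoc a)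
  simp only [LinearMap.comp_apply, LinearEquiv.coe_coe, LinearEquiv.symm_apply_apply] at h
  rw [pev_rTensor] at h
  refine h.trans ?_
  induction c.coact a with
  | zero => simp
  | add p q hp hq => simp only [map_add, hp, hq]
  | tmul p q =>
    rw [LinearMap.lTensor_tmul, pev_tmul]
    show _ = Algebra.TensorProduct.lift x y (fun _ _ => mul_comm _ _) (Coalgebra.comul (R := k) q) • p
    induction Coalgebra.comul (R := k) q with
    | zero => simp
    | add a b ha hb => simp only [map_add, add_smul, TensorProduct.tmul_add, ha, hb]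
    | tmul a b => simp [pev_tmul, smul_smul, mul_comm]

variable [IsAlgClosed k] {G : Over (Spec (CommRingCat.of k))} [GrpObj G] [IsAffine G.left] [Smooth G.hom]

theorem fixed_fg_of_moduleFinite (hG : VecGrp.IsReductiveGrp k G) (thmA : VecGrp.ReductiveInvariantsFG k)
    (A : Type u) [CommRing A] [Algebra k A] [Algebra.FiniteType k A] (ρA : VecGrp.GMod G A) (hρ : ρA.IsMult)
    (M : Type u) [AddCommGroup M] [Module A M] [Module k M] [IsScalarTower k A M] [Module.Finite A M]
    (ρM : VecGrp.GMod G M) (hc : VecGrp.GMod.IsCompat ρA ρM) :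
    ∃ s : Finset M, (↑s : Set M) ⊆ ρM.fixedUnder (𝟙 G) ∧
      ρM.fixedUnder (𝟙 G) ≤ (Submodule.span ↥(ρA.fixedSubalgebra hρ (𝟙 G)) (↑s : Set M)).restrictScalars k := by
  classical
  obtain ⟨C⟩ := nonempty_chart G
  haveI := finiteType_chart C
  haveI := isReduced_chart C
  obtain ⟨cA, hcA⟩ := exists_comod C ρA
  obtain ⟨cM, hcM⟩ := exists_comod C ρM
  letI : Module Aᵐᵒᵖ M := Module.compHom M (RingEquiv.toOpposite A).symm.toRingHom
  haveI : IsCentralScalar A M := ⟨fun _ _ => rfl⟩
  haveI : IsScalarTower k Aᵐᵒᵖ M := ⟨fun r a m => smul_assoc r a.unop m⟩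
  let R := TrivSqZeroExt A M
  have hA : ∀ a, ρA.ρ C.A (C.pt (AlgHom.id k C.A)) ((1 : C.A) ⊗ₜ[k] a) = TensorProduct.comm k A C.A (cA.coact a) :=
    fun a => by rw [hcA, AlgHom.toLinearMap_id, LinearMap.lTensor_id]; rfl
  have hM : ∀ a, ρM.ρ C.A (C.pt (AlgHom.id k C.A)) ((1 : C.A) ⊗ₜ[k] a) = TensorProduct.comm k M C.A (cM.coact a) :=
    fun a => by rw [hcM, AlgHom.toLinearMap_id, LinearMap.lTensor_id]; rfl
  let cA' : A →ₐ[k] A ⊗[k] C.A := AlgHom.ofLinearMap cA.coact (by
      refine (TensorProduct.comm k A C.A).injective ((hA 1).symm.trans ?_)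
      rw [← Algebra.TensorProduct.one_def, (hρ _ _).2]
      exact (map_one (Algebra.TensorProduct.comm k A C.A)).symm) (fun a b => by
      refine (TensorProduct.comm k A C.A).injective ((hA (a * b)).symm.trans ?_)
      rw [show ((1 : C.A) ⊗ₜ[k] (a * b)) = ((1 : C.A) ⊗ₜ[k] a) * ((1 : C.A) ⊗ₜ[k] b) by
        rw [Algebra.TensorProduct.tmul_mul_tmul, _root_.one_mul], (hρ _ _).1, hA, hA]
      exact (map_mul (Algebra.TensorProduct.comm k A C.A) _ _).symm)
  let f : A →ₐ[k] R ⊗[k] C.A :=
    (Algebra.TensorProduct.map (TrivSqZeroExt.inlAlgHom k A M) (AlgHom.id k C.A)).comp cA'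
  let g : M →ₗ[k] R ⊗[k] C.A :=
    ((TrivSqZeroExt.inrHom A M).restrictScalars k).rTensor C.A ∘ₗ cM.coact
  have hgg : ∀ m n, g m * g n = 0 := fun m n => by
    simp only [g, LinearMap.comp_apply]
    induction cM.coact m with
    | zero => simp
    | add p q hp hq => simp only [map_add, add_mul, hp, hq, add_zero]
    | tmul p q =>
      induction cM.coact n with
      | zero => simp
      | add p' q' hp hq => simp only [map_add, mul_add, hp, hq, add_zero]
      | tmul p' q' => simp [R, Algebra.TensorProduct.tmul_mul_tmul, TrivSqZeroExt.inr_mul_inr]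
  have hfg : ∀ (a : A) (m : M), g (a • m) = f a * g m := fun a m => by
    have h := hc C.A (C.pt (AlgHom.id k C.A)) ((1 : C.A) ⊗ₜ[k] a) ((1 : C.A) ⊗ₜ[k] m)
    rw [show VecGrp.GMod.smulW k A M C.A ((1 : C.A) ⊗ₜ[k] a) ((1 : C.A) ⊗ₜ[k] m) = (1 : C.A) ⊗ₜ[k] (a • m) by
      simp [VecGrp.GMod.smulW], hA, hM, hM] at h
    show (((TrivSqZeroExt.inrHom A M).restrictScalars k).rTensor C.A) (cM.coact (a • m)) = _
    rw [← (TensorProduct.comm k M C.A).symm_apply_apply (cM.coact (a • m)), h]
    show _ = Algebra.TensorProduct.map (TrivSqZeroExt.inlAlgHom k A M) (AlgHom.id k C.A) (cA.coact a) * g m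
    simp only [g, LinearMap.comp_apply]
    induction cA.coact a with
    | zero => simp
    | add p q hp hq => simp only [map_add, LinearMap.add_apply, add_mul, hp, hq]
    | tmul p q =>
      induction cM.coact m with
      | zero => simp
      | add p' q' hp hq => simp only [map_add, mul_add, hp, hq]
      | tmul p' q' => simp [R, VecGrp.GMod.smulW, Algebra.TensorProduct.tmul_mul_tmul, TrivSqZeroExt.inl_mul_inr, mul_comm]
  let δ : R →ₐ[k] R ⊗[k] C.A := TrivSqZeroExt.lift f g hgg hfg fun a m => by rw [op_smul_eq_smul, hfg, mul_comm]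
  have hδ : ∀ x r, pev x (δ r) = inl (pev x (cA.coact r.fst)) + inr (pev x (cM.coact r.snd)) := by
    intro x r
    show pev x (f r.fst + g r.snd) = _
    rw [map_add]
    congr 1
    · show pev x (Algebra.TensorProduct.map (TrivSqZeroExt.inlAlgHom k A M) (AlgHom.id k C.A) (cA.coact r.fst)) = _
      rw [← pevA_eq, pevA_map, pevA_eq]
      rfl
    · exact pev_rTensor _ _ _
  obtain ⟨ρR, hρR, hcR⟩ := exists_algGMod C δ (fun r => by
      rw [hδ, comod_pev_one, comod_pev_one]
      exact TrivSqZeroExt.inl_fst_add_inr_snd_eq r)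
    (fun x y r => by
      rw [hδ, hδ, hδ]
      simp only [R, TrivSqZeroExt.fst_add, TrivSqZeroExt.snd_add, TrivSqZeroExt.fst_inl, TrivSqZeroExt.fst_inr,
        TrivSqZeroExt.snd_inl, TrivSqZeroExt.snd_inr, add_zero, zero_add, comod_pev_mul])
  have hid : ∀ y : C.A →ₐ[k] k, y.comp (C.hom C (𝟙 G) : C.A →ₐ[k] C.A) = y := fun y =>
    (pt_bijective C).1 (by rw [← pt_comp C C, Category.comp_id])
  have hfix : ∀ r, r ∈ ρR.fixedUnder (𝟙 G) ↔ r.fst ∈ ρA.fixedUnder (𝟙 G) ∧ r.snd ∈ ρM.fixedUnder (𝟙 G) := by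
    intro r
    rw [mem_fixed_iff C C (𝟙 G) ρR δ.toLinearMap hcR, mem_fixed_iff C C (𝟙 G) ρA cA.coact hcA,
      mem_fixed_iff C C (𝟙 G) ρM cM.coact hcM, ← forall_and]
    refine forall_congr' fun y => ?_
    rw [hid, AlgHom.toLinearMap_apply, hδ, TrivSqZeroExt.ext_iff]
    simp [R]
  haveI : Algebra.FiniteType k R := by
    obtain ⟨s, hs⟩ := (inferInstance : Algebra.FiniteType k A)
    obtain ⟨t, ht⟩ := (inferInstance : Module.Finite A M)
    refine ⟨s.image inl ∪ t.image inr, top_le_iff.mp fun r _ => ?_⟩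
    have h1 : ∀ a : A, (inl a : R) ∈
        Algebra.adjoin k ((s.image inl ∪ t.image inr : Finset R) : Set R) := fun a => by
      have ha : a ∈ Algebra.adjoin k (s : Set A) := by rw [hs]; trivial
      refine Algebra.adjoin_mono (s := (TrivSqZeroExt.inlAlgHom k A M) '' (s : Set A)) ?_ ?_
      · rintro _ ⟨z, hz, rfl⟩
        exact Finset.mem_coe.mpr (Finset.mem_union_left _ (Finset.mem_image_of_mem _ hz))
      · rw [← AlgHom.map_adjoin]
        exact ⟨a, ha, rfl⟩
    rw [← TrivSqZeroExt.inl_fst_add_inr_snd_eq r]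
    refine add_mem (h1 _) ?_
    have hm : r.snd ∈ Submodule.span A (t : Set M) := by rw [ht]; trivial
    generalize r.snd = m at hm ⊢
    induction hm using Submodule.span_induction with
    | mem z hz => exact Algebra.subset_adjoin (Finset.mem_coe.mpr (Finset.mem_union_right _ (Finset.mem_image_of_mem _ hz)))
    | zero => rw [TrivSqZeroExt.inr_zero]; exact zero_mem _
    | add x y _ _ hx hy => rw [TrivSqZeroExt.inr_add]; exact add_mem hx hy
    | smul a x _ hx => rw [← TrivSqZeroExt.inl_mul_inr]; exact mul_mem (h1 a) hx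
  obtain ⟨t, ht, hle⟩ := thmA G hG R ρR hρR inferInstance
  refine ⟨t.image snd, fun m hm => ?_, fun m hm => ?_⟩
  · obtain ⟨r, hr, rfl⟩ := Finset.mem_image.mp (Finset.mem_coe.mp hm)
    exact ((hfix r).mp (ht hr)).2
  · have h0 : (inr m : R) ∈ ρR.fixedUnder (𝟙 G) := (hfix _).mpr ⟨by simp, by simpa using hm⟩
    suffices H : ∀ r ∈ Algebra.adjoin k (t : Set R), r.fst ∈ ρA.fixedSubalgebra hρ (𝟙 G) ∧
        r.snd ∈ Submodule.span ↥(ρA.fixedSubalgebra hρ (𝟙 G)) (↑(t.image snd) : Set M) by
      simpa using (H _ (hle h0)).2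
    intro r hr
    induction hr using Algebra.adjoin_induction with
    | mem z hz => exact ⟨((hfix z).mp (ht hz)).1, Submodule.subset_span (Finset.mem_coe.mpr (Finset.mem_image_of_mem _ hz))⟩
    | algebraMap c =>
      rw [TrivSqZeroExt.algebraMap_eq_inl', TrivSqZeroExt.fst_inl, TrivSqZeroExt.snd_inl]
      exact ⟨Subalgebra.algebraMap_mem _ c, zero_mem _⟩
    | add x y _ _ hx hy => exact ⟨add_mem hx.1 hy.1, add_mem hx.2 hy.2⟩
    | mul x y _ _ hx hy =>
      refine ⟨mul_mem hx.1 hy.1, ?_⟩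
      rw [TrivSqZeroExt.snd_mul, op_smul_eq_smul]
      exact add_mem (Submodule.smul_mem _ (⟨_, hx.1⟩ : ↥(ρA.fixedSubalgebra hρ (𝟙 G))) hy.2)
        (Submodule.smul_mem _ (⟨_, hy.1⟩ : ↥(ρA.fixedSubalgebra hρ (𝟙 G))) hx.2)

end Groth.Agent.ObsLib
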