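import Groth.Agent.GrpSchLib.Basic
import Groth.Prelude.Def_AGF
import Mathlib

/-! Orbit closures and subgroups with complete quotient. -/

set_option autoImplicit false
set_option backward.isDefEq.respectTransparency false
set_option linter.style.haveILetI false

universe u

open CategoryTheory MonoidalCategory CartesianMonoidalCategory MonObj AlgebraicGeometry

noncomputable section

namespace Groth.Agent.ObsLib

variable {k : Type u} [Field k] {G H X Y : Over (Spec (CommRingCat.of k))} [GrpObj G] [GrpObj H]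

theorem one_act_pt (a : AlgGrp.Action G X) {T : Over (Spec (CommRingCat.of k))} (z : T ⟶ X) :
    lift (1 : T ⟶ G) z ≫ a.act = z := by
  have h : lift (toUnit T) z ≫ (η[G] ▷ X) ≫ a.act = lift (toUnit T) z ≫ (λ_ X).hom := by rw [a.one_act]
  rw [← Category.assoc, lift_whiskerRight, ← Hom.one_def] at h
  rw [h, leftUnitor_hom, lift_snd]

theorem mul_act_pt (a : AlgGrp.Action G X) {T : Over (Spec (CommRingCat.of k))} (g h : T ⟶ G) (z : T ⟶ X) :
    lift (g * h) z ≫ a.act = lift g (lift h z ≫ a.act) ≫ a.act := by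
  have e : lift (lift g h) z ≫ (μ[G] ▷ X) ≫ a.act = lift (lift g h) z ≫ (α_ G G X).hom ≫ (G ◁ a.act) ≫ a.act := by
    rw [a.mul_act]
  rw [← Category.assoc, lift_whiskerRight, ← Hom.mul_def] at e
  rw [e]
  simp

theorem comp_orbitMap (a : AlgGrp.Action G X) (x : 𝟙_ (Over (Spec (CommRingCat.of k))) ⟶ X)
    {T : Over (Spec (CommRingCat.of k))} (g : T ⟶ G) :
    g ≫ a.orbitMap x = lift g (toUnit T ≫ x) ≫ a.act := by
  show g ≫ lift (𝟙 G) (toUnit G ≫ x) ≫ a.act = _
  rw [← Category.assoc, comp_lift, Category.comp_id, ← Category.assoc, toUnit_unique (g ≫ toUnit G) (toUnit T)]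

theorem left_apply {T U V : Over (Spec (CommRingCat.of k))} (f : T ⟶ U) (g : U ⟶ V) (t : T.left) :
    g.left (f.left t) = (f ≫ g).left t := by
  rw [Over.comp_left, Scheme.Hom.comp_apply]

theorem isPullback_whiskerRight_left (p : G ⟶ Y) (X : Over (Spec (CommRingCat.of k))) :
    IsPullback (p ▷ X).left (Limits.pullback.fst G.hom X.hom) (Limits.pullback.fst Y.hom X.hom) p.left := by
  refine IsPullback.of_right ?_ (congrArg CommaMorphism.left (whiskerRight_fst p X)) (IsPullback.of_hasPullback _ _).flip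
  have h1 : (p ▷ X).left ≫ Limits.pullback.snd Y.hom X.hom = Limits.pullback.snd G.hom X.hom :=
    congrArg CommaMorphism.left (whiskerRight_snd p X)
  rw [h1, Over.w p]
  exact (IsPullback.of_hasPullback _ _).flip

theorem exists_pair {T U V : Over (Spec (CommRingCat.of k))} (f : T ⟶ V) (g : U ⟶ V) (t : T.left) (u : U.left)
    (h : f.left t = g.left u) : ∃ (T' : Over (Spec (CommRingCat.of k))) (a : T' ⟶ T) (b : T' ⟶ U) (t' : T'.left),
      a.left t' = t ∧ b.left t' = u ∧ a ≫ f = b ≫ g := by
  obtain ⟨z, hz, hz'⟩ := Scheme.Pullback.exists_preimage_pullback (f := f.left) (g := g.left) t u h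
  exact ⟨Over.mk (Limits.pullback.fst f.left g.left ≫ T.hom), Over.homMk (Limits.pullback.fst f.left g.left),
    Over.homMk (Limits.pullback.snd f.left g.left) (by
      show Limits.pullback.snd f.left g.left ≫ U.hom = Limits.pullback.fst f.left g.left ≫ T.hom
      rw [← Over.w f, ← Over.w g, ← Category.assoc, ← Category.assoc, Limits.pullback.condition]), z, hz, hz',
    Over.OverMorphism.ext Limits.pullback.condition⟩

theorem closure_orbit_eq [Smooth G.hom] [Smooth H.hom] [QuasiCompact G.hom] (i : H ⟶ G) [IsMonHom i]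
    (b : AlgGrp.Action G Y) (o' : 𝟙_ (Over (Spec (CommRingCat.of k))) ⟶ Y) (hY : AGF.IsQuotient i Y b o')
    [IsProper Y.hom] [LocallyOfFiniteType X.hom]
    (a : AlgGrp.Action G X) (x : 𝟙_ (Over (Spec (CommRingCat.of k))) ⟶ X) :
    closure (Set.range ⇑(a.orbitMap x).left.base) =
      ⇑a.act.left.base '' (⇑(snd G X).left.base ⁻¹' closure (Set.range ⇑(i ≫ a.orbitMap x).left.base)) := by
  show closure (Set.range (a.orbitMap x).left) =
    a.act.left '' ((snd G X).left ⁻¹' closure (Set.range (i ≫ a.orbitMap x).left))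
  set Z₀ := Set.range (i ≫ a.orbitMap x).left
  set Z := closure Z₀
  have hsnd : ∀ (V : Over (Spec (CommRingCat.of k))) [Smooth V.hom],
      (snd V X).left ⁻¹' closure Z₀ = closure ((snd V X).left ⁻¹' Z₀) := by
    intro V _
    haveI : UniversallyOpen V.hom := inferInstance
    haveI : UniversallyOpen (snd V X).left := inferInstanceAs (UniversallyOpen (Limits.pullback.snd V.hom X.hom))
    exact (snd V X).left.isOpenMap.preimage_closure_eq_closure_preimage (snd V X).left.continuous _
  -- the subgroup preserves `Z`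
  have hHZ : ∀ {T : Over (Spec (CommRingCat.of k))} (h : T ⟶ H) (z : T ⟶ X) (t : T.left), z.left t ∈ Z →
      (lift (h ≫ i) z ≫ a.act).left t ∈ Z := by
    intro T h z t hz
    have e : lift (h ≫ i) z ≫ a.act = lift h z ≫ ((i ▷ X) ≫ a.act) := by rw [← Category.assoc, lift_whiskerRight]
    rw [e, ← left_apply]
    have hmem : (lift h z).left t ∈ closure ((snd H X).left ⁻¹' Z₀) := by
      rw [← hsnd H, Set.mem_preimage, left_apply, lift_snd]
      exact hz
    refine (image_closure_subset_closure_image ((i ▷ X) ≫ a.act).left.continuous).trans (closure_mono ?_) ⟨_, hmem, rfl⟩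
    rintro _ ⟨w, hw, rfl⟩
    obtain ⟨T', b', c, t', ht', hbc⟩ := GrpSchLib.exists_lift (snd H X) (i ≫ a.orbitMap x) w hw
    refine ⟨((b' ≫ fst H X) * c).left t', ?_⟩
    rw [left_apply, ← ht', left_apply]
    congr 2
    rw [← Category.assoc ((b' ≫ fst H X) * c), comp_orbitMap, MonObj.mul_comp, mul_act_pt,
      ← comp_orbitMap, Category.assoc c, ← hbc,
      show lift ((b' ≫ fst H X) ≫ i) (b' ≫ snd H X) = b' ≫ (i ▷ X) by
        apply CartesianMonoidalCategory.hom_ext <;> simp, ← Category.assoc]
  apply Set.Subset.antisymm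
  · -- the translates form a closed set containing the orbit
    refine closure_minimal ?_ ?_
    · rintro _ ⟨g, rfl⟩
      obtain ⟨T, b', c, t, ht, hbc⟩ : ∃ (T : Over (Spec (CommRingCat.of k))) (b' : T ⟶ G) (c : T ⟶ H) (t : T.left),
          b'.left t = g ∧ c = 1 := ⟨G, 𝟙 G, 1, g, rfl, rfl⟩
      refine ⟨(lift b' (toUnit T ≫ x)).left t, ?_, ?_⟩
      · show (snd G X).left ((lift b' (toUnit T ≫ x)).left t) ∈ Z
        refine subset_closure ⟨c.left t, ?_⟩
        rw [left_apply, left_apply, lift_snd, ← Category.assoc, comp_orbitMap, hbc, MonObj.one_comp, one_act_pt]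
      · rw [left_apply, ← comp_orbitMap, ← ht, left_apply]
    obtain ⟨-, hfl, hsu, hpb⟩ := hY
    set p := b.orbitMap o'
    haveI : Flat p.left := hfl
    haveI : Surjective p.left := hsu
    haveI : QuasiCompact (p.left ≫ Y.hom) := by rw [Over.w]; infer_instance
    haveI : QuasiCompact p.left := QuasiCompact.of_comp p.left Y.hom
    let s : G ⊗ X ⟶ G ⊗ X := lift (fst G X) a.act
    let r : G ⊗ X ⟶ G ⊗ X := lift (fst G X) (lift (fst G X)⁻¹ (snd G X) ≫ a.act)
    have hrs : r ≫ s = 𝟙 _ := by
      apply CartesianMonoidalCategory.hom_ext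
      · simp [r, s]
      · show (r ≫ lift (fst G X) a.act) ≫ snd G X = 𝟙 _ ≫ snd G X
        rw [Category.assoc, lift_snd, Category.id_comp]
        show lift (fst G X) (lift (fst G X)⁻¹ (snd G X) ≫ a.act) ≫ a.act = snd G X
        rw [← mul_act_pt, mul_inv_cancel, one_act_pt]
    have hsr : s ≫ r = 𝟙 _ := by
      apply CartesianMonoidalCategory.hom_ext
      · simp [r, s]
      · show (s ≫ lift (fst G X) (lift (fst G X)⁻¹ (snd G X) ≫ a.act)) ≫ snd G X = 𝟙 _ ≫ snd G X
        rw [Category.assoc, lift_snd, Category.id_comp, ← Category.assoc, comp_lift, GrpObj.comp_inv, lift_fst,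
          lift_snd, show lift (fst G X)⁻¹ a.act = lift (fst G X)⁻¹ (lift (fst G X) (snd G X) ≫ a.act) by simp,
          ← mul_act_pt, inv_mul_cancel, one_act_pt]
    let q : G ⊗ X ⟶ Y ⊗ X := p ▷ X
    let S' := r.left ⁻¹' ((snd G X).left ⁻¹' Z)
    have hS' : IsClosed S' :=
      (isClosed_closure.preimage (snd G X).left.continuous).preimage r.left.continuous
    have hsat : q.left ⁻¹' (q.left '' S') = S' := by
      refine Set.Subset.antisymm ?_ (Set.subset_preimage_image _ _)
      rintro w₂ ⟨w₁, hw₁, hw⟩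
      obtain ⟨T, c₂, c₁, t, ht, ht₁, hc⟩ := exists_pair q q w₂ w₁ hw.symm
      have h1 := congrArg (· ≫ fst Y X) hc
      have h2 := congrArg (· ≫ snd Y X) hc
      simp only [q, Category.assoc, whiskerRight_fst, whiskerRight_snd] at h1 h2
      rw [← Category.assoc, ← Category.assoc] at h1
      obtain ⟨l, l1, l2⟩ : ∃ l, l ≫ fst G H = c₁ ≫ fst G X ∧ l ≫ (G ◁ i) ≫ μ[G] = c₂ ≫ fst G X :=
        ⟨hpb.lift _ _ h1.symm, hpb.lift_fst _ _ _, hpb.lift_snd _ _ _⟩
      have hg : c₂ ≫ fst G X = (c₁ ≫ fst G X) * ((l ≫ snd G H) ≫ i) := by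
        rw [← l2, ← l1, Hom.mul_def, ← Category.assoc]
        congr 1
        apply CartesianMonoidalCategory.hom_ext <;> simp
      have hmem : (c₁ ≫ r ≫ snd G X).left t ∈ Z := by
        rw [← left_apply, ← left_apply, ht₁]
        exact hw₁
      show (snd G X).left (r.left w₂) ∈ Z
      rw [← ht, left_apply, left_apply]
      have e : c₂ ≫ r ≫ snd G X = lift (((l ≫ snd G H)⁻¹) ≫ i) (c₁ ≫ r ≫ snd G X) ≫ a.act := by
        simp only [r, lift_snd]
        rw [← Category.assoc, comp_lift, GrpObj.comp_inv, h2, hg, mul_inv_rev, ← GrpObj.inv_comp,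
          ← Category.assoc c₁, comp_lift, GrpObj.comp_inv, mul_act_pt]
      rw [e]
      exact hHZ _ _ t hmem
    haveI : Flat q.left := MorphismProperty.of_isPullback (isPullback_whiskerRight_left p X).flip hfl
    haveI : Surjective q.left := MorphismProperty.of_isPullback (isPullback_whiskerRight_left p X).flip hsu
    haveI : QuasiCompact q.left :=
      MorphismProperty.of_isPullback (isPullback_whiskerRight_left p X).flip (inferInstanceAs (QuasiCompact p.left))
    have hcl : IsClosed (q.left '' S') :=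
      (Flat.isQuotientMap_of_surjective q.left).isClosed_preimage.mp (by rw [hsat]; exact hS')
    haveI : UniversallyClosed Y.hom := inferInstance
    haveI : UniversallyClosed (snd Y X).left := inferInstanceAs (UniversallyClosed (Limits.pullback.snd Y.hom X.hom))
    have himg : a.act.left '' ((snd G X).left ⁻¹' Z) = (snd Y X).left '' (q.left '' S') := by
      have e : a.act = s ≫ q ≫ snd Y X := by simp [s, q]
      ext y
      constructor
      · rintro ⟨w, hw, rfl⟩
        refine ⟨q.left (s.left w), ⟨s.left w, ?_, rfl⟩, ?_⟩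
        · show (snd G X).left (r.left (s.left w)) ∈ Z
          rw [show r.left (s.left w) = w by rw [left_apply, hsr]; rfl]
          exact hw
        · conv_rhs => rw [e]
          rw [left_apply, left_apply]
      · rintro ⟨_, ⟨w, hw, rfl⟩, rfl⟩
        refine ⟨r.left w, hw, ?_⟩
        conv_lhs => rw [e, left_apply, ← Category.assoc, hrs, Category.id_comp]
        rw [left_apply]
    rw [himg]
    exact (snd Y X).left.isClosedMap _ hcl
  · rintro _ ⟨w, hw, rfl⟩
    change w ∈ (snd G X).left ⁻¹' closure Z₀ at hw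
    rw [hsnd G] at hw
    refine (image_closure_subset_closure_image a.act.left.continuous).trans (closure_mono ?_) ⟨w, hw, rfl⟩
    rintro _ ⟨v, hv, rfl⟩
    obtain ⟨T', b', c, t', ht', hbc⟩ := GrpSchLib.exists_lift (snd G X) (i ≫ a.orbitMap x) v hv
    refine ⟨((b' ≫ fst G X) * (c ≫ i)).left t', ?_⟩
    rw [left_apply, ← ht', left_apply]
    congr 2
    rw [comp_orbitMap, mul_act_pt, ← comp_orbitMap, Category.assoc c, ← hbc,
      show lift (b' ≫ fst G X) (b' ≫ snd G X) = b' by apply CartesianMonoidalCategory.hom_ext <;> simp]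

end Groth.Agent.ObsLib
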