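import Mathlib
import Groth.Agent.AGFObsLib.ClopenAlg
import Groth.Agent.S4585

/-! Observable subgroups on rational points: invariants and semi-invariants. -/

set_option autoImplicit false
set_option backward.isDefEq.respectTransparency false

universe u

open scoped TensorProduct
open WithConv

noncomputable section

namespace Groth.Agent.ObsLib

open AGFObs (twistBy twistBy_eq)

variable {k : Type u} [Field k] {A B : Type u} [CommRing A] [HopfAlgebra k A] [CommRing B] [HopfAlgebra k B]

/-- Product of points. -/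
def pmul {D : Type u} [CommRing D] [Algebra k D] (x y : A →ₐ[k] D) : A →ₐ[k] D :=
  (Algebra.TensorProduct.lift x y fun _ _ => mul_comm _ _).comp (Bialgebra.comulAlgHom k A)

theorem pmul_eq {D : Type u} [CommRing D] [Algebra k D] (x y : A →ₐ[k] D) :
    pmul x y = (toConv x * toConv y).ofConv := by
  refine AlgHom.ext fun a => ?_
  show Algebra.TensorProduct.lift x y (fun _ _ => mul_comm _ _) (Coalgebra.comul (R := k) a) =
    Algebra.TensorProduct.lmul' k (Algebra.TensorProduct.map x y (Coalgebra.comul (R := k) a))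
  induction Coalgebra.comul (R := k) a with
  | zero => simp
  | add p q hp hq => simp only [map_add, hp, hq]
  | tmul p q => simp

theorem pmul_assoc {D : Type u} [CommRing D] [Algebra k D] (x y z : A →ₐ[k] D) :
    pmul (pmul x y) z = pmul x (pmul y z) := by
  simp only [pmul_eq, toConv_ofConv, mul_assoc]

/-- Inverse point. -/
def pinv {D : Type u} [CommRing D] [Algebra k D] (x : A →ₐ[k] D) : A →ₐ[k] D :=
  x.comp (HopfAlgebra.antipodeAlgHom k A)

/-- The unit point. -/
def pone : A →ₐ[k] k := Bialgebra.counitAlgHom k A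

theorem pone_eq : (pone : A →ₐ[k] k) = (1 : WithConv (A →ₐ[k] k)).ofConv :=
  AlgHom.ext fun a => by simp [pone, AlgHom.convOne_apply]

theorem pone_pmul (x : A →ₐ[k] k) : pmul pone x = x := by
  simp [pmul_eq, pone_eq]

theorem pmul_pone (x : A →ₐ[k] k) : pmul x pone = x := by
  simp [pmul_eq, pone_eq]

theorem pinv_pmul (x : A →ₐ[k] k) : pmul (pinv x) x = pone := by
  rw [pmul_eq, pone_eq]
  congr 1
  exact inv_mul_cancel (toConv x)

theorem pmul_pinv (x : A →ₐ[k] k) : pmul x (pinv x) = pone := by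
  rw [pmul_eq, pone_eq]
  congr 1
  exact mul_inv_cancel (toConv x)

theorem pinv_pmul_cancel (x y : A →ₐ[k] k) : pmul x (pmul (pinv x) y) = y := by
  rw [← pmul_assoc, pmul_pinv, pone_pmul]

/-- The semi-invariance of `f` of weight `χ` under translations by `u`. -/
def IsSemi {D : Type u} [CommRing D] [Algebra k D] (u : A →ₐ[k] D) (χ : D) (f : A) : Prop :=
  u.toLinearMap.lTensor A (Coalgebra.comul (R := k) f) = f ⊗ₜ[k] χ

theorem isSemi_apply {D E : Type u} [CommRing D] [Algebra k D] [CommRing E] [Algebra k E] {u : A →ₐ[k] D} {χ : D}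
    {f : A} (hf : IsSemi u χ f) (x : A →ₐ[k] E) (t : D →ₐ[k] E) :
    pmul x (t.comp u) f = x f * t χ := by
  have h := congrArg (Algebra.TensorProduct.lift x t fun _ _ => mul_comm _ _) hf
  rw [Algebra.TensorProduct.lift_tmul] at h
  rw [← h]
  show Algebra.TensorProduct.lift x (t.comp u) (fun _ _ => mul_comm _ _) (Coalgebra.comul (R := k) f) = _
  induction Coalgebra.comul (R := k) f with
  | zero => simp
  | add p q hp hq => simp only [map_add, hp, hq]
  | tmul p q => simp

/-- Left translation. -/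
def lTr (a : A →ₐ[k] k) : A →ₐ[k] A :=
  (Algebra.TensorProduct.lift ((Algebra.ofId k A).comp a) (AlgHom.id k A) fun _ _ => mul_comm _ _).comp
    (Bialgebra.comulAlgHom k A)

theorem apply_lTr (a y : A →ₐ[k] k) (f : A) : y (lTr a f) = pmul a y f := by
  show y (Algebra.TensorProduct.lift ((Algebra.ofId k A).comp a) (AlgHom.id k A) (fun _ _ => mul_comm _ _) (Coalgebra.comul (R := k) f)) =
    Algebra.TensorProduct.lift a y (fun _ _ => mul_comm _ _) (Coalgebra.comul (R := k) f)
  induction Coalgebra.comul (R := k) f with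
  | zero => simp
  | add p q hp hq => simp only [map_add, hp, hq]
  | tmul p q => simp [Algebra.ofId_apply]

theorem isSemi_mul {D : Type u} [CommRing D] [Algebra k D] {u : A →ₐ[k] D} {χ χ' : D} {f f' : A}
    (hf : IsSemi u χ f) (hf' : IsSemi u χ' f') : IsSemi u (χ * χ') (f * f') := by
  let T : A →ₐ[k] A ⊗[k] D := (Algebra.TensorProduct.map (AlgHom.id k A) u).comp (Bialgebra.comulAlgHom k A)
  show T (f * f') = _
  rw [map_mul, show T f = f ⊗ₜ[k] χ from hf, show T f' = f' ⊗ₜ[k] χ' from hf', Algebra.TensorProduct.tmul_mul_tmul]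

variable (π : A →ₐc[k] B)

/-- Invariance under the subgroup. -/
abbrev Inv (f : A) : Prop := IsSemi (π : A →ₐ[k] B) 1 f

theorem inv_apply {f : A} (hf : Inv π f) (x : A →ₐ[k] k) (h : B →ₐ[k] k) :
    pmul x (h.comp (π : A →ₐ[k] B)) f = x f := by
  rw [isSemi_apply hf, map_one, mul_one]

/-- The invariant functions as a subalgebra. -/
def invAlg : Subalgebra k A where
  carrier := {f | Inv π f}
  mul_mem' {a b} ha hb := by simpa using isSemi_mul ha hb
  one_mem' := by
    show (π : A →ₐ[k] B).toLinearMap.lTensor A (Coalgebra.comul (R := k) (1 : A)) = (1 : A) ⊗ₜ[k] (1 : B)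
    rw [Bialgebra.comul_one, Algebra.TensorProduct.one_def, LinearMap.lTensor_tmul, AlgHom.toLinearMap_apply, map_one]
  add_mem' {a b} ha hb := by
    show (π : A →ₐ[k] B).toLinearMap.lTensor A (Coalgebra.comul (R := k) (a + b)) = (a + b) ⊗ₜ[k] (1 : B)
    rw [map_add, map_add, show _ = _ from ha, show _ = _ from hb, TensorProduct.add_tmul]
  zero_mem' := by
    show (π : A →ₐ[k] B).toLinearMap.lTensor A (Coalgebra.comul (R := k) (0 : A)) = (0 : A) ⊗ₜ[k] (1 : B)
    simp
  algebraMap_mem' r := by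
    show (π : A →ₐ[k] B).toLinearMap.lTensor A (Coalgebra.comul (R := k) (algebraMap k A r)) =
      algebraMap k A r ⊗ₜ[k] (1 : B)
    rw [Algebra.algebraMap_eq_smul_one, map_smul, map_smul, Bialgebra.comul_one, Algebra.TensorProduct.one_def,
      LinearMap.lTensor_tmul, AlgHom.toLinearMap_apply, map_one, TensorProduct.smul_tmul']

/-- The subgroup is observable, on rational points. -/
def Obs : Prop :=
  ∀ g : A →ₐ[k] k, (∀ f, Inv π f → ∀ x : A →ₐ[k] k, pmul x g f = x f) →
    ∃ h : B →ₐ[k] k, h.comp (π : A →ₐ[k] B) = g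

/-- The functions of `s` separate the cosets of rational points. -/
def Separates (s : Finset A) : Prop :=
  (∀ f ∈ s, Inv π f) ∧ ∀ x y : A →ₐ[k] k, (∀ f ∈ s, x f = y f) →
    ∃ h : B →ₐ[k] k, y = pmul x (h.comp (π : A →ₐ[k] B))

theorem obs_of_separates {s : Finset A} (hs : Separates π s) : Obs π := fun g hg => by
  obtain ⟨h, hh⟩ := hs.2 pone g fun f hf => by
    have := hg f (hs.1 f hf) pone
    rw [pone_pmul] at this
    exact this.symm
  exact ⟨h, by rw [hh, pone_pmul]⟩

variable [IsAlgClosed k]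

omit [HopfAlgebra k A] in
theorem exists_pt [Algebra k A] [Algebra.FiniteType k A] (m : Ideal A) [m.IsMaximal] :
    ∃ x : A →ₐ[k] k, RingHom.ker x = m := by
  letI := Ideal.Quotient.field m
  haveI : Module.Finite k (A ⧸ m) := finite_of_finite_type_of_isJacobsonRing k _
  let e := AlgEquiv.ofBijective (Algebra.ofId k (A ⧸ m))
    (IsAlgClosed.algebraMap_bijective_of_isIntegral (k := k) (K := A ⧸ m))
  refine ⟨e.symm.toAlgHom.comp (Ideal.Quotient.mkₐ k m), ?_⟩
  ext a
  rw [RingHom.mem_ker, AlgHom.comp_apply]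
  rw [← Ideal.Quotient.eq_zero_iff_mem (I := m)]
  exact e.symm.map_eq_zero_iff

omit [HopfAlgebra k A] in
theorem exists_pt_not_mem [Algebra k A] [Algebra.FiniteType k A] (P : Ideal A) [P.IsPrime] {a : A} (ha : a ∉ P) :
    ∃ x : A →ₐ[k] k, P ≤ RingHom.ker x ∧ x a ≠ 0 := by
  haveI : IsJacobsonRing A := isJacobsonRing_of_finiteType (A := k)
  have hP : P.jacobson = P := (‹IsJacobsonRing A›).out (‹P.IsPrime›.isRadical)
  rw [← hP, Ideal.jacobson, Ideal.mem_sInf] at ha
  push Not at ha
  obtain ⟨m, ⟨hle, hm⟩, ham⟩ := ha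
  haveI := hm
  obtain ⟨x, hx⟩ := exists_pt (k := k) m
  exact ⟨x, hx ▸ hle, fun h => ham (hx ▸ h)⟩

omit [HopfAlgebra k A] in
theorem eq_zero_of_pts [Algebra k A] [Algebra.FiniteType k A] [IsReduced A] {a : A}
    (h : ∀ x : A →ₐ[k] k, x a = 0) : a = 0 := by
  by_contra ha
  have : a ∉ nilradical A := by rwa [nilradical_eq_zero]
  rw [nilradical_eq_sInf, Ideal.mem_sInf] at this
  push Not at this
  obtain ⟨P, hP, haP⟩ := this
  haveI : P.IsPrime := hP
  obtain ⟨x, -, hx⟩ := exists_pt_not_mem (k := k) P haP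
  exact hx (h x)

omit [HopfAlgebra k A] [HopfAlgebra k B] in
theorem eq_of_pts_tensor [Algebra k A] [Algebra k B] [Algebra.FiniteType k A] [IsReduced A] [Algebra.FiniteType k B]
    [IsReduced B] {z w : A ⊗[k] B}
    (h : ∀ (x : A →ₐ[k] k) (y : B →ₐ[k] k), Algebra.TensorProduct.lift x y (fun _ _ => mul_comm _ _) z =
      Algebra.TensorProduct.lift x y (fun _ _ => mul_comm _ _) w) : z = w := by
  rw [← sub_eq_zero]
  set d := z - w with hd
  have hd0 : ∀ (x : A →ₐ[k] k) (y : B →ₐ[k] k), Algebra.TensorProduct.lift x y (fun _ _ => mul_comm _ _) d = 0 :=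
    fun x y => by rw [hd, map_sub, h, sub_self]
  clear_value d
  let b := Module.Free.chooseBasis k B
  have h1 : ∀ l : B →ₗ[k] k, TensorProduct.rid k A (l.lTensor A d) = 0 := by
    intro l
    refine eq_zero_of_pts (k := k) fun x => ?_
    have hx : TensorProduct.lid k B (x.toLinearMap.rTensor B d) = 0 := by
      refine eq_zero_of_pts (k := k) fun y => ?_
      rw [← hd0 x y]
      clear hd0 hd
      induction d with
      | zero => simp
      | add p q hp hq => simp only [map_add, hp, hq]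
      | tmul p q => simp [mul_comm]
    have h2 : x (TensorProduct.rid k A (l.lTensor A d)) = l (TensorProduct.lid k B (x.toLinearMap.rTensor B d)) := by
      clear hx hd0 hd
      induction d with
      | zero => simp
      | add p q hp hq => simp only [map_add, hp, hq]
      | tmul p q => simp [mul_comm]
    rw [h2, hx, map_zero]
  apply (TensorProduct.equivFinsuppOfBasisRight b).injective
  rw [map_zero]
  refine Finsupp.ext fun j => ?_
  rw [Finsupp.zero_apply, ← h1 (b.coord j)]
  clear h1 hd0 hd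
  induction d with
  | zero => simp
  | add p q hp hq => simp only [map_add, Finsupp.add_apply, hp, hq]
  | tmul p q => simp [TensorProduct.equivFinsuppOfBasisRight]

variable [Algebra.FiniteType k A] [IsReduced A] [Algebra.FiniteType k B] [IsReduced B]

theorem isSemi_of_pts {χ : B} {f : A}
    (h : ∀ (x : A →ₐ[k] k) (y : B →ₐ[k] k), pmul x (y.comp (π : A →ₐ[k] B)) f = x f * y χ) :
    IsSemi (π : A →ₐ[k] B) χ f := by
  refine eq_of_pts_tensor (k := k) fun x y => ?_
  rw [Algebra.TensorProduct.lift_tmul, ← h]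
  show _ = Algebra.TensorProduct.lift x (y.comp (π : A →ₐ[k] B)) (fun _ _ => mul_comm _ _) (Coalgebra.comul (R := k) f)
  induction Coalgebra.comul (R := k) f with
  | zero => simp
  | add p q hp hq => simp only [map_add, hp, hq]
  | tmul p q => simp

theorem isSemi_lTr {χ : B} {f : A} (hf : IsSemi (π : A →ₐ[k] B) χ f) (a : A →ₐ[k] k) :
    IsSemi (π : A →ₐ[k] B) χ (lTr a f) := by
  refine isSemi_of_pts π fun x y => ?_
  rw [apply_lTr, apply_lTr, ← pmul_assoc, isSemi_apply hf]

/-- Finitely many invariants separate the cosets of an observable subgroup. -/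
theorem exists_separates (hobs : Obs π) : ∃ s : Finset A, Separates π s := by
  classical
  haveI : Algebra.FiniteType A (A ⊗[k] A) := inferInstance
  haveI : Algebra.FiniteType k (A ⊗[k] A) := Algebra.FiniteType.trans (S := A) inferInstance inferInstance
  haveI : IsNoetherianRing (A ⊗[k] A) := Algebra.FiniteType.isNoetherianRing k _
  let c : {f : A // Inv π f} → A ⊗[k] A := fun f => f.1 ⊗ₜ[k] (1 : A) - (1 : A) ⊗ₜ[k] f.1
  obtain ⟨t, ht, htI⟩ := (Submodule.fg_span_iff_fg_span_finset_subset (Set.range c)).mp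
    (IsNoetherian.noetherian (Ideal.span (Set.range c)))
  choose p hp using fun a : t => ht a.2
  refine ⟨t.attach.image fun a => (p a).1, fun f hf => ?_, fun x y hxy => ?_⟩
  · obtain ⟨a, -, rfl⟩ := Finset.mem_image.mp hf
    exact (p a).2
  · let w := Algebra.TensorProduct.lift x y fun _ _ => mul_comm _ _
    have hI : Ideal.span (Set.range c) ≤ RingHom.ker w := by
      rw [show Ideal.span (Set.range c) = Ideal.span (t : Set (A ⊗[k] A)) from htI, Ideal.span_le]
      intro a ha
      show w a = 0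
      rw [← show c (p ⟨a, ha⟩) = a from hp ⟨a, ha⟩]
      simp only [w, c, map_sub, Algebra.TensorProduct.lift_tmul, map_one, mul_one, one_mul]
      exact sub_eq_zero.mpr (hxy _ (Finset.mem_image_of_mem _ (Finset.mem_attach t _)))
    have hall : ∀ f, Inv π f → x f = y f := fun f hf => by
      have : w (c ⟨f, hf⟩) = 0 := hI (Ideal.subset_span ⟨_, rfl⟩)
      simpa [w, c, sub_eq_zero] using this
    obtain ⟨h, hh⟩ := hobs (pmul (pinv x) y) fun f hf z => by
      have h1 := hall (lTr (pmul z (pinv x)) f) (isSemi_lTr π hf _)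
      rw [apply_lTr, apply_lTr, pmul_assoc, pinv_pmul, pmul_pone, pmul_assoc] at h1
      exact h1.symm
    exact ⟨h, by rw [hh, pinv_pmul_cancel]⟩

/-- For an observable subgroup the inverse of a weight of a semi-invariant is again one. -/
theorem exists_semi_inv (hobs : Obs π) {χ ψ : B} (hψ : ψ * χ = 1) {f : A} (hf : IsSemi (π : A →ₐ[k] B) χ f)
    (hf0 : f ≠ 0) : ∃ g : A, g ≠ 0 ∧ IsSemi (π : A →ₐ[k] B) ψ g := by
  classical
  obtain ⟨s, hsInv, hsep⟩ := exists_separates π hobs
  obtain ⟨x0, hx0⟩ : ∃ x : A →ₐ[k] k, x f ≠ 0 := by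
    by_contra h
    push Not at h
    exact hf0 (eq_zero_of_pts (k := k) h)
  let C : Subalgebra k A := Algebra.adjoin k (s : Set A)
  have hC : ∀ F ∈ C, Inv π F := fun F hF => (Algebra.adjoin_le (S := invAlg π) hsInv) hF
  haveI : Nontrivial A := ⟨⟨f, 0, hf0⟩⟩
  -- a prime of `A` over a minimal prime of `C`, and a translate not in it
  obtain ⟨q, hq⟩ := Ideal.nonempty_minimalPrimes (I := (⊥ : Ideal C)) bot_ne_top
  haveI := hq.1.1
  obtain ⟨P, hP, -, hPq⟩ := Ideal.exists_comap_eq_of_mem_minimalPrimes (I := (⊥ : Ideal A)) C.val.toRingHom q (by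
    rwa [← RingHom.ker_eq_comap_bot, (RingHom.injective_iff_ker_eq_bot C.val.toRingHom).mp Subtype.val_injective])
  haveI := hP
  obtain ⟨xP, hxP, -⟩ := exists_pt_not_mem (k := k) P (a := 1) (fun h => hP.ne_top (P.eq_top_iff_one.mpr h))
  let f' := lTr (pmul x0 (pinv xP)) f
  have hf' : IsSemi (π : A →ₐ[k] B) χ f' := isSemi_lTr π hf _
  have hf'P : f' ∉ P := fun h => hx0 (by
    have h1 := hxP h
    rw [RingHom.mem_ker] at h1
    rwa [show xP f' = pmul (pmul x0 (pinv xP)) xP f from apply_lTr _ _ _, pmul_assoc, pinv_pmul, pmul_pone] at h1)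
  -- some invariant vanishes on the zeros of `f'`
  obtain ⟨F, hFC, hF0, hFrad⟩ : ∃ F ∈ C, F ≠ 0 ∧ F ∈ (Ideal.span {f'}).radical := by
    by_contra hno
    push Not at hno
    let D := A ⧸ (Ideal.span {f'}).radical
    let ν : C →ₐ[k] D := (Ideal.Quotient.mkₐ k _).comp C.val
    have hinj : Function.Injective ν := (injective_iff_map_eq_zero ν).mpr fun F hF => by
      by_contra hne
      exact hno F.1 F.2 (fun h => hne (Subtype.ext h)) (Ideal.Quotient.eq_zero_iff_mem.mp hF)
    obtain ⟨Q, hQ, -, hQq⟩ := Ideal.exists_comap_eq_of_mem_minimalPrimes (I := (⊥ : Ideal D)) ν.toRingHom q (by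
      rwa [← RingHom.ker_eq_comap_bot, (RingHom.injective_iff_ker_eq_bot ν.toRingHom).mp hinj])
    haveI := hQ
    let θ : C ⧸ q →+* D ⧸ Q := Ideal.quotientMap Q ν.toRingHom hQq.ge
    letI := θ.toAlgebra
    haveI : IsScalarTower k (C ⧸ q) (D ⧸ Q) := IsScalarTower.of_algebraMap_eq (S := C ⧸ q) fun r =>
      show Ideal.Quotient.mk Q (algebraMap k D r) = Ideal.Quotient.mk Q (ν.toRingHom (algebraMap k C r)) from
        (congrArg (Ideal.Quotient.mk Q) (ν.commutes r)).symm
    haveI : Algebra.FiniteType (C ⧸ q) (D ⧸ Q) := Algebra.FiniteType.of_restrictScalars_finiteType k _ _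
    have hθ : Function.Injective θ := Ideal.quotientMap_injective' (H := hQq.ge) hQq.le
    obtain ⟨c', hc', hrange⟩ := S4585.exists_basicOpen_subset_range_of_domain (R := C ⧸ q) (S := D ⧸ Q) hθ
    obtain ⟨c, rfl⟩ := Ideal.Quotient.mk_surjective c'
    have hcP : (c : A) ∉ P := fun h => hc' (Ideal.Quotient.eq_zero_iff_mem.mpr (hPq ▸ h))
    obtain ⟨x, hxP', hx⟩ := exists_pt_not_mem (k := k) P (a := (c : A) * f') (fun h =>
      (hP.mem_or_mem h).elim hcP hf'P)
    let xC : C →ₐ[k] k := x.comp C.val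
    have hqx : q ≤ RingHom.ker xC := fun a ha => hxP' (show (a : A) ∈ P from (hPq.ge ha))
    haveI : (RingHom.ker xC).IsMaximal :=
      RingHom.ker_isMaximal_of_surjective _ fun r => ⟨algebraMap k C r, xC.commutes r⟩
    let xq : C ⧸ q →+* k := Ideal.Quotient.lift q xC.toRingHom fun a ha => hqx ha
    haveI : (RingHom.ker xq).IsPrime := RingHom.ker_isPrime _
    obtain ⟨R, hR⟩ := hrange ⟨RingHom.ker xq, inferInstance⟩ (fun h => hx (by
      have : x (c : A) = 0 := h
      rw [map_mul, this, zero_mul]))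
    obtain ⟨m, hm, hRm⟩ := Ideal.exists_le_maximal R.asIdeal R.isPrime.ne_top
    haveI := hm
    let μ : A →ₐ[k] D ⧸ Q := (Ideal.Quotient.mkₐ k Q).comp (Ideal.Quotient.mkₐ k _)
    haveI : (Ideal.comap μ m).IsMaximal := Ideal.comap_isMaximal_of_surjective μ
      (Ideal.Quotient.mk_surjective.comp Ideal.Quotient.mk_surjective)
    obtain ⟨z, hz⟩ := exists_pt (k := k) (Ideal.comap μ m)
    have hzf : z f' = 0 := by
      rw [← RingHom.mem_ker, hz, Ideal.mem_comap]
      have : μ f' = 0 := by
        show Ideal.Quotient.mk Q (Ideal.Quotient.mk _ f') = 0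
        rw [Ideal.Quotient.eq_zero_iff_mem.mpr (Ideal.le_radical (Ideal.mem_span_singleton_self f')), map_zero]
      rw [this]; exact zero_mem _
    have hzC : ∀ a ∈ C, x a = z a := by
      intro a ha
      let a' : C := ⟨a, ha⟩ - algebraMap k C (x a)
      have ha' : x (a' : A) = 0 := by simp [a']
      have h1 : Ideal.Quotient.mk q a' ∈ RingHom.ker xq := ha'
      have hR' : Ideal.comap θ R.asIdeal = RingHom.ker xq := congrArg PrimeSpectrum.asIdeal hR
      rw [← hR'] at h1
      have h2 : μ (a' : A) ∈ m := hRm h1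
      have h3 : z (a' : A) = 0 := by rw [← RingHom.mem_ker, hz]; exact h2
      simp only [a', Subalgebra.coe_sub, map_sub, sub_eq_zero] at h3
      rw [h3]
      exact (z.commutes _).symm
    obtain ⟨h, hh⟩ := hsep z x fun F hF => (hzC F (Algebra.subset_adjoin hF)).symm
    apply hx
    rw [map_mul, show x f' = z f' * h χ by rw [hh, isSemi_apply hf'], hzf, zero_mul, mul_zero]
  obtain ⟨m, hm⟩ := hFrad
  obtain ⟨g0, hg0⟩ := Ideal.mem_span_singleton'.mp hm
  have hfg : f' * (g0 * F) = F ^ (m + 1) := by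
    rw [pow_succ, ← hg0]; ring
  refine ⟨g0 * F, fun h0 => hF0 (IsNilpotent.eq_zero ⟨m + 1, by rw [← hfg, h0, mul_zero]⟩), ?_⟩
  refine isSemi_of_pts π fun x y => ?_
  set y' := y.comp (π : A →ₐ[k] B)
  have hFi : pmul x y' F = x F := inv_apply π (hC F hFC) x y
  have hff : pmul x y' f' = x f' * y χ := isSemi_apply hf' x y
  have hyy : y ψ * y χ = 1 := by rw [← map_mul, hψ, map_one]
  by_cases hxf : x f' = 0
  · have hxF : x F = 0 := by
      have := congrArg x hg0
      rw [map_mul, hxf, mul_zero, map_pow] at this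
      exact eq_zero_of_pow_eq_zero this.symm
    rw [map_mul, hFi, hxF, map_mul, hxF]
    ring
  · have h1 := congrArg (pmul x y') hfg
    have h2 := congrArg x hfg
    rw [map_mul, map_pow, hFi, hff] at h1
    rw [map_mul, map_pow] at h2
    rw [← h2] at h1
    have h3 : pmul x y' (g0 * F) * y χ = x (g0 * F) := mul_left_cancel₀ hxf (by linear_combination h1)
    calc pmul x y' (g0 * F) = pmul x y' (g0 * F) * (y ψ * y χ) := by rw [hyy, mul_one]
      _ = x (g0 * F) * y ψ := by rw [← h3]; ring

end Groth.Agent.ObsLib
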