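import Groth.Agent.ObsLib.QuasiAffine
import Groth.Agent.ObsLib.FracInv
import Mathlib

/-! Subgroups with reductive identity component, from the standard facts of invariant theory. -/

set_option autoImplicit false
set_option backward.isDefEq.respectTransparency false
set_option linter.style.haveILetI false

universe u

open CategoryTheory MonoidalCategory CartesianMonoidalCategory MonObj AlgebraicGeometry WithConv
open scoped TensorProduct

noncomputable section

namespace Groth.Agent.ObsLib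

open AGFObs (ev algΓ taut)

attribute [local instance] AGFObs.algΓ

variable {k : Type u} [Field k]

section Hopf

variable {A B : Type u} [CommRing A] [HopfAlgebra k A] [CommRing B] [HopfAlgebra k B] (π : A →ₐc[k] B)

/-- Restriction to a left coset. -/
def resCoset (g : A →ₐ[k] k) : A →ₐ[k] B := (π : A →ₐ[k] B).comp (lTr g)

variable [IsAlgClosed k]

theorem resCoset_surjective [Algebra.FiniteType k A] [IsReduced A] (hπ : Function.Surjective π) (g : A →ₐ[k] k) :
    Function.Surjective (resCoset π g) := fun b => by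
  obtain ⟨x, rfl⟩ := hπ b
  refine ⟨lTr (pinv g) x, congrArg π (sub_eq_zero.mp (eq_zero_of_pts (k := k) fun y => ?_))⟩
  rw [map_sub, sub_eq_zero]
  show y (lTr g (lTr (pinv g) x)) = y x
  rw [apply_lTr, apply_lTr, ← pmul_assoc, pinv_pmul, pone_pmul]

theorem comul_resCoset [Algebra.FiniteType k B] [IsReduced B] (g : A →ₐ[k] k) (x : A) :
    TensorProduct.map (resCoset π g).toLinearMap (π : A →ₐ[k] B).toLinearMap (Coalgebra.comul (R := k) x) =
      Coalgebra.comul (R := k) (resCoset π g x) := by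
  refine eq_of_pts_tensor (k := k) fun h₁ h₂ => ?_
  have e1 : Algebra.TensorProduct.lift h₁ h₂ (fun _ _ => mul_comm _ _)
      (TensorProduct.map (resCoset π g).toLinearMap (π : A →ₐ[k] B).toLinearMap (Coalgebra.comul (R := k) x)) =
      pmul (h₁.comp (resCoset π g)) (h₂.comp (π : A →ₐ[k] B)) x := by
    show _ = Algebra.TensorProduct.lift (h₁.comp (resCoset π g)) (h₂.comp (π : A →ₐ[k] B)) (fun _ _ => mul_comm _ _)
      (Coalgebra.comul (R := k) x)
    induction Coalgebra.comul (R := k) x with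
    | zero => simp
    | add p q hp hq => simp only [map_add, hp, hq]
    | tmul p q => simp
  have e2 : h₁.comp (resCoset π g) = pmul g (h₁.comp (π : A →ₐ[k] B)) := AlgHom.ext fun y =>
    apply_lTr g (h₁.comp (π : A →ₐ[k] B)) y
  rw [e1, e2]
  show _ = pmul h₁ h₂ (resCoset π g x)
  rw [pmul_assoc, pmul_comp]
  exact (apply_lTr g _ x).symm

theorem sup_ker_resCoset [Algebra.FiniteType k A] [IsReduced A] (hπ : Function.Surjective π) {g : A →ₐ[k] k}
    (hg : ¬ ∃ h : B →ₐ[k] k, h.comp (π : A →ₐ[k] B) = g) :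
    RingHom.ker (resCoset π pone) ⊔ RingHom.ker (resCoset π g) = ⊤ := by
  by_contra hne
  obtain ⟨m, hm, hle⟩ := Ideal.exists_le_maximal _ hne
  haveI := hm
  obtain ⟨z, hz⟩ := exists_pt (k := k) m
  have key : ∀ a : A →ₐ[k] k, RingHom.ker (resCoset π a) ≤ m → ∃ h : B →ₐ[k] k, z = pmul a (h.comp (π : A →ₐ[k] B)) := by
    intro a ha
    have hle' : RingHom.ker (resCoset π a) ≤ RingHom.ker z := fun y hy => hz.ge (ha hy)
    refine ⟨AlgHom.liftOfSurjective (resCoset π a) (resCoset_surjective π hπ a) z hle', AlgHom.ext fun y => ?_⟩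
    rw [← apply_lTr]
    exact (AlgHom.liftOfSurjective_apply (resCoset π a) (resCoset_surjective π hπ a) z hle' y).symm
  obtain ⟨h₁, e₁⟩ := key pone (le_trans le_sup_left hle)
  obtain ⟨h₂, e₂⟩ := key g (le_trans le_sup_right hle)
  refine hg ⟨pmul h₁ (pinv h₂), ?_⟩
  rw [← pmul_comp π]
  have e3 : pmul g (h₂.comp (π : A →ₐ[k] B)) = h₁.comp (π : A →ₐ[k] B) := by rw [← e₂, e₁, pone_pmul]
  rw [← e3, pmul_assoc, pmul_comp, pmul_pinv,
    show (pone : B →ₐ[k] k).comp (π : A →ₐ[k] B) = pone from AlgHom.ext fun a => CoalgHomClass.counit_comp_apply π a,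
    pmul_pone]

end Hopf

variable {G H : Over (Spec (CommRingCat.of k))} [GrpObj G] [GrpObj H] (C : Chart G) (D : Chart H) (i : H ⟶ G)
  [IsMonHom i]

/-- The translation of a function by a point of the subgroup. -/
def actAlg {E : Type u} [CommRing E] [Algebra k E] (ψ : D.A →ₐ[k] E) : C.A →ₐ[k] E ⊗[k] C.A :=
  (Algebra.TensorProduct.comm k C.A E).toAlgHom.comp
    ((Algebra.TensorProduct.map (AlgHom.id k C.A) (ψ.comp (C.hom D i : C.A →ₐ[k] D.A))).comp (Bialgebra.comulAlgHom k C.A))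

theorem exists_rightAction [IsAffine H.left] : ∃ (ρ : VecGrp.GMod H C.A) (hρ : ρ.IsMult),
    (∀ (E : Type u) [CommRing E] [Algebra k E] (ψ : D.A →ₐ[k] E) (x : C.A),
      ρ.ρ E (D.pt ψ) ((1 : E) ⊗ₜ[k] x) = actAlg C D i ψ x) ∧
    ∀ x, x ∈ ρ.fixedSubalgebra hρ (𝟙 H) ↔ Inv (C.hom D i) x := by
  obtain ⟨ρ, hρ⟩ := exists_gmod D (GLin.comodAlong (C.hom D i) (HopfRep.Comod.regular k C.A))
  have h1 : ∀ (E : Type u) [CommRing E] [Algebra k E] (ψ : D.A →ₐ[k] E) (x : C.A),
      ρ.ρ E (D.pt ψ) ((1 : E) ⊗ₜ[k] x) = actAlg C D i ψ x := by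
    intro E _ _ ψ x
    rw [hρ]
    show TensorProduct.comm k C.A E (ψ.toLinearMap.lTensor C.A
      (TensorProduct.map LinearMap.id (C.hom D i : C.A →ₗ[k] D.A) (Coalgebra.comul (R := k) x))) =
      Algebra.TensorProduct.comm k C.A E (Algebra.TensorProduct.map (AlgHom.id k C.A) (ψ.comp (C.hom D i : C.A →ₐ[k] D.A))
        (Coalgebra.comul (R := k) x))
    induction Coalgebra.comul (R := k) x with
    | zero => simp
    | add p q hp hq => simp only [map_add, hp, hq]
    | tmul p q => simp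
  have hm : ρ.IsMult := by
    intro E _ _ h
    obtain ⟨ψ, rfl⟩ := (pt_bijective D).2 h
    have hsmul : ∀ (b : E) (x : C.A), ρ.ρ E (D.pt ψ) (b ⊗ₜ[k] x) = b • actAlg C D i ψ x := fun b x => by
      rw [← h1, ← map_smul, TensorProduct.smul_tmul', smul_eq_mul, _root_.mul_one]
    refine ⟨fun x y => ?_, ?_⟩
    · induction x using TensorProduct.induction_on with
      | zero => simp
      | add p q hp hq => simp only [add_mul, map_add, hp, hq]
      | tmul b x =>
        induction y using TensorProduct.induction_on with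
        | zero => simp
        | add p q hp hq => simp only [mul_add, map_add, hp, hq]
        | tmul b' y =>
          rw [Algebra.TensorProduct.tmul_mul_tmul, hsmul, hsmul, hsmul, map_mul, smul_mul_smul_comm]
    · rw [Algebra.TensorProduct.one_def, h1, map_one]
      rfl
  refine ⟨ρ, hm, h1, fun x => ⟨fun hx => ?_, fun hx E _ _ h => ?_⟩⟩
  · have h := hx D.A (D.pt (AlgHom.id k D.A))
    rw [Category.comp_id, hρ, AlgHom.toLinearMap_id, LinearMap.lTensor_id] at h
    exact (TensorProduct.comm k C.A D.A).injective (h.trans (TensorProduct.comm_tmul _ _ _ _ _).symm)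
  · obtain ⟨ψ, rfl⟩ := (pt_bijective D).2 h
    rw [Category.comp_id, hρ]
    have hx' : (C.hom D i : C.A →ₐ[k] D.A).toLinearMap.lTensor C.A (Coalgebra.comul (R := k) x) = x ⊗ₜ[k] (1 : D.A) := hx
    refine (congrArg (fun z => TensorProduct.comm k C.A E (ψ.toLinearMap.lTensor C.A z)) hx').trans ?_
    rw [LinearMap.lTensor_tmul, TensorProduct.comm_tmul, AlgHom.toLinearMap_apply, map_one]

variable [IsAlgClosed k] [IsAffine G.left] [IsAffine H.left] [Smooth G.hom] [Smooth H.hom] [IsClosedImmersion i.left]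

omit [IsAffine G.left] [Smooth G.hom] in
theorem isStable_ker_resCoset (ρ : VecGrp.GMod H C.A)
    (h1 : ∀ (E : Type u) [CommRing E] [Algebra k E] (ψ : D.A →ₐ[k] E) (x : C.A),
      ρ.ρ E (D.pt ψ) ((1 : E) ⊗ₜ[k] x) = actAlg C D i ψ x)
    (g : C.A →ₐ[k] k) (hsurj : Function.Surjective (resCoset (C.hom D i) g)) :
    ρ.IsStable (𝟙 H) ((RingHom.ker (resCoset (C.hom D i) g)).restrictScalars k) := by
  haveI := finiteType_chart D
  haveI := isReduced_chart D
  intro E _ _ h x hx
  obtain ⟨ψ, rfl⟩ := (pt_bijective D).2 h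
  rw [Category.comp_id, h1]
  set Φ := (resCoset (C.hom D i) g).toLinearMap
  have h0 : Φ.lTensor E (actAlg C D i ψ x) = 0 := by
    have e : Φ.lTensor E (actAlg C D i ψ x) = TensorProduct.comm k D.A E (ψ.toLinearMap.lTensor D.A
        (TensorProduct.map Φ (C.hom D i : C.A →ₐ[k] D.A).toLinearMap (Coalgebra.comul (R := k) x))) := by
      show Φ.lTensor E (Algebra.TensorProduct.comm k C.A E (Algebra.TensorProduct.map (AlgHom.id k C.A)
        (ψ.comp (C.hom D i : C.A →ₐ[k] D.A)) (Coalgebra.comul (R := k) x))) = _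
      induction Coalgebra.comul (R := k) x with
      | zero => simp
      | add p q hp hq => simp only [map_add, hp, hq]
      | tmul p q => simp
    rw [e, comul_resCoset, show resCoset (C.hom D i) g x = 0 from hx, map_zero, map_zero, map_zero]
  have hex : Function.Exact ((RingHom.ker (resCoset (C.hom D i) g)).restrictScalars k).subtype Φ :=
    LinearMap.exact_iff.mpr (by rw [Submodule.range_subtype]; rfl)
  obtain ⟨w, hw⟩ := (lTensor_exact E hex hsurj _).mp h0
  rw [← hw]
  clear hw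
  induction w with
  | zero => simp
  | add p q hp hq => rw [map_add]; exact add_mem hp hq
  | tmul b j => exact Submodule.tmul_mem_baseChange_of_mem b j.2

theorem isObservableIn_of_reductive (hH : VecGrp.IsReductiveGrp k H) (thmAbiv : AGF.ReductiveQuotSeparates k) :
    AGF.IsObservableIn k i := by
  obtain ⟨C⟩ := nonempty_chart G
  obtain ⟨D⟩ := nonempty_chart H
  haveI := finiteType_chart C
  haveI := isReduced_chart C
  haveI := finiteType_chart D
  haveI := isReduced_chart D
  rw [isObservableIn_iff C D]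
  intro g hg
  by_contra hno
  obtain ⟨ρ, hρ, h1, hfix⟩ := exists_rightAction C D i
  have hs := resCoset_surjective (C.hom D i) (hom_surjective C D i)
  have hrad : ∀ a, (RingHom.ker (resCoset (C.hom D i) a)).IsRadical := fun a z ⟨n, hn⟩ => by
    rw [RingHom.mem_ker, map_pow] at hn
    exact (IsNilpotent.eq_zero ⟨n, hn⟩ :)
  have h := thmAbiv H hH C.A ρ hρ inferInstance _ _ (hrad pone) (hrad g)
    (isStable_ker_resCoset C D i ρ h1 pone (hs _)) (isStable_ker_resCoset C D i ρ h1 g (hs g))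
    (sup_ker_resCoset (C.hom D i) (hom_surjective C D i) hno)
  obtain ⟨a, ha, b, hb, hab⟩ := Submodule.mem_sup.mp ((Ideal.eq_top_iff_one _).mp h)
  have ha0 : resCoset (C.hom D i) pone (a : C.A) = 0 := ha
  have hb0 : resCoset (C.hom D i) g (b : C.A) = 0 := hb
  have hpt : ∀ (y : C.A →ₐ[k] k) (z : C.A), (pone : D.A →ₐ[k] k) (resCoset (C.hom D i) y z) = y z := fun y z => by
    show ((pone : D.A →ₐ[k] k).comp (C.hom D i : C.A →ₐ[k] D.A)) (lTr y z) = y z
    rw [show (pone : D.A →ₐ[k] k).comp (C.hom D i : C.A →ₐ[k] D.A) = pone from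
      AlgHom.ext fun a => CoalgHomClass.counit_comp_apply (C.hom D i) a, apply_lTr, pmul_pone]
  have e1 : (pone : C.A →ₐ[k] k) (a : C.A) = 0 := by rw [← hpt, ha0, map_zero]
  have e2 : g (b : C.A) = 0 := by rw [← hpt, hb0, map_zero]
  have e3 := hg (a : C.A) ((hfix _).mp a.2) pone
  rw [pone_pmul, e1] at e3
  have e4 : g ((a : C.A) + (b : C.A)) = 1 := by
    rw [← Subalgebra.coe_add, hab, Subalgebra.coe_one, map_one]
  rw [map_add, e3, e2, add_zero] at e4
  exact zero_ne_one e4

/-- An epimorphism of schemes is injective on functions. -/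
theorem appTop_injective_of_epi {P X : Scheme.{u}} (p : P ⟶ X) [Epi p] : Function.Injective p.appTop := by
  intro a b hab
  let R := CommRingCat.of (Polynomial (ULift.{u} ℤ))
  have hm : ∀ x : Γ(X, ⊤), ∃ m : X ⟶ Spec R, (Scheme.ΓSpecIso R).inv ≫ m.appTop =
      CommRingCat.ofHom (Polynomial.eval₂RingHom ((Int.castRingHom Γ(X, ⊤)).comp ULift.ringEquiv.toRingHom) x) :=
    fun x => ⟨X.toSpecΓ ≫ Spec.map (CommRingCat.ofHom (Polynomial.eval₂RingHom
      ((Int.castRingHom Γ(X, ⊤)).comp ULift.ringEquiv.toRingHom) x) : R ⟶ Γ(X, ⊤)), by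
      rw [Scheme.Hom.comp_appTop, Scheme.toSpecΓ_appTop, Scheme.ΓSpecIso_naturality, Iso.inv_hom_id_assoc]⟩
  obtain ⟨m, hma⟩ := hm a
  obtain ⟨m', hmb⟩ := hm b
  have e : p ≫ m = p ≫ m' := by
    refine ext_of_isAffine ?_
    rw [← cancel_epi (Scheme.ΓSpecIso R).inv, Scheme.Hom.comp_appTop, Scheme.Hom.comp_appTop, reassoc_of% hma,
      reassoc_of% hmb]
    refine CommRingCat.hom_ext (Polynomial.ringHom_ext' (RingHom.ext fun z => ?_) ?_)
    · obtain ⟨z⟩ := z
      simp
    · show p.appTop (Polynomial.eval₂ _ a Polynomial.X) = p.appTop (Polynomial.eval₂ _ b Polynomial.X)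
      rw [Polynomial.eval₂_X, Polynomial.eval₂_X, hab]
  rw [cancel_epi] at e
  subst e
  have h := congrArg (fun f => f.hom (Polynomial.X : Polynomial (ULift.{u} ℤ))) (hma.symm.trans hmb)
  refine ((Polynomial.eval₂_X _ a).symm.trans h).trans (Polynomial.eval₂_X _ b)

theorem fg_and_affine_of_reductive (hH : VecGrp.IsReductiveGrp k H) (thmA : VecGrp.ReductiveInvariantsFG k)
    (thmAbi : AGF.ReductiveQuotSurj k) (thmAbiv : AGF.ReductiveQuotSeparates k)
    (X : Over (Spec (CommRingCat.of k))) (a : AlgGrp.Action G X) (o : 𝟙_ (Over (Spec (CommRingCat.of k))) ⟶ X)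
    (hX : AGF.IsQuotient i X a o) : AGF.SubringFGOver k G (AGF.rTransInv i) ∧ IsAffine X.left := by
  classical
  obtain ⟨C⟩ := nonempty_chart G
  obtain ⟨D⟩ := nonempty_chart H
  haveI := finiteType_chart C
  haveI := isReduced_chart C
  obtain ⟨ρ, hρ, -, hfix⟩ := exists_rightAction C D i
  let e := AlgEquiv.ofBijective C.fn (fn_bijective C)
  have hmem : ∀ f, f ∈ AGF.rTransInv i ↔ C.fn f ∈ ρ.fixedSubalgebra hρ (𝟙 H) := fun f => by
    rw [AGF.mem_rTransInv_iff, isRTransInv_iff_inv C D, hfix]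
  constructor
  · obtain ⟨t, ht, hle⟩ := thmA H hH C.A ρ hρ inferInstance
    refine ⟨t.image e.symm, fun f hf => ?_, fun f hf => ?_⟩
    · obtain ⟨z, hz, rfl⟩ := Finset.mem_image.mp (Finset.mem_coe.mp hf)
      rw [SetLike.mem_coe, hmem, show C.fn (e.symm z) = z from e.apply_symm_apply z]
      exact ht hz
    · have h1 : C.fn f ∈ Algebra.adjoin k (t : Set C.A) := hle ((hmem f).mp hf)
      have h2 : f ∈ Algebra.adjoin k ((t.image e.symm : Finset Γ(G.left, ⊤)) : Set Γ(G.left, ⊤)) := by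
        rw [Finset.coe_image, show ((e.symm : C.A → Γ(G.left, ⊤)) '' (t : Set C.A)) =
          (e.symm.toAlgHom : C.A → Γ(G.left, ⊤)) '' (t : Set C.A) from rfl, ← AlgHom.map_adjoin]
        exact ⟨C.fn f, h1, e.symm_apply_apply f⟩
      rw [← Subalgebra.mem_toSubring, Algebra.adjoin_eq_ring_closure] at h2
      exact h2
  haveI := isQuasiAffine_of_observable i X a o hX (isObservableIn_of_reductive i hH thmAbiv)
  obtain ⟨-, hfl, hsu, hpb⟩ := hX
  set p := a.orbitMap o
  haveI : Flat p.left := hfl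
  haveI : Surjective p.left := hsu
  haveI : QuasiCompact p.left := inferInstance
  have hinv : ∀ ψ : Γ(X.left, ⊤), AGF.IsRTransInv i (AGFObs.Γmap p ψ) := fun ψ => by
    show AGFObs.Γmap ((G ◁ i) ≫ μ[G]) (AGFObs.Γmap p ψ) = AGFObs.Γmap (fst G H) (AGFObs.Γmap p ψ)
    rw [← AlgHom.comp_apply, ← AGFObs.Γmap_comp, ← AlgHom.comp_apply, ← AGFObs.Γmap_comp, hpb.w]
  let φ : Γ(X.left, ⊤) →ₐ[k] ↥(ρ.fixedSubalgebra hρ (𝟙 H)) :=
    (C.fn.comp (AGFObs.Γmap p)).codRestrict _ fun ψ => (hmem _).mp (hinv ψ)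
  have hφ : Function.Bijective φ := by
    haveI : Epi p.left := inferInstance
    constructor
    · intro x y h
      exact appTop_injective_of_epi p.left ((fn_bijective C).1 (congrArg Subtype.val h))
    · intro z
      obtain ⟨f, hf⟩ := (fn_bijective C).2 (z : C.A)
      have hf' : AGF.IsRTransInv i f := (AGF.mem_rTransInv_iff i f).mp ((hmem f).mpr (hf ▸ z.2))
      obtain ⟨ψ, hψ⟩ := exists_descend p.left (hpb.map (Over.forget _)) f hf'.symm
      exact ⟨ψ, Subtype.ext (by show C.fn (p.left.appTop ψ) = z; rw [hψ, hf])⟩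
  let eφ := AlgEquiv.ofBijective φ hφ
  have hsurj : Function.Surjective X.left.toSpecΓ := by
    intro P
    let q : Ideal ↥(ρ.fixedSubalgebra hρ (𝟙 H)) := Ideal.comap eφ.symm.toAlgHom P.asIdeal
    haveI hq : q.IsPrime := Ideal.IsPrime.comap _
    obtain ⟨P', hP', hPq⟩ := thmAbi H hH C.A ρ hρ inferInstance q hq
    haveI := hP'
    let Q : PrimeSpectrum Γ(G.left, ⊤) := ⟨Ideal.comap C.fn P', Ideal.IsPrime.comap _⟩
    refine ⟨p.left (G.left.isoSpec.inv Q), ?_⟩
    have hnat : G.left.toSpecΓ ≫ Spec.map p.left.appTop = p.left ≫ X.left.toSpecΓ :=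
      (Scheme.toSpecΓ_naturality p.left).symm
    rw [← Scheme.Hom.comp_apply, ← hnat, Scheme.Hom.comp_apply]
    have hQ : G.left.toSpecΓ (G.left.isoSpec.inv Q) = Q := by
      rw [← Scheme.Hom.comp_apply]
      exact congrArg (fun f : Spec Γ(G.left, ⊤) ⟶ Spec Γ(G.left, ⊤) => f Q) G.left.isoSpec.inv_hom_id
    rw [hQ]
    refine PrimeSpectrum.ext ?_
    show Ideal.comap p.left.appTop.hom (Ideal.comap C.fn P') = P.asIdeal
    ext ψ
    have h1 : φ ψ ∈ q ↔ C.fn (AGFObs.Γmap p ψ) ∈ P' := by rw [← hPq]; rfl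
    have h2 : φ ψ ∈ q ↔ ψ ∈ P.asIdeal := by
      show eφ.symm (φ ψ) ∈ P.asIdeal ↔ _
      rw [show φ ψ = eφ ψ from rfl, AlgEquiv.symm_apply_apply]
    exact h1.symm.trans h2
  haveI : IsIso X.left.toSpecΓ := (isIso_iff_isOpenImmersion_and_surjective _).mpr ⟨inferInstance, ⟨hsurj⟩⟩
  exact ⟨inferInstance⟩

end Groth.Agent.ObsLib
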