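import Groth.Agent.ObsLib.FinIndex
import Groth.Agent.LieKolchin.Points
import Groth.Agent.ObsLib.IdComp
import Mathlib

/-! Subgroups of solvable groups are observable. -/

set_option autoImplicit false
set_option backward.isDefEq.respectTransparency false
set_option linter.style.haveILetI false

universe u

open CategoryTheory MonoidalCategory CartesianMonoidalCategory MonObj AlgebraicGeometry WithConv
open scoped TensorProduct

noncomputable section

namespace Groth.Agent.ObsLib

open Comodule (ptAct)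

attribute [local instance] AGFObs.algΓ

variable {k : Type u} [Field k] [IsAlgClosed k]

section Hopf

variable {A B : Type u} [CommRing A] [HopfAlgebra k A] [CommRing B] [HopfAlgebra k B] (π : A →ₐc[k] B)
  [Algebra.FiniteType k A] [IsReduced A] [Algebra.FiniteType k B] [IsReduced B]

/-- Every weight of a semi-invariant is the restriction of a group-like element. -/
theorem exists_groupLike [IsDomain A] [Group.IsSolvable (WithConv (A →ₐ[k] k))] {χ : B} {f : A}
    (hf : IsSemi (π : A →ₐ[k] B) χ f) (hf0 : f ≠ 0) : ∃ θ : A, IsGroupLikeElem k θ ∧ π θ = χ := by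
  classical
  have hconn : ∀ e : A, IsIdempotentElem e → e = 0 ∨ e = 1 := fun e he => IsIdempotentElem.iff_eq_zero_or_one.mp he
  obtain ⟨V, _, _, _, c, v, hv0, hv⟩ := exists_vector_of_semi π hf hf0
  let L : (V →ₗ[k] k) →ₗ[k] A :=
    { toFun := fun l => mcoef c l v
      map_add' := fun l l' => by
        show TensorProduct.lid k A ((l + l').rTensor A (c.coact v)) = _
        rw [LinearMap.rTensor_add, LinearMap.add_apply, map_add]; rfl
      map_smul' := fun r l => by
        show TensorProduct.lid k A ((r • l).rTensor A (c.coact v)) = _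
        rw [LinearMap.rTensor_smul, LinearMap.smul_apply, map_smul]; rfl }
  let W : Submodule k A := LinearMap.range L
  haveI : Module.Finite k W := inferInstance
  have hsemi : ∀ w ∈ W, IsSemi (π : A →ₐ[k] B) χ w := by
    rintro _ ⟨l, rfl⟩
    show (π : A →ₐ[k] B).toLinearMap.lTensor A (Coalgebra.comul (R := k) (mcoef c l v)) = _
    rw [comul_mcoef, ComodTens.lTensor_rTensor_comm,
      show (π : A →ₐ[k] B).toLinearMap.lTensor V (c.coact v) = v ⊗ₜ[k] χ from hv, LinearMap.rTensor_tmul]
    rfl
  haveI : Nontrivial W := by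
    obtain ⟨l, hl⟩ : ∃ l : V →ₗ[k] k, l v ≠ 0 := by
      by_contra h
      push Not at h
      exact hv0 ((Module.forall_dual_apply_eq_zero_iff k v).mp h)
    refine ⟨⟨⟨L l, ⟨l, rfl⟩⟩, 0, fun h => hl ?_⟩⟩
    rw [← counit_mcoef c l v, show mcoef c l v = 0 from congrArg Subtype.val h, map_zero]
  have hW : ∀ (g : A →ₐ[k] k), ∀ w ∈ W, lTr g w ∈ W := by
    rintro g _ ⟨l, rfl⟩
    refine ⟨l ∘ₗ (TensorProduct.rid k V).toLinearMap ∘ₗ g.toLinearMap.lTensor V ∘ₗ c.coact, ?_⟩
    refine sub_eq_zero.mp (eq_zero_of_pts (k := k) fun y => ?_)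
    rw [map_sub, apply_lTr, sub_eq_zero]
    have e1 : pmul g y (L l) = TensorProduct.lid k k ((y.toLinearMap ∘ₗ LinearMap.id).lTensor k (TensorProduct.map
        ((g : A →ₐ[k] k).toLinearMap ∘ₗ mcoef c l) LinearMap.id (c.coact v))) := by
      show Algebra.TensorProduct.lift g y (fun _ _ => mul_comm _ _) (Coalgebra.comul (R := k) (mcoef c l v)) = _
      rw [comul_mcoef]
      induction c.coact v with
      | zero => simp
      | add p q hp hq => simp only [map_add, hp, hq]
      | tmul p q => simp
    have e2 : y (L (l ∘ₗ (TensorProduct.rid k V).toLinearMap ∘ₗ g.toLinearMap.lTensor V ∘ₗ c.coact)) =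
        TensorProduct.lid k k ((y.toLinearMap ∘ₗ LinearMap.id).lTensor k (TensorProduct.map
        ((g : A →ₐ[k] k).toLinearMap ∘ₗ mcoef c l) LinearMap.id (c.coact v))) := by
      show y (TensorProduct.lid k A ((l ∘ₗ (TensorProduct.rid k V).toLinearMap ∘ₗ g.toLinearMap.lTensor V ∘ₗ c.coact).rTensor A (c.coact v))) = _
      induction c.coact v with
      | zero => simp
      | add p q hp hq => simp only [map_add, hp, hq]
      | tmul p q =>
        have key : ∀ z : V ⊗[k] A, l (TensorProduct.rid k V (g.toLinearMap.lTensor V z)) =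
            g (TensorProduct.lid k A (l.rTensor A z)) := by
          intro z
          induction z with
          | zero => simp
          | add a b ha hb => simp only [map_add, ha, hb]
          | tmul a b => simp [mul_comm]
        simp [key, mcoef]
    rw [e2, e1]
  let ρ : WithConv (A →ₐ[k] k) →* Module.End k W :=
    { toFun := fun g => ((lTr (g⁻¹).ofConv).toLinearMap).restrict (fun w hw => hW _ w hw)
      map_one' := LinearMap.ext fun w => Subtype.ext (sub_eq_zero.mp (eq_zero_of_pts (k := k) fun y => by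
        rw [map_sub, sub_eq_zero]
        show y (lTr (1 : WithConv (A →ₐ[k] k))⁻¹.ofConv (w : A)) = y (w : A)
        rw [apply_lTr, inv_one, ← pone_eq, pone_pmul]))
      map_mul' := fun g h => LinearMap.ext fun w => Subtype.ext (sub_eq_zero.mp (eq_zero_of_pts (k := k) fun y => by
        rw [map_sub, sub_eq_zero]
        show y (lTr ((g * h)⁻¹).ofConv (w : A)) = y (lTr (g⁻¹).ofConv (lTr (h⁻¹).ofConv (w : A)))
        rw [apply_lTr, apply_lTr, apply_lTr, mul_inv_rev, ofConv_mul_pts, pmul_assoc])) }
  have hcoef : ∀ (φ : W →ₗ[k] k) (w : W), (fun g => φ (ρ g w)) ∈ LieKolchin.regFun k A := by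
    intro φ w
    obtain ⟨Φ, hΦ⟩ := LinearMap.exists_extend φ
    refine ⟨HopfAlgebra.antipode k (TensorProduct.rid k A (Φ.lTensor A (Coalgebra.comul (R := k) (w : A)))), funext fun g => ?_⟩
    have h1 : φ (ρ g w) = Φ (lTr (g⁻¹).ofConv (w : A)) := (LinearMap.congr_fun hΦ (ρ g w)).symm
    rw [h1]
    show g.ofConv (HopfAlgebra.antipode k _) = Φ (Algebra.TensorProduct.lift ((Algebra.ofId k A).comp (g⁻¹).ofConv)
      (AlgHom.id k A) (fun _ _ => mul_comm _ _) (Coalgebra.comul (R := k) (w : A)))
    induction Coalgebra.comul (R := k) (w : A) with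
    | zero => simp
    | add p q hp hq => simp only [map_add, hp, hq]
    | tmul p q =>
      rw [LinearMap.lTensor_tmul, TensorProduct.rid_tmul, map_smul, map_smul, Algebra.TensorProduct.lift_tmul]
      show Φ q • g.ofConv (HopfAlgebra.antipode k p) = Φ (algebraMap k A ((g⁻¹).ofConv p) * q)
      rw [← Algebra.smul_def, map_smul, smul_eq_mul, smul_eq_mul, mul_comm]
      rfl
  obtain ⟨w, hw0, hw⟩ := LieKolchin.exists_eigen LieKolchin.wordClosed_regFun (LieKolchin.conn_top hconn) ρ hcoef
  set f₀ : A := (w : A)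
  have heig : ∀ a : A →ₐ[k] k, ∃ r : k, ∀ y : A →ₐ[k] k, pmul a y f₀ = r * y f₀ := fun a => by
    obtain ⟨r, hr⟩ := hw (toConv a)⁻¹
    refine ⟨r, fun y => ?_⟩
    have h1 := congrArg (fun z : W => y (z : A)) hr
    simp only [SetLike.val_smul, map_smul, smul_eq_mul] at h1
    rw [← h1]
    show _ = y (lTr ((toConv a)⁻¹⁻¹).ofConv f₀)
    rw [inv_inv, apply_lTr]
  have h10 : (pone : A →ₐ[k] k) f₀ ≠ 0 := fun h => hw0 (Subtype.ext (eq_zero_of_pts (k := k) fun a => by
    obtain ⟨r, hr⟩ := heig a
    have := hr pone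
    rwa [pmul_pone, h, mul_zero] at this))
  let θ : A := ((pone : A →ₐ[k] k) f₀)⁻¹ • f₀
  have hval : ∀ a : A →ₐ[k] k, a θ = ((pone : A →ₐ[k] k) f₀)⁻¹ * a f₀ := fun a => by
    rw [map_smul, smul_eq_mul]
  have hmul : ∀ a y : A →ₐ[k] k, pmul a y θ = a θ * y θ := fun a y => by
    obtain ⟨r, hr⟩ := heig a
    have h1 := hr pone
    rw [pmul_pone] at h1
    rw [hval, hval, hval, hr y, h1]
    field_simp
  have h1θ : (pone : A →ₐ[k] k) θ = 1 := by rw [hval, inv_mul_cancel₀ h10]
  refine ⟨θ, IsGroupLikeElem.mk h1θ (eq_of_pts_tensor (k := k) fun a y => ?_), sub_eq_zero.mp (eq_zero_of_pts (k := k) fun h => ?_)⟩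
  · rw [Algebra.TensorProduct.lift_tmul]
    exact hmul a y
  · rw [map_sub, sub_eq_zero]
    have h2 := isSemi_apply (hsemi f₀ w.2) (pone : A →ₐ[k] k) h
    rw [pone_pmul] at h2
    show h.comp (π : A →ₐ[k] B) θ = h χ
    rw [hval, h2, ← _root_.mul_assoc, inv_mul_cancel₀ h10, _root_.one_mul]

theorem obs_of_solvable (hπ : Function.Surjective π) [IsDomain A] [Group.IsSolvable (WithConv (A →ₐ[k] k))] :
    Obs π := by
  refine obs_of_extends π hπ fun V _ _ _ d => exists_extension π hπ (fun χ ψ hψ f hf hf0 => ?_) d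
  obtain ⟨θ, hθ, rfl⟩ := exists_groupLike π hf hf0
  refine ⟨HopfAlgebra.antipode k θ, fun h => one_ne_zero (α := A) ?_, ?_⟩
  · rw [← hθ.antipode_mul_cancel, h, zero_mul]
  · have hinv : ψ = π (HopfAlgebra.antipode k θ) := left_inv_eq_right_inv hψ (by
      rw [← map_mul, mul_comm, hθ.antipode_mul_cancel, map_one])
    show (π : A →ₐ[k] B).toLinearMap.lTensor A (Coalgebra.comul (R := k) (HopfAlgebra.antipode k θ)) = _
    rw [hθ.antipode.comul_eq_tmul_self, LinearMap.lTensor_tmul, hinv]
    rfl

end Hopf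

variable {G H : Over (Spec (CommRingCat.of k))} [GrpObj G] [GrpObj H]

theorem isObservableIn_of_solvable_connected [IsAffine G.left] [Smooth G.hom] [ConnectedSpace G.left] [Smooth H.hom]
    (i : H ⟶ G) [IsMonHom i] [IsClosedImmersion i.left] {n : ℕ}
    (hs : derivedSeries (VecGrp.pt k k ⟶ G) n = ⊥) : AGF.IsObservableIn k i := by
  haveI : IsAffine H.left := isAffine_of_isAffineHom i.left
  obtain ⟨C⟩ := nonempty_chart G
  obtain ⟨D⟩ := nonempty_chart H
  haveI := finiteType_chart C
  haveI := isReduced_chart C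
  haveI := finiteType_chart D
  haveI := isReduced_chart D
  haveI : IrreducibleSpace G.left := GrpSchLib.irreducibleSpace_of_connectedSpace
  haveI := ASp.isReduced_of_smooth G.hom
  haveI : IsIntegral G.left := isIntegral_of_irreducibleSpace_of_isReduced G.left
  haveI : Nonempty (⊤ : G.left.Opens) := ⟨⟨Classical.arbitrary _, trivial⟩⟩
  let e := AlgEquiv.ofBijective C.fn (fn_bijective C)
  haveI : IsDomain C.A := e.toMulEquiv.isDomain_iff.mp inferInstance
  let E : WithConv (C.A →ₐ[k] k) →* (VecGrp.pt k k ⟶ G) := MonoidHom.mk' (fun x => C.pt x.ofConv) fun x y => by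
    rw [ofConv_mul_pts, pt_pmul]
  haveI : Group.IsSolvable (VecGrp.pt k k ⟶ G) := ⟨n, hs⟩
  haveI : Group.IsSolvable (WithConv (C.A →ₐ[k] k)) :=
    solvable_of_solvable_injective (f := E) fun x y h => WithConv.ofConv_injective ((pt_bijective C).1 h)
  exact (isObservableIn_iff C D i).mpr (obs_of_solvable _ (hom_surjective C D i))

/-- Subgroups of solvable groups are observable. -/
theorem isObservableIn_of_solvable [IsAffine G.left] [Smooth G.hom] [Smooth H.hom] (i : H ⟶ G) [IsMonHom i]
    [IsClosedImmersion i.left] (hs : Red.IsSolvableGrp G) : AGF.IsObservableIn k i := by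
  obtain ⟨n, hn⟩ := hs
  haveI : IsAffine H.left := isAffine_of_isAffineHom i.left
  obtain ⟨G₀, _, jG, _, _, hrG⟩ := exists_identityComponent G
  obtain ⟨H₀, _, jH, _, _, hrH⟩ := exists_identityComponent H
  haveI : ConnectedSpace G₀.left := by
    haveI : Nonempty G₀.left := ⟨(η[G₀]).left (IsLocalRing.closedPoint k)⟩
    haveI : PreconnectedSpace G₀.left := by
      refine ⟨jG.left.isEmbedding.isInducing.isPreconnected_image.1 ?_⟩
      rw [Set.image_univ]
      show _root_.IsPreconnected (Set.range ⇑jG.left.base)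
      rw [hrG]
      exact isPreconnected_connectedComponent
    exact ⟨inferInstance⟩
  haveI : ConnectedSpace H₀.left := by
    haveI : Nonempty H₀.left := ⟨(η[H₀]).left (IsLocalRing.closedPoint k)⟩
    haveI : PreconnectedSpace H₀.left := by
      refine ⟨jH.left.isEmbedding.isInducing.isPreconnected_image.1 ?_⟩
      rw [Set.image_univ]
      show _root_.IsPreconnected (Set.range ⇑jH.left.base)
      rw [hrH]
      exact isPreconnected_connectedComponent
    exact ⟨inferInstance⟩
  have hsub : Set.range (jH ≫ i).left ⊆ Set.range jG.left := by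
    show Set.range (jH ≫ i).left ⊆ Set.range ⇑jG.left.base
    rw [hrG]
    refine (isPreconnected_range (jH ≫ i).left.continuous).subset_connectedComponent
      ⟨(η[H₀]).left (IsLocalRing.closedPoint k), ?_⟩
    rw [← Scheme.Hom.comp_apply, ← Over.comp_left, IsMonHom.one_hom]
  let i₀ : H₀ ⟶ G₀ := Over.homMk (IsOpenImmersion.lift jG.left (jH ≫ i).left hsub) (by
    rw [← Over.w jG, IsOpenImmersion.lift_fac_assoc, Over.w])
  have hc : i₀ ≫ jG = jH ≫ i := Over.OverMorphism.ext (IsOpenImmersion.lift_fac _ _ _)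
  haveI : Mono jG := (Over.forget _).mono_of_mono_map (inferInstanceAs (Mono jG.left))
  haveI : IsMonHom i₀ :=
    { one_hom := by rw [← cancel_mono jG, Category.assoc, hc, IsMonHom.one_hom (jH ≫ i), IsMonHom.one_hom jG]
      mul_hom := by
        rw [← cancel_mono jG, Category.assoc, hc, IsMonHom.mul_hom (jH ≫ i), Category.assoc, IsMonHom.mul_hom jG,
          tensorHom_comp_tensorHom_assoc, hc] }
  rw [isObservableIn_iff_identityComponent i jG jH i₀ hc]
  haveI := isClosedImmersion_of_open jG
  haveI := isClosedImmersion_of_open jH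
  haveI : IsAffine G₀.left := isAffine_of_isAffineHom jG.left
  haveI : Smooth G₀.hom := by rw [← Over.w jG]; infer_instance
  haveI : Smooth H₀.hom := by rw [← Over.w jH]; infer_instance
  haveI : IsClosedImmersion i₀.left := by
    have : IsClosedImmersion (i₀.left ≫ jG.left) := by rw [← Over.comp_left, hc, Over.comp_left]; infer_instance
    exact IsClosedImmersion.of_comp i₀.left jG.left
  refine isObservableIn_of_solvable_connected i₀ (n := n) ?_
  have h := map_derivedSeries_le_derivedSeries (IsMonHom.monoidHom jG (VecGrp.pt k k)) n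
  rw [hn, le_bot_iff] at h
  exact (Subgroup.map_eq_bot_iff_of_injective _ fun x y h => (cancel_mono jG).mp h).mp h

end Groth.Agent.ObsLib
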