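import Groth.Agent.ObsLib.Extend

/-! Observable subgroups, stabilisers of vectors and extension of comodules. -/

set_option autoImplicit false

universe u

open scoped TensorProduct

noncomputable section

namespace Groth.Agent.ObsLib

open Comodule

variable {k : Type u} [Field k] {A B : Type u} [CommRing A] [HopfAlgebra k A] [CommRing B] [HopfAlgebra k B]
  (π : A →ₐc[k] B)

/-- Inverse of a group-like element as a comodule extends, and gives a semi-invariant line. -/
abbrev Extends : Prop :=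
  ∀ (V : Type u) [AddCommGroup V] [Module k V] [Module.Finite k V] (d : HopfRep.Comod k B V),
    ∃ (W : Type u) (_ : AddCommGroup W) (_ : Module k W) (c : HopfRep.Comod k A W) (_ : Module.Finite k W)
      (φ : V →ₗ[k] W), Function.Injective φ ∧
        ∀ v, (π : A →ₗ[k] B).lTensor W (c.coact (φ v)) = φ.rTensor B (d.coact v)

/-- A rational point fixing a vector. -/
abbrev Fixes {V : Type u} [AddCommGroup V] [Module k V] (c : HopfRep.Comod k A V) (v : V) (g : A →ₐ[k] k) : Prop :=
  ptAct c g v = v ⊗ₜ[k] (1 : k)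

theorem fixes_of_mem {V : Type u} [AddCommGroup V] [Module k V] {c : HopfRep.Comod k A V} {v : V}
    (hv : ptAct c (π : A →ₐ[k] B) v = v ⊗ₜ[k] (1 : B)) (h : B →ₐ[k] k) : Fixes c v (h.comp (π : A →ₐ[k] B)) := by
  show (h.toLinearMap ∘ₗ (π : A →ₐ[k] B).toLinearMap).lTensor V (c.coact v) = _
  rw [LinearMap.lTensor_comp_apply,
    show (π : A →ₐ[k] B).toLinearMap.lTensor V (c.coact v) = v ⊗ₜ[k] (1 : B) from hv, LinearMap.lTensor_tmul,
    AlgHom.toLinearMap_apply, map_one]

theorem obs_of_stab {V : Type u} [AddCommGroup V] [Module k V] (c : HopfRep.Comod k A V) (v : V)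
    (hv : ptAct c (π : A →ₐ[k] B) v = v ⊗ₜ[k] (1 : B))
    (hst : ∀ g, Fixes c v g → ∃ h : B →ₐ[k] k, h.comp (π : A →ₐ[k] B) = g) : Obs π := by
  intro g hg
  refine hst g ?_
  apply (TensorProduct.rid k V).injective
  refine sub_eq_zero.mp ((Module.forall_dual_apply_eq_zero_iff k _).mp fun l => ?_)
  rw [map_sub, sub_eq_zero, TensorProduct.rid_tmul, one_smul]
  have hf : Inv π (mcoef c l v) := by
    show (π : A →ₐ[k] B).toLinearMap.lTensor A (Coalgebra.comul (R := k) (mcoef c l v)) = _
    rw [comul_mcoef, ComodTens.lTensor_rTensor_comm,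
      show (π : A →ₐ[k] B).toLinearMap.lTensor V (c.coact v) = v ⊗ₜ[k] (1 : B) from hv, LinearMap.rTensor_tmul]
  have h1 := hg _ hf pone
  rw [pone_pmul] at h1
  have key : ∀ z : V ⊗[k] A, l (TensorProduct.rid k V (g.toLinearMap.lTensor V z)) =
      g (TensorProduct.lid k A (l.rTensor A z)) := by
    intro z
    induction z with
    | zero => simp
    | add p q hp hq => simp only [map_add, hp, hq]
    | tmul p q => simp [mul_comm]
  refine (key _).trans ?_
  show g (mcoef c l v) = _
  rw [h1]
  exact counit_mcoef c l v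

variable [IsAlgClosed k] [Algebra.FiniteType k B] [IsReduced B]

theorem obs_of_stab_pts {V : Type u} [AddCommGroup V] [Module k V] (c : HopfRep.Comod k A V) (v : V)
    (hst : ∀ g, Fixes c v g ↔ ∃ h : B →ₐ[k] k, h.comp (π : A →ₐ[k] B) = g) : Obs π := by
  refine obs_of_stab π c v ?_ fun g => (hst g).mp
  rw [← sub_eq_zero]
  let b := Module.Free.chooseBasis k V
  apply (TensorProduct.equivFinsuppOfBasisLeft b).injective
  rw [map_zero]
  refine Finsupp.ext fun j => ?_
  rw [Finsupp.zero_apply]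
  refine eq_zero_of_pts (k := k) fun h => ?_
  have h0 := (hst _).mpr ⟨h, rfl⟩
  have h1 : h.toLinearMap.lTensor V (ptAct c (π : A →ₐ[k] B) v - v ⊗ₜ[k] (1 : B)) = 0 := by
    rw [map_sub, sub_eq_zero, LinearMap.lTensor_tmul, AlgHom.toLinearMap_apply, map_one, ← h0]
    exact (LinearMap.lTensor_comp_apply _ _ _ _).symm
  have key : ∀ z : V ⊗[k] B, h (TensorProduct.equivFinsuppOfBasisLeft b z j) =
      TensorProduct.lid k k ((b.coord j).rTensor k (h.toLinearMap.lTensor V z)) := by
    intro z
    induction z with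
    | zero => simp
    | add p q hp hq => simp only [map_add, Finsupp.add_apply, hp, hq]
    | tmul p q => simp [TensorProduct.equivFinsuppOfBasisLeft]
  rw [key, h1]
  simp

variable [Algebra.FiniteType k A] [IsReduced A]

theorem exists_stab_of_separates {s : Finset A} (hs : Separates π s) :
    ∃ (V : Type u) (_ : AddCommGroup V) (_ : Module k V) (_ : Module.Finite k V) (c : HopfRep.Comod k A V) (v : V),
      ∀ g, Fixes c v g ↔ ∃ h : B →ₐ[k] k, h.comp (π : A →ₐ[k] B) = g := by
  classical
  let V₀ : Submodule k A := (Submodule.span (WithConv (A →ₗ[k] k)) (s : Set A)).restrictScalars k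
  haveI : Module.Finite k V₀ := finite_span_of_finite s.finite_toSet
  have hV₀ : HopfRep.IsSubcomod (k := k) (A := A) V₀ := isSubcomod_restrictScalars _
  let ι := (s : Set A)
  haveI : Fintype ι := inferInstanceAs (Fintype (s : Set A))
  let c := ComodTens.Comod.pi (k := k) (A := A) (X := fun _ : ι => V₀) fun _ => subComod V₀ hV₀
  let v : ι → V₀ := fun f => ⟨f.1, Submodule.subset_span f.2⟩
  have hproj : ∀ (g : A →ₐ[k] k) (j : ι), (V₀.subtype ∘ₗ (LinearMap.proj j : (ι → V₀) →ₗ[k] V₀)).rTensor k (ptAct c g v) =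
      g.toLinearMap.lTensor A (Coalgebra.comul (R := k) j.1) := by
    intro g j
    rw [ptAct, ← ComodTens.lTensor_rTensor_comm]
    congr 1
    rw [ComodTens.pi_coact, map_sum, Finset.sum_eq_single j]
    · rw [← LinearMap.rTensor_comp_apply, LinearMap.comp_assoc, LinearMap.proj_comp_single_same, LinearMap.comp_id]
      exact rTensor_subCoact V₀ hV₀ (v j)
    · intro l _ hl
      rw [← LinearMap.rTensor_comp_apply, LinearMap.comp_assoc, LinearMap.proj_comp_single_ne _ _ _ _ hl.symm,
        LinearMap.comp_zero, LinearMap.rTensor_zero, LinearMap.zero_apply]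
    · simp
  refine ⟨ι → V₀, inferInstance, inferInstance, inferInstance, c, v, fun g => ⟨fun hg => ?_, ?_⟩⟩
  · obtain ⟨h, hh⟩ := hs.2 pone g fun f hf => by
      have h1 := hproj g ⟨f, hf⟩
      rw [show ptAct c g v = v ⊗ₜ[k] (1 : k) from hg, LinearMap.rTensor_tmul] at h1
      have h2 : IsSemi g (1 : k) f := h1.symm
      have h3 := isSemi_apply h2 (pone : A →ₐ[k] k) (AlgHom.id k k)
      rw [AlgHom.id_comp, pone_pmul, map_one, mul_one] at h3
      exact h3.symm
    exact ⟨h, by rw [hh, pone_pmul]⟩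
  · rintro ⟨h, rfl⟩
    refine sub_eq_zero.mp (AGFObs.eq_zero_of_proj _ fun j => ?_)
    refine (Module.Flat.rTensor_preserves_injective_linearMap (M := k) _ V₀.injective_subtype) ?_
    rw [map_zero, ← LinearMap.rTensor_comp_apply, map_sub, sub_eq_zero, hproj, LinearMap.rTensor_tmul]
    show (h.toLinearMap ∘ₗ (π : A →ₐ[k] B).toLinearMap).lTensor A (Coalgebra.comul (R := k) j.1) = _
    rw [LinearMap.lTensor_comp_apply,
      show (π : A →ₐ[k] B).toLinearMap.lTensor A (Coalgebra.comul (R := k) j.1) = j.1 ⊗ₜ[k] (1 : B) from hs.1 _ j.2,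
      LinearMap.lTensor_tmul, AlgHom.toLinearMap_apply, map_one]
    rfl

theorem obs_of_extends (hπ : Function.Surjective π) (hext : Extends π) : Obs π := by
  haveI : IsNoetherianRing A := Algebra.FiniteType.isNoetherianRing k A
  obtain ⟨V, _, _, c, _, v, -, hv, hstab⟩ := exists_line_trivial_character π (fun χ hχ _ => by
    refine ⟨1, one_pos, HopfAlgebra.antipode k χ, hχ.antipode, by rw [pow_one]; exact hχ.antipode_mul_cancel, ?_⟩
    obtain ⟨W, _, _, c, hW, φ, hφ, h⟩ := hext k (ComodTens.Comod.ofGroupLike (HopfAlgebra.antipode k χ) hχ.antipode)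
    refine ⟨W, inferInstance, inferInstance, c, hW, φ 1, fun h0 => one_ne_zero (hφ (h0.trans (map_zero φ).symm)), ?_⟩
    exact (h 1).trans (by
      show φ.rTensor B ((1 : k) ⊗ₜ[k] HopfAlgebra.antipode k χ) = _
      rw [LinearMap.rTensor_tmul]))
  refine obs_of_stab π c v hv fun g hg => ?_
  have hk := hstab k g ⟨1, hg⟩
  have hle : RingHom.ker (π : A →ₐ[k] B) ≤ RingHom.ker g := fun a ha => hk a ha
  exact ⟨AlgHom.liftOfSurjective (π : A →ₐ[k] B) hπ g hle,
    AlgHom.ext fun a => AlgHom.liftOfSurjective_apply (π : A →ₐ[k] B) hπ g hle a⟩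

end Groth.Agent.ObsLib
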