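import Groth.Agent.ObsLib.FgIndex
import Groth.Agent.ObsLib.Reductive
import Mathlib

/-! The transfer principle. -/

set_option autoImplicit false
set_option backward.isDefEq.respectTransparency false
set_option linter.style.haveILetI false

universe u

open CategoryTheory MonoidalCategory CartesianMonoidalCategory MonObj AlgebraicGeometry WithConv
open scoped TensorProduct

noncomputable section

namespace Groth.Agent.ObsLib

variable {k : Type u} [Field k]

section Lin

variable {C : Type u} [CommRing C] [Algebra k C] {M N : Type u} [AddCommGroup M] [Module k M] [AddCommGroup N]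
  [Module k N]

/-- Evaluation of the right factor. -/
def pev (x : C →ₐ[k] k) : M ⊗[k] C →ₗ[k] M := (TensorProduct.rid k M).toLinearMap ∘ₗ x.toLinearMap.lTensor M

theorem pev_tmul (x : C →ₐ[k] k) (m : M) (c : C) : pev x (m ⊗ₜ[k] c) = x c • m := by simp [pev]

theorem pev_rTensor (x : C →ₐ[k] k) (f : M →ₗ[k] N) (z : M ⊗[k] C) :
    pev x (f.rTensor C z) = f (pev x z) := by
  induction z with
  | zero => simp
  | add p q hp hq => simp only [map_add, hp, hq]
  | tmul p q => simp [pev_tmul]

theorem eq_of_pev [IsAlgClosed k] [Algebra.FiniteType k C] [IsReduced C] {z w : M ⊗[k] C}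
    (h : ∀ x : C →ₐ[k] k, pev x z = pev x w) : z = w := by
  classical
  let bM := Module.Basis.ofVectorSpace k M
  refine (TensorProduct.equivFinsuppOfBasisLeft (N := C) bM).injective (Finsupp.ext fun i => sub_eq_zero.mp (eq_zero_of_pts (k := k) fun x => ?_))
  have e : ∀ v : M ⊗[k] C, x (TensorProduct.equivFinsuppOfBasisLeft bM v i) = bM.repr (pev x v) i := fun v => by
    induction v with
    | zero => simp
    | add p q hp hq => simp only [map_add, Finsupp.add_apply, hp, hq]
    | tmul p q => simp [pev_tmul, mul_comm]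
  rw [map_sub, e, e, h, sub_self]

/-- Evaluation of the right factor, as a map of algebras. -/
def pevA {R : Type u} [CommRing R] [Algebra k R] (x : C →ₐ[k] k) : R ⊗[k] C →ₐ[k] R :=
  (Algebra.TensorProduct.rid k k R).toAlgHom.comp (Algebra.TensorProduct.map (AlgHom.id k R) x)

theorem pevA_eq {R : Type u} [CommRing R] [Algebra k R] (x : C →ₐ[k] k) (z : R ⊗[k] C) : pevA x z = pev x z := by
  induction z with
  | zero => simp
  | add p q hp hq => simp only [map_add, hp, hq]
  | tmul p q => simp [pevA, pev_tmul]

theorem pevA_map {R R' : Type u} [CommRing R] [Algebra k R] [CommRing R'] [Algebra k R'] (x : C →ₐ[k] k)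
    (f : R →ₐ[k] R') (z : R ⊗[k] C) :
    pevA x (Algebra.TensorProduct.map f (AlgHom.id k C) z) = f (pevA x z) := by
  induction z with
  | zero => simp
  | add p q hp hq => simp only [map_add, hp, hq]
  | tmul p q => simp [pevA]

end Lin

variable [IsAlgClosed k] {G H : Over (Spec (CommRingCat.of k))} [GrpObj G] [GrpObj H] (C : Chart G)

theorem exists_algGMod [Algebra.FiniteType k C.A] [IsReduced C.A] {R : Type u} [CommRing R] [Algebra k R]
    (δ : R →ₐ[k] R ⊗[k] C.A) (hone : ∀ r, pev pone (δ r) = r)
    (hmul : ∀ (x y : C.A →ₐ[k] k) r, pev x (δ (pev y (δ r))) = pev (pmul x y) (δ r)) :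
    ∃ (ρ : VecGrp.GMod G R), ρ.IsMult ∧ ∀ (E : Type u) [CommRing E] [Algebra k E] (φ : C.A →ₐ[k] E) (r : R),
      ρ.ρ E (C.pt φ) ((1 : E) ⊗ₜ[k] r) = TensorProduct.comm k R E (φ.toLinearMap.lTensor R (δ r)) := by
  let c : HopfRep.Comod k C.A R :=
    { coact := δ.toLinearMap
      coassoc := LinearMap.ext fun r => (TensorProduct.assoc k R C.A C.A).symm.injective
        (eq_of_pev fun y => eq_of_pev fun x => by
          simp only [LinearMap.comp_apply, LinearEquiv.coe_coe, LinearEquiv.symm_apply_apply]
          rw [pev_rTensor]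
          refine (hmul x y r).trans ?_
          have e : ∀ w : R ⊗[k] C.A, pev (pmul x y) w =
              pev x (pev y ((TensorProduct.assoc k R C.A C.A).symm ((CoalgebraStruct.comul (R := k) (A := C.A)).lTensor R w))) := by
            intro w
            induction w with
            | zero => simp
            | add p q hp hq => simp only [map_add, hp, hq]
            | tmul p q =>
              rw [LinearMap.lTensor_tmul, pev_tmul]
              show Algebra.TensorProduct.lift x y (fun _ _ => mul_comm _ _) (Coalgebra.comul (R := k) q) • p = _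
              induction Coalgebra.comul (R := k) q with
              | zero => simp
              | add a b ha hb => simp only [map_add, add_smul, TensorProduct.tmul_add, ha, hb]
              | tmul a b => simp [pev_tmul, smul_smul, mul_comm]
          exact e (δ r))
      counit_comp := LinearMap.ext fun r => (TensorProduct.rid k R).injective (by
        simp only [LinearMap.comp_apply, LinearMap.flip_apply, TensorProduct.mk_apply, TensorProduct.rid_tmul, one_smul]
        exact hone r) }
  obtain ⟨ρ, hρ⟩ := exists_gmod C c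
  refine ⟨ρ, fun E _ _ h => ?_, hρ⟩
  obtain ⟨φ, rfl⟩ := (pt_bijective C).2 h
  let f : R →ₐ[k] E ⊗[k] R := (Algebra.TensorProduct.comm k R E).toAlgHom.comp
    ((Algebra.TensorProduct.map (AlgHom.id k R) φ).comp δ)
  have h1 : ∀ r, ρ.ρ E (C.pt φ) ((1 : E) ⊗ₜ[k] r) = f r := fun r => by
    rw [hρ]
    show TensorProduct.comm k R E (φ.toLinearMap.lTensor R (δ r)) =
      Algebra.TensorProduct.comm k R E (Algebra.TensorProduct.map (AlgHom.id k R) φ (δ r))
    induction δ r with
    | zero => simp
    | add p q hp hq => simp only [map_add, hp, hq]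
    | tmul p q => simp
  have hsmul : ∀ (b : E) (r : R), ρ.ρ E (C.pt φ) (b ⊗ₜ[k] r) = b • f r := fun b r => by
    rw [← h1, ← map_smul, TensorProduct.smul_tmul', smul_eq_mul, _root_.mul_one]
  refine ⟨fun x y => ?_, ?_⟩
  · induction x using TensorProduct.induction_on with
    | zero => simp
    | add p q hp hq => simp only [add_mul, map_add, hp, hq]
    | tmul b x =>
      induction y using TensorProduct.induction_on with
      | zero => simp
      | add p q hp hq => simp only [mul_add, map_add, hp, hq]
      | tmul b' y => rw [Algebra.TensorProduct.tmul_mul_tmul, hsmul, hsmul, hsmul, map_mul, smul_mul_smul_comm]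
  · rw [Algebra.TensorProduct.one_def, h1, map_one]
    rfl

theorem mem_fixed_iff (D : Chart H) [Algebra.FiniteType k D.A] [IsReduced D.A] (i : H ⟶ G) [IsMonHom i]
    {M : Type u} [AddCommGroup M] [Module k M] (ρ : VecGrp.GMod G M) (c : M →ₗ[k] M ⊗[k] C.A)
    (hc : ∀ (E : Type u) [CommRing E] [Algebra k E] (φ : C.A →ₐ[k] E) (v : M),
      ρ.ρ E (C.pt φ) ((1 : E) ⊗ₜ[k] v) = TensorProduct.comm k M E (φ.toLinearMap.lTensor M (c v))) (a : M) :
    a ∈ ρ.fixedUnder i ↔ ∀ y : D.A →ₐ[k] k, pev (y.comp (C.hom D i : C.A →ₐ[k] D.A)) (c a) = a := by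
  constructor
  · intro ha y
    have h := ha k (D.pt y)
    rw [pt_comp C D, hc] at h
    have h2 := congrArg (TensorProduct.rid k M) ((TensorProduct.comm k M k).injective
      (h.trans (TensorProduct.comm_tmul _ _ _ _ _).symm))
    rw [TensorProduct.rid_tmul, one_smul] at h2
    exact h2
  · intro ha E _ _ h
    obtain ⟨ψ, rfl⟩ := (pt_bijective D).2 h
    have hπ : (C.hom D i : C.A →ₐ[k] D.A).toLinearMap.lTensor M (c a) = a ⊗ₜ[k] (1 : D.A) := eq_of_pev fun y => by
      rw [pev_tmul, map_one, one_smul]
      refine Eq.trans ?_ (ha y)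
      show TensorProduct.rid k M (y.toLinearMap.lTensor M ((C.hom D i : C.A →ₐ[k] D.A).toLinearMap.lTensor M (c a))) = _
      rw [← LinearMap.lTensor_comp_apply]
      rfl
    rw [pt_comp C D, hc, AlgHom.comp_toLinearMap, LinearMap.lTensor_comp_apply, hπ, LinearMap.lTensor_tmul,
      TensorProduct.comm_tmul, AlgHom.toLinearMap_apply, map_one]

section Hopf

variable {A B : Type u} [CommRing A] [HopfAlgebra k A] [CommRing B] [HopfAlgebra k B]

theorem toConv_pinv (x : A →ₐ[k] k) : toConv (pinv x) = (toConv x)⁻¹ := by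
  refine eq_inv_of_mul_eq_one_left ?_
  rw [← toConv_pmul, pinv_pmul, pone_eq, toConv_ofConv]

theorem pinv_mul_rev (x y : A →ₐ[k] k) : pinv (pmul x y) = pmul (pinv y) (pinv x) :=
  WithConv.toConv_injective (by rw [toConv_pinv, toConv_pmul, toConv_pmul, toConv_pinv, toConv_pinv, mul_inv_rev])

theorem pinv_pone : pinv (pone : A →ₐ[k] k) = pone :=
  WithConv.toConv_injective (by rw [toConv_pinv, pone_eq, toConv_ofConv, inv_one])

/-- The coaction of left translation. -/
def lamC : A →ₐ[k] A ⊗[k] A := (Algebra.TensorProduct.comm k A A).toAlgHom.comp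
  ((Algebra.TensorProduct.map (HopfAlgebra.antipodeAlgHom k A) (AlgHom.id k A)).comp (Bialgebra.comulAlgHom k A))

theorem pevA_lamC (x : A →ₐ[k] k) (f : A) : pevA x (lamC f) = lTr (pinv x) f := by
  show pevA x (Algebra.TensorProduct.comm k A A (Algebra.TensorProduct.map (HopfAlgebra.antipodeAlgHom k A) (AlgHom.id k A)
      (Coalgebra.comul (R := k) f))) = Algebra.TensorProduct.lift ((Algebra.ofId k A).comp (pinv x)) (AlgHom.id k A)
        (fun _ _ => mul_comm _ _) (Coalgebra.comul (R := k) f)
  induction Coalgebra.comul (R := k) f with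
  | zero => simp
  | add p q hp hq => simp only [map_add, hp, hq]
  | tmul p q => simp [pevA, pinv, Algebra.ofId_apply, Algebra.smul_def]

variable [Algebra.FiniteType k A] [IsReduced A] [Algebra.FiniteType k B] [IsReduced B] (π : A →ₐc[k] B)

theorem mem_range_tensor_of_semi {V : Type u} [AddCommGroup V] [Module k V] (z : V ⊗[k] A)
    (h : ∀ (x : A →ₐ[k] k) (y : B →ₐ[k] k), pev (pmul x (y.comp (π : A →ₐ[k] B))) z = pev x z) :
    z ∈ LinearMap.range ((invAlg π).val.toLinearMap.lTensor V) := by
  classical
  let bV := Module.Basis.ofVectorSpace k V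
  have e : ∀ (x : A →ₐ[k] k) (v : V ⊗[k] A) i, x (TensorProduct.equivFinsuppOfBasisLeft bV v i) = bV.repr (pev x v) i :=
    fun x v i => by
      induction v with
      | zero => simp
      | add p q hp hq => simp only [map_add, Finsupp.add_apply, hp, hq]
      | tmul p q => simp [pev_tmul, mul_comm]
  have hcoef : ∀ i, TensorProduct.equivFinsuppOfBasisLeft bV z i ∈ invAlg π := fun i => isSemi_of_pts π fun x y => by
    rw [map_one, _root_.mul_one, e, e, h]
  rw [← (TensorProduct.equivFinsuppOfBasisLeft bV).symm_apply_apply z, TensorProduct.equivFinsuppOfBasisLeft_symm_apply]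
  exact Submodule.finsuppSum_mem _ _ _ _ fun i _ => ⟨bV i ⊗ₜ[k] ⟨_, hcoef i⟩, rfl⟩

theorem lamC_mem_range (f : A) (hf : f ∈ invAlg π) :
    lamC f ∈ LinearMap.range ((invAlg π).val.toLinearMap.rTensor A) := by
  obtain ⟨r, hr⟩ := mem_range_tensor_of_semi π (TensorProduct.comm k A A (lamC f)) fun x y => eq_of_pts (k := k) fun g => by
    have e : ∀ (x g : A →ₐ[k] k) (w : A ⊗[k] A), g (pev x (TensorProduct.comm k A A w)) = x (pevA g w) := fun x g w => by
      induction w with
      | zero => simp
      | add p q hp hq => simp only [map_add, hp, hq]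
      | tmul p q => simp [pev_tmul, pevA, mul_comm]
    rw [e, e, pevA_lamC, apply_lTr, apply_lTr, ← pmul_assoc]
    exact inv_apply π hf _ y
  refine ⟨TensorProduct.comm k A (invAlg π) r, (TensorProduct.comm k A A).injective ?_⟩
  rw [← hr]
  clear hr
  induction r using TensorProduct.induction_on with
  | zero => simp
  | add p q hp hq => rw [map_add, map_add, map_add, map_add]; exact congrArg₂ (· + ·) hp hq
  | tmul p q => simp

theorem exists_lamS : ∃ lam : invAlg π →ₐ[k] invAlg π ⊗[k] A, ∀ (x : A →ₐ[k] k) (f : invAlg π),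
    ((pevA x (lam f) : invAlg π) : A) = lTr (pinv x) (f : A) := by
  let inc := Algebra.TensorProduct.map (invAlg π).val (AlgHom.id k A)
  have hinc : ∀ z, inc z = (invAlg π).val.toLinearMap.rTensor A z := fun z => by
    induction z with
    | zero => simp
    | add p q hp hq => simp only [map_add, hp, hq]
    | tmul p q => simp [inc]
  have hinj : Function.Injective inc := fun a b h =>
    Module.Flat.rTensor_preserves_injective_linearMap (invAlg π).val.toLinearMap Subtype.val_injective
      (by rw [← hinc, ← hinc, h])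
  let lam : invAlg π →ₐ[k] invAlg π ⊗[k] A := (AlgEquiv.ofInjective inc hinj).symm.toAlgHom.comp
    ((lamC.comp (invAlg π).val).codRestrict inc.range fun f => by
      obtain ⟨z, hz⟩ := lamC_mem_range π (f : A) f.2
      exact ⟨z, (hinc z).trans hz⟩)
  refine ⟨lam, fun x f => ?_⟩
  have h1 : inc (lam f) = lamC (f : A) := by
    show ((AlgEquiv.ofInjective inc hinj) (lam f) : A ⊗[k] A) = _
    simp [lam]
  rw [← pevA_lamC, ← h1, pevA_map]
  rfl

end Hopf

variable [IsAffine G.left] [Smooth G.hom] [IsAffine H.left] [Smooth H.hom]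

theorem transfer_principle (i : H ⟶ G) [IsMonHom i] (hG : VecGrp.IsReductiveGrp k G)
    (thmA : VecGrp.ReductiveInvariantsFG k) :
    AGF.SubringFGOver k G (AGF.rTransInv i) ↔
      ∀ (A : Type u) [CommRing A] [Algebra k A] [Algebra.FiniteType k A] (ρ : VecGrp.GMod G A) (hρ : ρ.IsMult),
        Algebra.FiniteType k ↥(ρ.fixedSubalgebra hρ i) := by
  classical
  obtain ⟨C⟩ := nonempty_chart G
  obtain ⟨D⟩ := nonempty_chart H
  haveI := finiteType_chart C
  haveI := isReduced_chart C
  haveI := finiteType_chart D
  haveI := isReduced_chart D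
  rw [subringFGOver_iff_fg C D]
  set π := C.hom D i
  constructor
  · intro hS A _ _ _ ρ hρ
    obtain ⟨c, hc⟩ := exists_comod C ρ
    have hc1 : ∀ a : A, c.coact a =
        (Algebra.TensorProduct.comm k A C.A).symm (ρ.ρ C.A (C.pt (AlgHom.id k C.A)) ((1 : C.A) ⊗ₜ[k] a)) := fun a => by
      rw [hc, AlgHom.toLinearMap_id, LinearMap.lTensor_id]
      exact ((TensorProduct.comm k A C.A).symm_apply_apply _).symm
    let cA : A →ₐ[k] A ⊗[k] C.A := AlgHom.ofLinearMap c.coact (by
        rw [hc1, ← Algebra.TensorProduct.one_def, (hρ _ _).2, map_one]) (fun a b => by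
        rw [hc1, hc1, hc1, ← map_mul, ← (hρ _ _).1, Algebra.TensorProduct.tmul_mul_tmul, _root_.one_mul])
    have hA1 : ∀ a, pev pone (cA a) = a := fun a =>
      (congrArg (TensorProduct.rid k A) (LinearMap.congr_fun c.counit_comp a)).trans (by simp)
    have hA2 : ∀ (x y : C.A →ₐ[k] k) a, pev x (cA (pev y (cA a))) = pev (pmul x y) (cA a) := by
      intro x y a
      have h := congrArg (fun z => pev x (pev y ((TensorProduct.assoc k A C.A C.A).symm z))) (LinearMap.congr_fun c.coassoc a)
      simp only [LinearMap.comp_apply, LinearEquiv.coe_coe, LinearEquiv.symm_apply_apply] at h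
      rw [pev_rTensor] at h
      refine h.trans ?_
      show _ = pev (pmul x y) (c.coact a)
      induction c.coact a with
      | zero => simp
      | add p q hp hq => simp only [map_add, hp, hq]
      | tmul p q =>
        rw [LinearMap.lTensor_tmul, pev_tmul]
        show _ = Algebra.TensorProduct.lift x y (fun _ _ => mul_comm _ _) (Coalgebra.comul (R := k) q) • p
        induction Coalgebra.comul (R := k) q with
        | zero => simp
        | add a b ha hb => simp only [map_add, add_smul, TensorProduct.tmul_add, ha, hb]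
        | tmul a b => simp [pev_tmul, smul_smul, mul_comm]
    let S := invAlg π
    obtain ⟨lam, hlam⟩ := exists_lamS π
    let act : (C.A →ₐ[k] k) → A →ₐ[k] A := fun x => (pevA x).comp cA
    let L : (C.A →ₐ[k] k) → S →ₐ[k] S := fun x => (pevA x).comp lam
    let δ : A ⊗[k] S →ₐ[k] (A ⊗[k] S) ⊗[k] C.A := Algebra.TensorProduct.lift
      ((Algebra.TensorProduct.map (Algebra.TensorProduct.includeLeft : A →ₐ[k] A ⊗[k] S) (AlgHom.id k C.A)).comp cA)
      ((Algebra.TensorProduct.map (Algebra.TensorProduct.includeRight : S →ₐ[k] A ⊗[k] S) (AlgHom.id k C.A)).comp lam)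
      (fun _ _ => mul_comm (G := (A ⊗[k] S) ⊗[k] C.A) _ _)
    have hδ : ∀ x, (pevA x).comp δ = Algebra.TensorProduct.map (act x) (L x) := fun x =>
      Algebra.TensorProduct.ext
        (AlgHom.ext fun a => by simp [δ, act, L, pevA_map])
        (AlgHom.ext fun f => by simp [δ, act, L, pevA_map])
    have hδ' : ∀ x r, pev x (δ r) = Algebra.TensorProduct.map (act x) (L x) r := fun x r => by
      rw [← pevA_eq, ← hδ]; rfl
    have hL1 : L pone = AlgHom.id k S := AlgHom.ext fun f => Subtype.ext (by
      show ((pevA pone (lam f) : S) : C.A) = _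
      rw [hlam, pinv_pone]
      exact eq_of_pts (k := k) fun z => by rw [apply_lTr, pone_pmul]; rfl)
    have hL2 : ∀ x y, (L x).comp (L y) = L (pmul x y) := fun x y => AlgHom.ext fun f => Subtype.ext (by
      show ((pevA x (lam (pevA y (lam f))) : S) : C.A) = ((pevA (pmul x y) (lam f) : S) : C.A)
      rw [hlam, hlam, hlam, pinv_mul_rev]
      exact eq_of_pts (k := k) fun z => by rw [apply_lTr, apply_lTr, apply_lTr, pmul_assoc])
    have hA1' : act pone = AlgHom.id k A := AlgHom.ext fun a => (pevA_eq _ _).trans (hA1 a)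
    have hA2' : ∀ x y, (act x).comp (act y) = act (pmul x y) := fun x y => AlgHom.ext fun a => by
      show pevA x (cA (pevA y (cA a))) = pevA (pmul x y) (cA a)
      rw [pevA_eq, pevA_eq, pevA_eq, hA2]
    obtain ⟨ρR, hρR, hcR⟩ := exists_algGMod C δ (fun r => by
        rw [hδ', hA1', hL1, Algebra.TensorProduct.map_id]; rfl)
      (fun x y r => by
        rw [hδ', hδ', hδ', ← AlgHom.comp_apply, ← Algebra.TensorProduct.map_comp, hA2', hL2])
    haveI : Algebra.FiniteType k S := ⟨(Subalgebra.fg_top S).mpr hS⟩
    haveI : Algebra.FiniteType A (A ⊗[k] S) := inferInstance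
    haveI : Algebra.FiniteType k (A ⊗[k] S) := Algebra.FiniteType.trans (S := A) inferInstance inferInstance
    obtain ⟨t, ht, hle⟩ := thmA G hG (A ⊗[k] S) ρR hρR inferInstance
    let e : A ⊗[k] S →ₐ[k] A := Algebra.TensorProduct.lift (AlgHom.id k A)
      ((Algebra.ofId k A).comp ((pone : C.A →ₐ[k] k).comp S.val)) (fun _ _ => Commute.all _ _)
    have hfixR : ∀ r : A ⊗[k] S, r ∈ ρR.fixedUnder (𝟙 G) ↔ ∀ x, Algebra.TensorProduct.map (act x) (L x) r = r := by
      intro r
      rw [mem_fixed_iff C C (𝟙 G) ρR δ.toLinearMap hcR]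
      have hid : ∀ y : C.A →ₐ[k] k, y.comp (C.hom C (𝟙 G) : C.A →ₐ[k] C.A) = y := fun y =>
        (pt_bijective C).1 (by rw [← pt_comp C C, Category.comp_id])
      simp only [hid, AlgHom.toLinearMap_apply, hδ']
    have hfix : ∀ a, a ∈ ρ.fixedSubalgebra hρ i ↔ ∀ y : D.A →ₐ[k] k, act (y.comp (π : C.A →ₐ[k] D.A)) a = a := by
      intro a
      show a ∈ ρ.fixedUnder i ↔ _
      rw [mem_fixed_iff C D i ρ c.coact hc]
      exact forall_congr' fun y => by rw [show act (y.comp (π : C.A →ₐ[k] D.A)) a = pev _ (cA a) from pevA_eq _ _]; rfl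
    refine ⟨(Subalgebra.fg_top _).mpr ⟨t.image e, le_antisymm (Algebra.adjoin_le ?_) fun a ha => ?_⟩⟩
    · intro a ha
      obtain ⟨r, hr, rfl⟩ := Finset.mem_image.mp ha
      have hr' := (hfixR r).mp (ht hr)
      refine (hfix _).mpr fun y => ?_
      have he : (act (y.comp (π : C.A →ₐ[k] D.A))).comp e =
          e.comp (Algebra.TensorProduct.map (act (y.comp (π : C.A →ₐ[k] D.A))) (L (y.comp (π : C.A →ₐ[k] D.A)))) := by
        refine Algebra.TensorProduct.ext (AlgHom.ext fun a => by simp [e]) (AlgHom.ext fun f => ?_)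
        simp only [e, AlgHom.comp_apply, AlgHom.restrictScalars_apply, Algebra.TensorProduct.includeRight_apply,
          Algebra.TensorProduct.lift_tmul, Algebra.TensorProduct.map_tmul, map_one, _root_.one_mul]
        rw [show (Algebra.ofId k A) (pone (S.val f)) = algebraMap k A (pone (S.val f)) from rfl, AlgHom.commutes]
        refine congrArg (algebraMap k A) ?_
        show pone (f : C.A) = pone ((pevA _ (lam f) : S) : C.A)
        rw [hlam, apply_lTr, pmul_pone, ← inv_apply π f.2 (pinv (y.comp (π : C.A →ₐ[k] D.A))) y, pinv_pmul]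
      exact (AlgHom.congr_fun he r).trans (congrArg e (hr' _))
    · obtain ⟨r₀, hr₀⟩ := mem_range_tensor_of_semi π (cA a) fun x y => by
        rw [← hA2, ← pevA_eq (y.comp (π : C.A →ₐ[k] D.A))]
        exact congrArg (fun b => pev x (cA b)) ((hfix a).mp ha y)
      let inc := Algebra.TensorProduct.map (AlgHom.id k A) S.val
      have hinc : ∀ r, inc r = S.val.toLinearMap.lTensor A r := fun r => by
        induction r with
        | zero => simp
        | add p q hp hq => simp only [map_add, hp, hq]
        | tmul p q => simp [inc]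
      have hr₀' : inc r₀ = cA a := (hinc r₀).trans hr₀
      have hmem : r₀ ∈ ρR.fixedUnder (𝟙 G) := (hfixR r₀).mpr fun x => by
        refine Module.Flat.lTensor_preserves_injective_linearMap S.val.toLinearMap Subtype.val_injective ?_
        rw [← hinc, ← hinc]
        refine eq_of_pev fun z => ?_
        have hsq : ((pevA z).comp inc).comp (Algebra.TensorProduct.map (act x) (L x)) =
            (act x).comp ((pevA (pmul (pinv x) z)).comp inc) := by
          refine Algebra.TensorProduct.ext (AlgHom.ext fun b => by simp [inc, pevA]) (AlgHom.ext fun f => ?_)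
          simp only [inc, pevA, AlgHom.comp_apply, AlgHom.restrictScalars_apply, Algebra.TensorProduct.includeRight_apply,
            Algebra.TensorProduct.map_tmul, map_one, AlgHom.coe_id, id_eq, AlgEquiv.toAlgHom_eq_coe, AlgHom.coe_coe,
            Algebra.TensorProduct.rid_tmul, map_smul]
          show z ((pevA x (lam f) : S) : C.A) • (1 : A) = act x (pmul (pinv x) z (f : C.A) • (1 : A))
          rw [map_smul, map_one]
          congr 1
          rw [hlam, apply_lTr]
        rw [← pevA_eq, ← pevA_eq]
        refine (AlgHom.congr_fun hsq r₀).trans ?_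
        simp only [AlgHom.comp_apply, hr₀']
        show ((act x).comp (act (pmul (pinv x) z))) a = act z a
        rw [hA2', pinv_pmul_cancel]
      have hea : e r₀ = a := by
        have he : e = (pevA pone).comp inc := by
          refine Algebra.TensorProduct.ext (AlgHom.ext fun b => by simp [e, inc, pevA]) (AlgHom.ext fun f => ?_)
          simp [e, inc, pevA, Algebra.algebraMap_eq_smul_one, Algebra.ofId_apply]
        rw [he, AlgHom.comp_apply, hr₀', pevA_eq, hA1]
      rw [← hea, Finset.coe_image, ← AlgHom.map_adjoin]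
      exact ⟨r₀, hle hmem, rfl⟩
  · intro h
    have hrt : ∀ y f, pev y (Coalgebra.comul (R := k) (f : C.A)) = rTr y f := fun y f => eq_of_pts (k := k) fun z => by
      rw [apply_rTr]
      show _ = Algebra.TensorProduct.lift z y (fun _ _ => mul_comm _ _) (Coalgebra.comul (R := k) f)
      induction Coalgebra.comul (R := k) f with
      | zero => simp
      | add p q hp hq => simp only [map_add, hp, hq]
      | tmul p q => simp [pev_tmul, mul_comm]
    obtain ⟨ρ, hρ, hc⟩ := exists_algGMod C (Bialgebra.comulAlgHom k C.A)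
      (fun f => (hrt _ f).trans (eq_of_pts (k := k) fun z => by rw [apply_rTr, pmul_pone]))
      (fun x y f => by
        simp only [Bialgebra.comulAlgHom_apply, hrt]
        exact eq_of_pts (k := k) fun z => by rw [apply_rTr, apply_rTr, apply_rTr, pmul_assoc])
    have e : ρ.fixedSubalgebra hρ i = invAlg π := SetLike.ext fun f => by
      show f ∈ ρ.fixedUnder i ↔ Inv π f
      rw [mem_fixed_iff C D i ρ (Bialgebra.comulAlgHom k C.A).toLinearMap hc]
      refine ⟨fun hf => isSemi_of_pts _ fun x y => ?_, fun hf y => ?_⟩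
      · rw [map_one, _root_.mul_one, ← apply_rTr, ← hrt]
        exact congrArg x (hf y)
      · refine (hrt _ f).trans (eq_of_pts (k := k) fun z => ?_)
        rw [apply_rTr, inv_apply π hf]
    rw [← e]
    exact (Subalgebra.fg_top _).mp (h C.A ρ hρ).out

end Groth.Agent.ObsLib
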